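import Cfsg.Prelude.Def_Transfer
import Cfsg.Agent.Fusion.Transfer
import Cfsg.Agent.Fusion.Residual
import Mathlib.GroupTheory.GroupAction.Quotient
import Mathlib.GroupTheory.GroupAction.ConjAct
import Mathlib.GroupTheory.Perm.Cycle.Type

/-!
# Fusion of three-elements for an extraspecial Sylow three-subgroup of order twenty-seven

The Sylow subgroup has exponent three and its normaliser centralises its centre.
-/

set_option autoImplicit false

namespace Cfsg.Agent.ThreeExtra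

open Subgroup

universe u

variable {G : Type u} [Group G] [Finite G]

instance fact_three : Fact (Nat.Prime 3) := ⟨Nat.prime_three⟩

/-- The hypotheses, with a generator of the centre named. -/
structure Setup (P : Sylow 3 G) (z : G) : Prop where
  card : Nat.card (P : Subgroup G) = 27
  cube : ∀ x ∈ (P : Subgroup G), x ^ 3 = 1
  mem : z ∈ (P : Subgroup G)
  ne_one : z ≠ 1
  central : ∀ y ∈ (P : Subgroup G), z * y = y * z
  central_eq : ∀ w ∈ (P : Subgroup G), (∀ y ∈ (P : Subgroup G), w * y = y * w) → ∃ i : ℤ, z ^ i = w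
  comm_mem : ∀ x ∈ (P : Subgroup G), ∀ y ∈ (P : Subgroup G), ∃ i : ℤ, x * y * x⁻¹ * y⁻¹ = z ^ i
  nc : ∀ g ∈ normalizer ((P : Subgroup G) : Set G), g * z = z * g

theorem exists_setup (P : Sylow 3 G) (hE : Cfsg.IsExtraspecial 3 ↥(P : Subgroup G))
    (h27 : Nat.card ↥(P : Subgroup G) = 27) (hexp : ∀ x ∈ (P : Subgroup G), x ^ 3 = 1)
    (hNC : ∀ g ∈ normalizer ((P : Subgroup G) : Set G), ∀ z ∈ (P : Subgroup G),
      (∀ y ∈ (P : Subgroup G), z * y = y * z) → g * z = z * g) :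
    ∃ z, Setup P z := by
  obtain ⟨⟨-, -, hcomm⟩, hZ⟩ := hE
  haveI : Nontrivial (center ↥(P : Subgroup G)) :=
    Finite.one_lt_card_iff_nontrivial.1 (by rw [hZ]; norm_num)
  obtain ⟨c, hc⟩ := exists_ne (1 : center ↥(P : Subgroup G))
  have hgen : ∀ w : center ↥(P : Subgroup G), ∃ i : ℤ, c ^ i = w := fun w =>
    mem_zpowers_iff.1 (mem_zpowers_of_prime_card hZ hc)
  have hcen : ∀ y ∈ (P : Subgroup G), ((c : ↥(P : Subgroup G)) : G) * y = y * ((c : ↥(P : Subgroup G)) : G) :=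
    fun y hy => congrArg Subtype.val (mem_center_iff.1 c.2 ⟨y, hy⟩).symm
  refine ⟨((c : ↥(P : Subgroup G)) : G), h27, hexp, (c : ↥(P : Subgroup G)).2, ?_, hcen, fun w hw hwc => ?_,
    fun x hx y hy => ?_, fun g hg => hNC g hg _ (c : ↥(P : Subgroup G)).2 hcen⟩
  · exact fun e => hc (Subtype.ext (Subtype.ext e))
  · obtain ⟨i, hi⟩ := hgen ⟨⟨w, hw⟩, mem_center_iff.2 fun y => Subtype.ext (hwc y y.2).symm⟩
    exact ⟨i, by rw [← Subgroup.coe_zpow, ← Subgroup.coe_zpow, hi]⟩
  · have h1 : (⟨x, hx⟩ : ↥(P : Subgroup G)) * ⟨y, hy⟩ * ⟨x, hx⟩⁻¹ * ⟨y, hy⟩⁻¹ ∈ center ↥(P : Subgroup G) := by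
      rw [← hcomm, commutator_def, ← commutatorElement_def]
      exact commutator_mem_commutator (mem_top _) (mem_top _)
    obtain ⟨i, hi⟩ := hgen ⟨_, h1⟩
    refine ⟨i, ?_⟩
    have h2 := congrArg (fun w : center ↥(P : Subgroup G) => ((w : ↥(P : Subgroup G)) : G)) hi
    simp only [Subgroup.coe_zpow, Subgroup.coe_mul, InvMemClass.coe_inv] at h2
    exact h2.symm

/-- A three-element of a subgroup is conjugate there into a given Sylow subgroup of it. -/
theorem into_sylow {C : Subgroup G} (T : Sylow 3 C) {g : G} (hg : g ∈ C) (h3 : ∃ k, g ^ 3 ^ k = 1) :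
    ∃ c : C, c * ⟨g, hg⟩ * c⁻¹ ∈ (T : Subgroup C) := by
  obtain ⟨k, hk⟩ := h3
  have hp : IsPGroup 3 (zpowers (⟨g, hg⟩ : C)) := fun y => ⟨k, by
    obtain ⟨i, hi⟩ := mem_zpowers_iff.1 y.2
    refine Subtype.ext ?_
    rw [Subgroup.coe_pow, ← hi, ← zpow_natCast, ← _root_.zpow_mul, mul_comm, _root_.zpow_mul, zpow_natCast,
      show (⟨g, hg⟩ : C) ^ 3 ^ k = 1 from Subtype.ext hk, one_zpow]
    rfl⟩
  obtain ⟨R, hR⟩ := hp.exists_le_sylow
  obtain ⟨c, hc⟩ := MulAction.exists_smul_eq C R T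
  refine ⟨c, ?_⟩
  rw [← hc, Sylow.coe_subgroup_smul]
  exact ⟨_, hR (mem_zpowers _), rfl⟩

/-- An element carrying the Sylow subgroup into an overgroup of it can be corrected there to normalise it. -/
theorem exists_mul_mem_normalizer (P : Sylow 3 G) {C : Subgroup G} (hP : (P : Subgroup G) ≤ C) {g : G}
    (hg : ∀ p ∈ (P : Subgroup G), g * p * g⁻¹ ∈ C) :
    ∃ c ∈ C, c * g ∈ normalizer ((P : Subgroup G) : Set G) := by
  set Q : Sylow 3 G := g • P with hQ
  have hQC : (Q : Subgroup G) ≤ C := by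
    rw [hQ, Sylow.coe_subgroup_smul]; rintro _ ⟨p, hp, rfl⟩; exact hg p hp
  obtain ⟨c, hc⟩ := MulAction.exists_smul_eq C (Q.subtype hQC) (P.subtype hP)
  refine ⟨c, c.2, mem_normalizer_fintype fun p hp => ?_⟩
  have hpQ : g * p * g⁻¹ ∈ (Q : Subgroup G) := by
    rw [hQ, Sylow.coe_subgroup_smul]; exact ⟨p, hp, rfl⟩
  have h1 : c * (⟨g * p * g⁻¹, hQC hpQ⟩ : C) * c⁻¹ ∈ ((P.subtype hP : Sylow 3 C) : Subgroup C) := by
    rw [← hc, Sylow.coe_subgroup_smul]
    exact ⟨_, mem_subgroupOf.2 hpQ, rfl⟩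
  have h2 : (c : G) * (g * p * g⁻¹) * (c : G)⁻¹ ∈ (P : Subgroup G) := mem_subgroupOf.1 h1
  rwa [SetLike.mem_coe, show (c : G) * g * p * ((c : G) * g)⁻¹ = (c : G) * (g * p * g⁻¹) * (c : G)⁻¹ by group]

/-- The elements commuting with `z` that move `b` only in its coset by powers of `z`. -/
def cosetStab (z b : G) : Subgroup G where
  carrier := {x | x * z = z * x ∧ ∃ i : ℤ, x * b * x⁻¹ = b * z ^ i}
  one_mem' := ⟨by rw [one_mul, mul_one], 0, by simp⟩
  mul_mem' := by
    rintro x y ⟨hx, i, hi⟩ ⟨hy, j, hj⟩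
    refine ⟨((show Commute x z from hx).mul_left hy).eq, i + j, ?_⟩
    rw [show x * y * b * (x * y)⁻¹ = x * (y * b * y⁻¹) * x⁻¹ by group, hj,
      show x * (b * z ^ j) * x⁻¹ = (x * b * x⁻¹) * (x * z ^ j * x⁻¹) by group, hi,
      ((show Commute x z from hx).zpow_right j).eq, mul_inv_cancel_right, zpow_add, mul_assoc]
  inv_mem' := by
    rintro x ⟨hx, i, hi⟩
    refine ⟨((show Commute x z from hx).inv_left).eq, -i, ?_⟩
    have h1 : b = x⁻¹ * (b * z ^ i) * x := by rw [← hi]; group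
    rw [show x⁻¹ * (b * z ^ i) * x = (x⁻¹ * b * x) * (x⁻¹ * z ^ i * x) by group, mul_assoc x⁻¹ (z ^ i),
      ← ((show Commute x z from hx).zpow_right i).eq, inv_mul_cancel_left] at h1
    rw [zpow_neg, inv_inv, eq_mul_inv_iff_mul_eq]
    exact h1.symm

omit [Finite G] in
theorem mem_cosetStab {z b x : G} :
    x ∈ cosetStab z b ↔ x * z = z * x ∧ ∃ i : ℤ, x * b * x⁻¹ = b * z ^ i := Iff.rfl

namespace Setup

variable {P : Sylow 3 G} {z : G} (S : Setup P z)
include S

theorem orderOf_z : orderOf z = 3 := orderOf_eq_prime (S.cube z S.mem) S.ne_one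

theorem le_cent : (P : Subgroup G) ≤ centralizer ({z} : Set G) := fun y hy =>
  mem_centralizer_singleton_iff.2 (S.central y hy).symm

theorem zpow_mem (i : ℤ) : z ^ i ∈ (P : Subgroup G) := Subgroup.zpow_mem _ S.mem i

theorem zpow_cases (i : ℤ) : z ^ i = 1 ∨ z ^ i = z ∨ z ^ i = z⁻¹ := by
  have h : z ^ i = z ^ (i % 3) := by
    conv_lhs => rw [← Int.emod_add_mul_ediv i 3, zpow_add, _root_.zpow_mul,
      show z ^ (3 : ℤ) = 1 from (zpow_natCast z 3).trans (S.cube z S.mem), one_zpow, mul_one]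
  rcases (show i % 3 = 0 ∨ i % 3 = 1 ∨ i % 3 = 2 by omega) with e | e | e <;> rw [h, e]
  · exact Or.inl (zpow_zero z)
  · exact Or.inr (Or.inl (zpow_one z))
  · refine Or.inr (Or.inr (eq_inv_of_mul_eq_one_left ?_))
    rw [show (2 : ℤ) = ((2 : ℕ) : ℤ) from rfl, zpow_natCast, ← pow_succ]
    exact S.cube z S.mem

theorem z_ne_inv : z ≠ z⁻¹ := fun e => S.ne_one (by
  have h2 : z * z = 1 := mul_eq_one_iff_eq_inv.2 e
  have h3 := S.cube z S.mem
  rwa [pow_succ, pow_two, h2, one_mul] at h3)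

/-- An element of the Sylow subgroup is central, or its conjugates there fill its coset of the centre. -/
theorem move {a : G} (ha : a ∈ (P : Subgroup G)) (hna : ∀ i : ℤ, z ^ i ≠ a) (i : ℤ) :
    ∃ p ∈ (P : Subgroup G), p * a * p⁻¹ = a * z ^ i := by
  obtain ⟨y, hy, hne⟩ : ∃ y ∈ (P : Subgroup G), a * y ≠ y * a := by
    by_contra hcon
    push Not at hcon
    obtain ⟨j, hj⟩ := S.central_eq a ha hcon
    exact hna j hj
  obtain ⟨j, hj⟩ := S.comm_mem y hy a ha
  have hza : Commute z a := S.central a ha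
  have hzy : Commute z y := S.central y hy
  have hya : y * a * y⁻¹ = a * z ^ j := by
    rw [← (hza.zpow_left j).eq, ← hj]; group
  have hit : ∀ k : ℕ, y ^ k * a * (y ^ k)⁻¹ = a * z ^ (j * k) := by
    intro k
    induction k with
    | zero => simp
    | succ k ih =>
      rw [pow_succ', show y * y ^ k * a * (y * y ^ k)⁻¹ = y * (y ^ k * a * (y ^ k)⁻¹) * y⁻¹ by group, ih,
        show y * (a * z ^ (j * k)) * y⁻¹ = y * a * (z ^ (j * k) * y⁻¹) by group,
        ((hzy.zpow_left (j * k)).inv_right).eq, ← mul_assoc, hya, mul_assoc, ← zpow_add, Nat.cast_succ]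
      congr 2
      ring
  have hj0 : z ^ j ≠ 1 := fun e => hne (by
    rw [e, mul_one, mul_inv_eq_iff_eq_mul] at hya
    exact hya.symm)
  obtain ⟨k, hk⟩ : ∃ k : ℕ, (z ^ j) ^ k = z ^ i := by
    have h2 : z * z = z⁻¹ := eq_inv_of_mul_eq_one_left (by
      have h3 := S.cube z S.mem
      rwa [pow_succ, pow_two] at h3)
    rcases S.zpow_cases i with e | e | e <;> rw [e]
    · exact ⟨0, pow_zero _⟩
    all_goals rcases S.zpow_cases j with e' | e' | e' <;> rw [e']
    all_goals first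
      | exact absurd e' hj0
      | exact ⟨1, pow_one _⟩
      | exact ⟨2, by rw [pow_two]; exact h2⟩
      | exact ⟨2, by rw [pow_two, ← mul_inv_rev, h2, inv_inv]⟩
  exact ⟨y ^ k, pow_mem hy k, by rw [hit k, _root_.zpow_mul, zpow_natCast, hk]⟩

/-- The generator of the centre is not conjugate to its inverse. -/
theorem not_conj_inv (g : G) : g * z * g⁻¹ ≠ z⁻¹ := by
  intro hg
  set C := centralizer ({z} : Set G)
  have hle : (P : Subgroup G).map (MulAut.conj g).toMonoidHom ≤ C := by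
    rintro _ ⟨p, hp, rfl⟩
    have h1 : Commute (g * p * g⁻¹) (g * z * g⁻¹) :=
      (show Commute p z from (S.central p hp).symm).map (MulAut.conj g).toMonoidHom
    rw [hg] at h1
    exact mem_centralizer_singleton_iff.2 (Commute.inv_right_iff.1 h1).eq
  obtain ⟨c, hcC, hn⟩ := exists_mul_mem_normalizer P S.le_cent fun p hp => hle ⟨p, hp, rfl⟩
  refine S.z_ne_inv ?_
  have h1 := S.nc _ hn
  calc z = c * g * z * (c * g)⁻¹ := by rw [h1]; group
    _ = c * (g * z * g⁻¹) * c⁻¹ := by group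
    _ = z⁻¹ := by
      rw [hg, ((show Commute c z from mem_centralizer_singleton_iff.1 hcC).inv_right).eq,
        mul_inv_cancel_right]

/-- A three-element of a subgroup containing the Sylow subgroup is conjugate there into it. -/
theorem into_P {H : Subgroup G} (hH : (P : Subgroup G) ≤ H) {g : G} (hg : g ∈ H)
    (h3 : ∃ k, g ^ 3 ^ k = 1) : ∃ h ∈ H, h * g * h⁻¹ ∈ (P : Subgroup G) := by
  obtain ⟨c, hc⟩ := into_sylow (P.subtype hH) hg h3
  exact ⟨c, c.2, mem_subgroupOf.1 hc⟩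

/-- The central element is isolated in the Sylow subgroup. -/
theorem isolated {g : G} (hg : g * z * g⁻¹ ∈ (P : Subgroup G)) : g * z * g⁻¹ = z := by
  set a := g * z * g⁻¹ with ha
  by_cases hcen : ∃ i : ℤ, z ^ i = a
  · obtain ⟨i, hi⟩ := hcen
    rcases S.zpow_cases i with e | e | e
    · exact absurd (conj_eq_one_iff.1 (ha ▸ hi.symm.trans e)) S.ne_one
    · exact hi.symm.trans e
    · exact absurd (ha ▸ hi.symm.trans e) (S.not_conj_inv g)
  push Not at hcen
  exfalso
  have hPa : (P : Subgroup G).map (MulAut.conj g).toMonoidHom ≤ centralizer ({a} : Set G) := by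
    rintro _ ⟨p, hp, rfl⟩
    exact mem_centralizer_singleton_iff.2
      ((show Commute p z from (S.central p hp).symm).map (MulAut.conj g).toMonoidHom).eq
  have hQa : ((g • P : Sylow 3 G) : Subgroup G) ≤ centralizer ({a} : Set G) := by
    rw [Sylow.coe_subgroup_smul]; exact hPa
  -- bring z into the conjugate Sylow subgroup inside the centraliser of a
  obtain ⟨R, hR⟩ := (show IsPGroup 3 (zpowers (⟨z, mem_centralizer_singleton_iff.2 (S.central a hg)⟩ :
      centralizer ({a} : Set G))) from IsPGroup.of_card (n := 1) (by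
    rw [Nat.card_zpowers, orderOf_mk, S.orderOf_z, pow_one])).exists_le_sylow
  obtain ⟨c, hc⟩ := MulAction.exists_smul_eq (centralizer ({a} : Set G)) R ((g • P).subtype hQa)
  set k := g⁻¹ * (c : G) with hk
  have hka : k * a * k⁻¹ = z := by
    rw [hk, show g⁻¹ * (c : G) * a * (g⁻¹ * (c : G))⁻¹ = g⁻¹ * ((c : G) * a * (c : G)⁻¹) * g by group,
      mem_centralizer_singleton_iff.1 c.2, mul_inv_cancel_right, ha]
    group
  set z' := k * z * k⁻¹ with hz'
  have hz'P : z' ∈ (P : Subgroup G) := by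
    have h1 : c * ⟨z, mem_centralizer_singleton_iff.2 (S.central a hg)⟩ * c⁻¹ ∈
        (((g • P).subtype hQa : Sylow 3 (centralizer ({a} : Set G))) : Subgroup (centralizer ({a} : Set G))) := by
      rw [← hc, Sylow.coe_subgroup_smul]
      exact ⟨_, hR (mem_zpowers _), rfl⟩
    have h2 : (c : G) * z * (c : G)⁻¹ ∈ ((g • P : Sylow 3 G) : Subgroup G) := mem_subgroupOf.1 h1
    rw [Sylow.coe_subgroup_smul] at h2
    obtain ⟨p, hp, hpe⟩ := h2
    have : z' = p := by
      rw [hz', hk, show g⁻¹ * (c : G) * z * (g⁻¹ * (c : G))⁻¹ = g⁻¹ * ((c : G) * z * (c : G)⁻¹) * g by group,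
        ← hpe]
      show g⁻¹ * (g * p * g⁻¹) * g = p
      group
    rw [this]; exact hp
  have hz'n : ∀ i : ℤ, z ^ i ≠ z' := fun i hi => by
    rcases S.zpow_cases i with e | e | e
    · exact S.ne_one (conj_eq_one_iff.1 (hz' ▸ hi.symm.trans e))
    · refine hcen 1 ?_
      rw [zpow_one]
      exact mul_left_cancel (mul_right_cancel ((hz' ▸ hi.symm.trans e).trans hka.symm))
    · exact S.not_conj_inv k (hz' ▸ hi.symm.trans e)
  obtain ⟨p, hp, hpz⟩ := S.move hz'P hz'n 1
  rw [zpow_one] at hpz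
  -- two transvections
  set y' := k⁻¹ * p * k with hy'
  have hy'z : y' * z * y'⁻¹ = z * a := by
    calc y' * z * y'⁻¹ = k⁻¹ * (p * z' * p⁻¹) * k := by rw [hy', hz']; group
      _ = k⁻¹ * (k * z * k⁻¹) * (k * a * k⁻¹) * k := by rw [hpz, hz', hka]; group
      _ = z * a := by group
  have hy'a : y' * a * y'⁻¹ = a := by
    calc y' * a * y'⁻¹ = k⁻¹ * (p * (k * a * k⁻¹) * p⁻¹) * k := by rw [hy']; group
      _ = k⁻¹ * z * k := by rw [hka, ← S.central p hp, mul_inv_cancel_right]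
      _ = a := by rw [← hka]; group
  obtain ⟨y, hy, hya⟩ := S.move hg hcen 1
  rw [zpow_one] at hya
  have hyz : y * z * y⁻¹ = z := by rw [← S.central y hy, mul_inv_cancel_right]
  have hza : z * a = a * z := S.central a hg
  have hy1 : y'⁻¹ * z * y' = z * a⁻¹ := by
    have e : z = (y'⁻¹ * z * y') * a := by
      calc z = y'⁻¹ * (y' * z * y'⁻¹) * y' := by group
        _ = y'⁻¹ * (z * (y' * a * y'⁻¹)) * y' := by rw [hy'z, hy'a]
        _ = _ := by group
    conv_rhs => rw [e]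
    group
  have hy2 : y'⁻¹ * a * y' = a := by
    calc y'⁻¹ * a * y' = y'⁻¹ * (y' * a * y'⁻¹) * y' := by rw [hy'a]
      _ = a := by group
  set s := y * y'⁻¹ * y with hs
  have hsz : s * z * s⁻¹ = a⁻¹ := by
    calc s * z * s⁻¹ = y * (y'⁻¹ * (y * z * y⁻¹) * y') * y⁻¹ := by rw [hs]; group
      _ = (y * z * y⁻¹) * (y * a * y⁻¹)⁻¹ := by
          rw [hyz, hy1]; nth_rewrite 2 [← hyz]; group
      _ = a⁻¹ := by rw [hyz, hya, mul_inv_rev]; group
  have hsa : s * a * s⁻¹ = z := by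
    calc s * a * s⁻¹ = y * (y'⁻¹ * (y * a * y⁻¹) * y') * y⁻¹ := by rw [hs]; group
      _ = y * ((y'⁻¹ * a * y') * (y'⁻¹ * z * y')) * y⁻¹ := by rw [hya]; group
      _ = y * z * y⁻¹ := by
          rw [hy2, hy1, ← mul_assoc a z, ← hza, mul_assoc z a, mul_inv_cancel, mul_one]
      _ = z := hyz
  refine S.not_conj_inv (s * s) ?_
  rw [show s * s * z * (s * s)⁻¹ = s * (s * z * s⁻¹) * s⁻¹ by group, hsz, ← conj_inv, hsa]

theorem isolated_H {g : G} (hg : g * z * g⁻¹ ∈ (P : Subgroup G)) : g ∈ centralizer ({z} : Set G) :=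
  mem_centralizer_singleton_iff.2 (mul_inv_eq_iff_eq_mul.1 (S.isolated hg))

/-- Orbit of a noncentral element under a subgroup moving it only in its coset. -/
theorem card_stab {a : G} (ha : a ∈ (P : Subgroup G)) (hna : ∀ i : ℤ, z ^ i ≠ a) {K : Subgroup G}
    (hPK : (P : Subgroup G) ≤ K) (hK : ∀ s ∈ K, ∃ i : ℤ, s * a * s⁻¹ = a * z ^ i) :
    Nat.card K = 3 * Nat.card (K ⊓ centralizer ({a} : Set G) : Subgroup G) := by
  classical
  letI : MulAction K G := MulAction.compHom G ((ConjAct.toConjAct : G ≃* ConjAct G).toMonoidHom.comp K.subtype)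
  have hsm : ∀ (f : K) (b : G), f • b = (f : G) * b * (f : G)⁻¹ := fun f b =>
    ConjAct.smul_def (ConjAct.toConjAct (f : G)) b
  have horb : MulAction.orbit K a = ↑({a, a * z, a * z⁻¹} : Finset G) := by
    ext b
    simp only [Finset.coe_insert, Finset.coe_singleton, Set.mem_insert_iff, Set.mem_singleton_iff]
    constructor
    · rintro ⟨f, rfl⟩
      obtain ⟨i, hi⟩ := hK f f.2
      show f • a = a ∨ f • a = a * z ∨ f • a = a * z⁻¹
      rw [hsm, hi]
      rcases S.zpow_cases i with e | e | e <;> rw [e] <;> simp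
    · intro hb
      obtain ⟨i, hi⟩ : ∃ i : ℤ, b = a * z ^ i := by
        rcases hb with e | e | e
        · exact ⟨0, by rw [e, zpow_zero, mul_one]⟩
        · exact ⟨1, by rw [e, zpow_one]⟩
        · exact ⟨-1, by rw [e, zpow_neg_one]⟩
      obtain ⟨p, hp, hpa⟩ := S.move ha hna i
      exact ⟨⟨p, hPK hp⟩, (hsm _ _).trans (hpa.trans hi.symm)⟩
  have hcard : Nat.card (MulAction.orbit K a) = 3 := by
    rw [horb, Nat.card_coe_set_eq, Set.ncard_coe_finset, Finset.card_insert_of_notMem, Finset.card_pair]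
    · exact fun e => S.z_ne_inv (mul_left_cancel e)
    · simp only [Finset.mem_insert, Finset.mem_singleton, not_or]
      exact ⟨fun e => S.ne_one (mul_eq_left.mp e.symm), fun e => S.ne_one (inv_eq_one.1 (mul_eq_left.mp e.symm))⟩
  have hst : MulAction.stabilizer K a = (K ⊓ centralizer ({a} : Set G)).subgroupOf K := by
    ext f
    rw [MulAction.mem_stabilizer_iff, hsm, mul_inv_eq_iff_eq_mul, mem_subgroupOf, mem_inf,
      mem_centralizer_singleton_iff]
    exact ⟨fun e => ⟨f.2, e⟩, fun e => e.2⟩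
  have h1 := card_mul_index (MulAction.stabilizer K a)
  rw [index_eq_card, ← Nat.card_congr (MulAction.orbitEquivQuotientStabilizer K a), hcard, hst,
    Nat.card_congr (subgroupOfEquivOfLe (inf_le_left : K ⊓ centralizer ({a} : Set G) ≤ K)).toEquiv] at h1
  rw [← h1, mul_comm]

theorem coset_P {a : G} (ha : a ∈ (P : Subgroup G)) {s : G} (hs : s ∈ (P : Subgroup G)) :
    ∃ i : ℤ, s * a * s⁻¹ = a * z ^ i := by
  obtain ⟨i, hi⟩ := S.comm_mem s hs a ha
  exact ⟨i, by rw [← ((show Commute z a from S.central a ha).zpow_left i).eq, ← hi]; group⟩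

theorem card_cent_P {a : G} (ha : a ∈ (P : Subgroup G)) (hna : ∀ i : ℤ, z ^ i ≠ a) :
    Nat.card ((P : Subgroup G) ⊓ centralizer ({a} : Set G) : Subgroup G) = 9 := by
  have := S.card_stab ha hna le_rfl fun s hs => S.coset_P ha hs
  rw [S.card] at this
  omega

theorem cent_P_elems {a : G} (ha : a ∈ (P : Subgroup G)) (hna : ∀ i : ℤ, z ^ i ≠ a) {d : G}
    (hd : d ∈ (P : Subgroup G)) (hda : d * a = a * d) : ∃ i j : ℕ, d = a ^ i * z ^ j := by
  have hza : Commute z a := S.central a ha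
  let f : Fin 3 × Fin 3 → ((P : Subgroup G) ⊓ centralizer ({a} : Set G) : Subgroup G) := fun p =>
    ⟨a ^ (p.1 : ℕ) * z ^ (p.2 : ℕ), mul_mem (pow_mem ha _) (pow_mem S.mem _), mem_centralizer_singleton_iff.2
      (((Commute.refl a).pow_left _).mul_left (hza.pow_left _)).eq⟩
  have hinj : Function.Injective f := by
    rintro ⟨i, j⟩ ⟨i', j'⟩ e
    have e' : a ^ (i : ℕ) * z ^ (j : ℕ) = a ^ (i' : ℕ) * z ^ (j' : ℕ) := congrArg Subtype.val e
    have hi : (i : ℕ) = i' := by
      by_contra hne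
      have h1 : a ^ ((i : ℤ) - i') = z ^ ((j' : ℤ) - j) := by
        rw [zpow_sub, zpow_natCast, zpow_natCast, zpow_sub, zpow_natCast, zpow_natCast, mul_inv_eq_iff_eq_mul,
          mul_assoc, ((hza.pow_pow _ _).inv_left).eq, ← mul_assoc, eq_mul_inv_iff_mul_eq, e',
          (hza.pow_pow _ _).eq]
      have ha3 : a ^ (3 : ℤ) = 1 := (zpow_natCast a 3).trans (S.cube a ha)
      rcases (show (i : ℤ) - i' = 1 ∨ (i : ℤ) - i' = -1 ∨ (i : ℤ) - i' = 2 ∨ (i : ℤ) - i' = -2 by
        have := i.2; have := i'.2; omega) with h | h | h | h <;> rw [h] at h1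
      · rw [zpow_one] at h1; exact hna _ h1.symm
      · rw [zpow_neg_one, inv_eq_iff_eq_inv, ← zpow_neg] at h1; exact hna _ h1.symm
      · rw [show (2 : ℤ) = 3 + -1 by rfl, zpow_add, ha3, one_mul, zpow_neg_one, inv_eq_iff_eq_inv, ← zpow_neg] at h1
        exact hna _ h1.symm
      · rw [show (-2 : ℤ) = 1 + -3 by rfl, zpow_add, zpow_neg, zpow_one, ha3, inv_one, mul_one] at h1
        exact hna _ h1.symm
    rw [hi] at e'
    have hj := pow_injOn_Iio_orderOf (x := z) (by rw [S.orderOf_z]; exact j.2)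
      (by rw [S.orderOf_z]; exact j'.2) (mul_left_cancel e')
    exact Prod.ext (Fin.ext hi) (Fin.ext hj)
  have hbij : Function.Bijective f := by
    rw [Nat.bijective_iff_injective_and_card]
    exact ⟨hinj, by rw [S.card_cent_P ha hna, Nat.card_eq_fintype_card]; rfl⟩
  obtain ⟨p, hp⟩ := hbij.2 ⟨d, hd, mem_centralizer_singleton_iff.2 hda⟩
  exact ⟨p.1, p.2, (congrArg Subtype.val hp).symm⟩

/-- The centralisers of noncentral elements. -/
theorem cent_noncentral {a : G} (ha : a ∈ (P : Subgroup G)) (hna : ∀ i : ℤ, z ^ i ≠ a) :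
    Cfsg.HasNormalPComplement 3 (centralizer ({a} : Set G)) ∧
      ∀ T : Sylow 3 (centralizer ({a} : Set G)), Nat.card T = 9 := by
  set C := centralizer ({a} : Set G)
  have h9 : Nat.card (((P : Subgroup G) ⊓ C).subgroupOf C) = 9 := by
    rw [Nat.card_congr (subgroupOfEquivOfLe inf_le_right).toEquiv, S.card_cent_P ha hna]
  obtain ⟨T, hT⟩ := (IsPGroup.of_card (G := ((P : Subgroup G) ⊓ C).subgroupOf C) (p := 3) (n := 2)
    (by rw [h9]; norm_num)).exists_le_sylow
  have hT9 : Nat.card T = 9 := by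
    obtain ⟨n, hn⟩ := T.2.exists_card_eq
    have hle := card_le_of_le hT
    rw [h9, hn] at hle
    by_contra hne
    rw [hn] at hne
    have hn3 : 3 ≤ n := by
      by_contra hlt
      interval_cases n <;> simp_all
    -- then a is central in a Sylow subgroup of the whole group
    obtain ⟨R, hR⟩ := (T.2.map C.subtype).exists_le_sylow
    have hRT : (R : Subgroup G) = (T : Subgroup C).map C.subtype := by
      refine (eq_of_le_of_card_ge hR ?_).symm
      rw [card_map_of_injective C.subtype_injective, hn, Nat.card_congr (R.equiv P).toEquiv, S.card]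
      exact (Nat.pow_le_pow_right (by norm_num) hn3).trans' (by norm_num)
    obtain ⟨g, hgR⟩ := MulAction.exists_smul_eq G R P
    have hmem : ∀ r ∈ (R : Subgroup G), g * r * g⁻¹ ∈ (P : Subgroup G) := fun r hr => by
      rw [← hgR, Sylow.coe_subgroup_smul]; exact ⟨r, hr, rfl⟩
    have haR : a ∈ (R : Subgroup G) := by
      rw [hRT]
      exact ⟨⟨a, mem_centralizer_singleton_iff.2 rfl⟩, hT (mem_subgroupOf.2
        ⟨ha, mem_centralizer_singleton_iff.2 rfl⟩), rfl⟩
    obtain ⟨i, hi⟩ := S.central_eq _ (hmem a haR) fun y hy => by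
      have hyR : g⁻¹ * y * g ∈ (R : Subgroup G) := by
        rw [← hgR, Sylow.coe_subgroup_smul] at hy
        obtain ⟨r, hr, rfl⟩ := hy
        show g⁻¹ * (g * r * g⁻¹) * g ∈ _
        rw [show g⁻¹ * (g * r * g⁻¹) * g = r by group]; exact hr
      rw [hRT] at hyR
      obtain ⟨t, -, ht⟩ := hyR
      have hcom : Commute a (g⁻¹ * y * g) := by
        rw [← ht]; exact (mem_centralizer_singleton_iff.1 t.2).symm
      have := hcom.map (MulAut.conj g).toMonoidHom
      rw [show (MulAut.conj g).toMonoidHom (g⁻¹ * y * g) = y by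
        show g * (g⁻¹ * y * g) * g⁻¹ = y; group] at this
      exact this.eq
    have hai : a = g⁻¹ * z ^ i * g⁻¹⁻¹ := by rw [hi]; group
    rcases S.zpow_cases i with e | e | e <;> rw [e] at hai
    · exact hna 0 (by rw [zpow_zero, hai]; group)
    · exact hna 1 (by rw [zpow_one, hai]; exact (S.isolated (hai ▸ ha)).symm)
    · refine hna (-1) ?_
      rw [zpow_neg_one, hai, ← conj_inv, S.isolated (by rw [← inv_mem_iff, conj_inv, ← hai]; exact ha)]
  have hT' : (T : Subgroup C) = ((P : Subgroup G) ⊓ C).subgroupOf C :=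
    (eq_of_le_of_card_ge hT (by rw [h9, hT9])).symm
  refine ⟨Fusion.hasNormalPComplement_of_normalizer_le_centralizer T fun n hn => ?_, fun U => ?_⟩
  · rw [mem_centralizer_iff]
    intro d hd
    have hd' : (d : G) ∈ (P : Subgroup G) := by
      have h1 : d ∈ (T : Subgroup C) := hd
      rw [hT'] at h1; exact (mem_subgroupOf.1 h1).1
    obtain ⟨i, j, hij⟩ := S.cent_P_elems ha hna hd' (mem_centralizer_singleton_iff.1 d.2)
    have hzC : z ∈ C := mem_centralizer_singleton_iff.2 (S.central a ha)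
    have hnz : (n : G) * z = z * n := by
      refine mem_centralizer_singleton_iff.1 (S.isolated_H ?_)
      have h1 := (mem_normalizer_iff.1 hn ⟨z, hzC⟩).1 (by rw [hT', mem_subgroupOf]; exact ⟨S.mem, hzC⟩)
      rw [hT', mem_subgroupOf] at h1
      exact h1.1
    refine Subtype.ext ?_
    show (d : G) * n = n * d
    rw [hij]
    exact ((((show Commute (n : G) a from mem_centralizer_singleton_iff.1 n.2).pow_right i).mul_right
      ((show Commute (n : G) z from hnz).pow_right j)).symm).eq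
  · exact (Nat.card_congr (U.equiv T).toEquiv).trans hT9

theorem cube_pow {a : G} (ha : a ∈ (P : Subgroup G)) : ∃ k, a ^ 3 ^ k = 1 :=
  ⟨1, by rw [pow_one]; exact S.cube a ha⟩

theorem normalizer_le : normalizer ((P : Subgroup G) : Set G) ≤ centralizer ({z} : Set G) := fun g hg =>
  mem_centralizer_singleton_iff.2 (S.nc g hg)

theorem conj_mem {n : G} (hn : n ∈ normalizer ((P : Subgroup G) : Set G)) {a : G}
    (ha : a ∈ (P : Subgroup G)) : n * a * n⁻¹ ∈ (P : Subgroup G) := (mem_normalizer_iff.1 hn a).1 ha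

theorem conj_noncentral {n : G} (hn : n ∈ normalizer ((P : Subgroup G) : Set G)) {a : G}
    (hna : ∀ i : ℤ, z ^ i ≠ a) (i : ℤ) : z ^ i ≠ n * a * n⁻¹ := by
  intro e
  refine hna i ?_
  have h1 : n * z ^ i * n⁻¹ = n * a * n⁻¹ := by
    rw [((show Commute n z from S.nc n hn).zpow_right i).eq, mul_inv_cancel_right, e]
  exact mul_left_cancel (mul_right_cancel h1)

/-- Fusion of noncentral elements happens in the centraliser of the centre. -/
theorem fusion_G {a b g : G} (ha : a ∈ (P : Subgroup G)) (hb : b ∈ (P : Subgroup G))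
    (hnb : ∀ i : ℤ, z ^ i ≠ b) (hg : g * a * g⁻¹ = b) :
    ∃ h ∈ centralizer ({z} : Set G), h * a * h⁻¹ = b := by
  set C := centralizer ({b} : Set G)
  have h9 : Nat.card (((P : Subgroup G) ⊓ C).subgroupOf C) = 9 := by
    rw [Nat.card_congr (subgroupOfEquivOfLe inf_le_right).toEquiv, S.card_cent_P hb hnb]
  obtain ⟨T, hT⟩ := (IsPGroup.of_card (G := ((P : Subgroup G) ⊓ C).subgroupOf C) (p := 3) (n := 2)
    (by rw [h9]; norm_num)).exists_le_sylow
  have hT' : (T : Subgroup C) = ((P : Subgroup G) ⊓ C).subgroupOf C :=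
    (eq_of_le_of_card_ge hT (by rw [h9]; exact ((S.cent_noncentral hb hnb).2 T).le)).symm
  have hzb : g * z * g⁻¹ ∈ C := mem_centralizer_singleton_iff.2 (hg ▸
    ((show Commute z a from S.central a ha).map (MulAut.conj g).toMonoidHom).eq)
  obtain ⟨c, hc⟩ := into_sylow T hzb ⟨1, by
    rw [pow_one, conj_pow, S.cube z S.mem, mul_one, mul_inv_cancel]⟩
  rw [hT', mem_subgroupOf] at hc
  have hP : (c : G) * g * z * ((c : G) * g)⁻¹ ∈ (P : Subgroup G) := by
    rw [show (c : G) * g * z * ((c : G) * g)⁻¹ = (c : G) * (g * z * g⁻¹) * (c : G)⁻¹ by group]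
    exact hc.1
  refine ⟨(c : G) * g, S.isolated_H hP, ?_⟩
  rw [show (c : G) * g * a * ((c : G) * g)⁻¹ = (c : G) * (g * a * g⁻¹) * (c : G)⁻¹ by group, hg,
    mem_centralizer_singleton_iff.1 c.2, mul_inv_cancel_right]

/-- Inside the centraliser of the centre the normaliser of the Sylow subgroup controls fusion. -/
theorem fusion_H {a b h : G} (ha : a ∈ (P : Subgroup G)) (hb : b ∈ (P : Subgroup G))
    (hnb : ∀ i : ℤ, z ^ i ≠ b) (hh : h ∈ centralizer ({z} : Set G)) (hab : h * a * h⁻¹ = b) :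
    ∃ n ∈ normalizer ((P : Subgroup G) : Set G), n * a * n⁻¹ = b := by
  have hhz : Commute h z := mem_centralizer_singleton_iff.1 hh
  have hPK : (P : Subgroup G) ≤ cosetStab z b := fun s hs => ⟨(S.central s hs).symm, S.coset_P hb hs⟩
  obtain ⟨c, hcK, hn⟩ := exists_mul_mem_normalizer P hPK (g := h) fun p hp => by
    obtain ⟨i, hi⟩ := S.coset_P ha hp
    refine ⟨((hhz.mul_left (S.central p hp).symm).mul_left hhz.inv_left).eq, i, ?_⟩
    calc h * p * h⁻¹ * b * (h * p * h⁻¹)⁻¹ = h * (p * (h⁻¹ * b * h) * p⁻¹) * h⁻¹ := by group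
      _ = h * (p * a * p⁻¹) * h⁻¹ := by rw [← hab]; group
      _ = (h * a * h⁻¹) * (h * z ^ i * h⁻¹) := by rw [hi]; group
      _ = b * z ^ i := by rw [hab, (hhz.zpow_right i).eq, mul_inv_cancel_right]
  obtain ⟨hcz, i, hi⟩ := mem_cosetStab.1 hcK
  obtain ⟨p, hp, hpb⟩ := S.move hb hnb (-i)
  refine ⟨p * (c * h), mul_mem (le_normalizer hp) hn, ?_⟩
  calc p * (c * h) * a * (p * (c * h))⁻¹ = p * (c * (h * a * h⁻¹) * c⁻¹) * p⁻¹ := by group
    _ = (p * b * p⁻¹) * (p * z ^ i * p⁻¹) := by rw [hab, hi]; group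
    _ = b := by
      rw [hpb, ((show Commute p z from (S.central p hp).symm).zpow_right i).eq, mul_inv_cancel_right,
        mul_assoc, ← zpow_add, neg_add_cancel, zpow_zero, mul_one]

theorem le_cosetStab {a : G} (ha : a ∈ (P : Subgroup G)) :
    (P : Subgroup G) ⊔ centralizer ((P : Subgroup G) : Set G) ≤ cosetStab z a := by
  refine sup_le (fun s hs => ⟨(S.central s hs).symm, S.coset_P ha hs⟩) fun s hs => ?_
  refine ⟨(hs z S.mem).symm, 0, ?_⟩
  rw [zpow_zero, mul_one, mul_inv_eq_iff_eq_mul]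
  exact (hs a ha).symm

theorem sup_le_normalizer :
    (P : Subgroup G) ⊔ centralizer ((P : Subgroup G) : Set G) ≤ normalizer ((P : Subgroup G) : Set G) := by
  refine sup_le le_normalizer fun x hx => mem_normalizer_fintype fun y hy => ?_
  rw [show x * y * x⁻¹ = y by rw [← hx y hy, mul_inv_cancel_right]]
  exact hy

/-- An element of the normaliser fixing one noncentral coset acts on the Sylow subgroup as one of it. -/
theorem stab_coset {a n : G} (ha : a ∈ (P : Subgroup G)) (hna : ∀ i : ℤ, z ^ i ≠ a)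
    (hn : n ∈ normalizer ((P : Subgroup G) : Set G)) (hfix : ∃ i : ℤ, n * a * n⁻¹ = a * z ^ i) :
    n ∈ (P : Subgroup G) ⊔ centralizer ((P : Subgroup G) : Set G) := by
  obtain ⟨i, hi⟩ := hfix
  obtain ⟨p, hp, hpa⟩ := S.move ha hna (-i)
  set S0 := (P : Subgroup G) ⊔ centralizer ((P : Subgroup G) : Set G)
  suffices h : p * n ∈ S0 from (mul_mem_cancel_left (le_sup_left (b := centralizer _) hp)).1 h
  set u := p * n with hu
  have huN : u ∈ normalizer ((P : Subgroup G) : Set G) := mul_mem (le_normalizer hp) hn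
  have huz : Commute u z := S.nc u huN
  have hua : Commute u a := by
    refine mul_inv_eq_iff_eq_mul.1 ?_
    calc u * a * u⁻¹ = p * (n * a * n⁻¹) * p⁻¹ := by rw [hu]; group
      _ = (p * a * p⁻¹) * (p * z ^ i * p⁻¹) := by rw [hi]; group
      _ = a := by
        rw [hpa, ((show Commute p z from (S.central p hp).symm).zpow_right i).eq, mul_inv_cancel_right,
          mul_assoc, ← zpow_add, neg_add_cancel, zpow_zero, mul_one]
  obtain ⟨b, hb, hba⟩ := S.move ha hna 1
  rw [zpow_one] at hba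
  set d := b⁻¹ * (u * b * u⁻¹) with hd
  have hdP : d ∈ (P : Subgroup G) := mul_mem (inv_mem hb) (S.conj_mem huN hb)
  have hda : d * a = a * d := by
    refine mul_inv_eq_iff_eq_mul.1 ?_
    calc d * a * d⁻¹ = b⁻¹ * (u * (b * (u⁻¹ * a * u) * b⁻¹) * u⁻¹) * b := by rw [hd]; group
      _ = b⁻¹ * (u * (b * a * b⁻¹) * u⁻¹) * b := by rw [mul_assoc u⁻¹, ← hua.eq, inv_mul_cancel_left]
      _ = b⁻¹ * (b * a * b⁻¹) * b := by
        rw [hba, (hua.mul_right huz).eq, mul_inv_cancel_right]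
      _ = a := by group
  obtain ⟨j, k, hjk⟩ := S.cent_P_elems ha hna hdP hda
  have hud : Commute u d := by rw [hjk]; exact (hua.pow_right j).mul_right (huz.pow_right k)
  have hub : u * b * u⁻¹ = b * d := by rw [hd, mul_inv_cancel_left]
  have h3b : u ^ 3 * b = b * u ^ 3 := by
    have hstep : ∀ v : G, u * (b * v) * u⁻¹ = b * d * (u * v * u⁻¹) := fun v => by rw [← hub]; group
    have hdd : u * d * u⁻¹ = d := by rw [hud.eq, mul_inv_cancel_right]
    have hdd2 : u * (d * d) * u⁻¹ = d * d := by rw [(hud.mul_right hud).eq, mul_inv_cancel_right]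
    refine mul_inv_eq_iff_eq_mul.1 ?_
    rw [show u ^ 3 = u * u * u by rw [pow_succ, pow_two]]
    calc u * u * u * b * (u * u * u)⁻¹ = u * (u * (u * b * u⁻¹) * u⁻¹) * u⁻¹ := by group
      _ = b * d * (d * d) := by rw [hub, hstep, hdd, mul_assoc b d d, hstep, hdd2]
      _ = b := by rw [mul_assoc, show d * (d * d) = 1 by rw [← pow_two, ← pow_succ']; exact S.cube d hdP, mul_one]
  have h3 : u ^ 3 ∈ centralizer ((P : Subgroup G) : Set G) := by
    set R := (P : Subgroup G) ⊓ centralizer ({u ^ 3} : Set G)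
    have hle : (P : Subgroup G) ⊓ centralizer ({a} : Set G) ≤ R := fun x hx => by
      obtain ⟨j', k', e⟩ := S.cent_P_elems ha hna hx.1 (mem_centralizer_singleton_iff.1 hx.2)
      refine ⟨hx.1, mem_centralizer_singleton_iff.2 ?_⟩
      rw [e]
      exact (((hua.pow_left 3).pow_right j').mul_right ((huz.pow_left 3).pow_right k')).symm.eq
    have hbR : b ∈ R := ⟨hb, mem_centralizer_singleton_iff.2 h3b.symm⟩
    have hne : Nat.card R ≠ 9 := fun e => by
      have h9 := eq_of_le_of_card_ge hle (by rw [e, S.card_cent_P ha hna])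
      rw [← h9] at hbR
      have := mem_centralizer_singleton_iff.1 hbR.2
      exact S.ne_one (mul_eq_left.1 (hba.symm.trans (by rw [this, mul_inv_cancel_right])))
    have h1 : 9 ∣ Nat.card R := S.card_cent_P ha hna ▸ card_dvd_of_le hle
    have h2 : Nat.card R ∣ 27 := S.card ▸ card_dvd_of_le inf_le_left
    have h27 : Nat.card R = 27 := by
      obtain ⟨c, hc⟩ := h1
      rw [hc] at h2
      have hc3 : c ∣ 3 := Nat.dvd_of_mul_dvd_mul_left (by norm_num : 0 < 9) h2
      rcases (Nat.dvd_prime Nat.prime_three).1 hc3 with rfl | rfl <;> omega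
    have hR : R = (P : Subgroup G) := eq_of_le_of_card_ge inf_le_left (by rw [h27, S.card])
    intro x hx
    rw [SetLike.mem_coe, ← hR] at hx
    exact mem_centralizer_singleton_iff.1 hx.2
  have h3S : u ^ 3 ∈ S0 := le_sup_right (a := (P : Subgroup G)) h3
  obtain ⟨v, r, hr, hord⟩ := Nat.exists_eq_pow_mul_and_not_dvd (orderOf_pos u).ne' 3 (by norm_num)
  have hrP : u ^ r ∈ (P : Subgroup G) := by
    obtain ⟨c, hc, hcP⟩ := S.into_P le_normalizer (pow_mem huN r)
      ⟨v, by rw [← pow_mul, mul_comm, ← hord, pow_orderOf_eq_one]⟩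
    exact (mem_normalizer_iff.1 hc _).2 hcP
  have hrS : u ^ r ∈ S0 := le_sup_left (b := centralizer _) hrP
  have h3q : (u ^ 3) ^ (r / 3) ∈ S0 := pow_mem h3S _
  have hsplit : u ^ r = (u ^ 3) ^ (r / 3) * u ^ (r % 3) := by rw [← pow_mul, ← pow_add, Nat.div_add_mod]
  rw [hsplit, mul_mem_cancel_left h3q] at hrS
  rcases (show r % 3 = 1 ∨ r % 3 = 2 by omega) with e | e <;> rw [e] at hrS
  · rwa [pow_one] at hrS
  · rw [pow_succ] at h3S
    exact (mul_mem_cancel_left hrS).1 h3S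

theorem card_noncentral :
    Nat.card {a : G // a ∈ (P : Subgroup G) ∧ ∀ i : ℤ, z ^ i ≠ a} = 24 := by
  have h : {a : G | a ∈ (P : Subgroup G) ∧ ∀ i : ℤ, z ^ i ≠ a} =
      ((P : Subgroup G) : Set G) \ (zpowers z : Set G) := by
    ext a
    simp only [Set.mem_setOf_eq, Set.mem_sdiff, SetLike.mem_coe, mem_zpowers_iff, not_exists]
  show Nat.card {a : G | a ∈ (P : Subgroup G) ∧ ∀ i : ℤ, z ^ i ≠ a} = 24
  rw [Nat.card_coe_set_eq, h, Set.ncard_sdiff (zpowers_le.2 S.mem), ← Nat.card_coe_set_eq, ← Nat.card_coe_set_eq]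
  show Nat.card (P : Subgroup G) - Nat.card (zpowers z) = 24
  rw [S.card, Nat.card_zpowers, S.orderOf_z]

theorem exists_noncentral : ∃ a ∈ (P : Subgroup G), ∀ i : ℤ, z ^ i ≠ a := by
  have : Nonempty {a : G // a ∈ (P : Subgroup G) ∧ ∀ i : ℤ, z ^ i ≠ a} :=
    (Nat.card_ne_zero.1 (by rw [S.card_noncentral]; norm_num)).1
  obtain ⟨⟨a, ha⟩⟩ := this
  exact ⟨a, ha⟩

/-- When the inertial index is even each noncentral element is conjugate to its inverse. -/
theorem conj_inv_of_even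
    (he : Even (((P : Subgroup G) ⊔ centralizer ((P : Subgroup G) : Set G)).relIndex
      (normalizer ((P : Subgroup G) : Set G)))) {a : G} (ha : a ∈ (P : Subgroup G))
    (hna : ∀ i : ℤ, z ^ i ≠ a) : ∃ n ∈ normalizer ((P : Subgroup G) : Set G), n * a * n⁻¹ = a⁻¹ := by
  set N := normalizer ((P : Subgroup G) : Set G)
  set S0 := (P : Subgroup G) ⊔ centralizer ((P : Subgroup G) : Set G)
  haveI hnorm : (S0.subgroupOf N).Normal := ⟨fun x hx g => by
    rw [mem_subgroupOf] at hx ⊢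
    have hgi : (g : G)⁻¹ ∈ N := inv_mem g.2
    refine S.stab_coset ha hna (g * x * g⁻¹).2 ?_
    obtain ⟨hxz, i, hi⟩ := S.le_cosetStab (S.conj_mem hgi ha) hx
    refine ⟨i, ?_⟩
    rw [inv_inv] at hi
    calc ((g * x * g⁻¹ : N) : G) * a * ((g * x * g⁻¹ : N) : G)⁻¹
        = (g : G) * ((x : G) * ((g : G)⁻¹ * a * g) * (x : G)⁻¹) * (g : G)⁻¹ := by
          simp only [Subgroup.coe_mul, InvMemClass.coe_inv]; group
      _ = a * ((g : G) * z ^ i * (g : G)⁻¹) := by rw [hi]; group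
      _ = a * z ^ i := by
          rw [((show Commute (g : G) z from S.nc g g.2).zpow_right i).eq, mul_inv_cancel_right]⟩
  have h2 : 2 ∣ Nat.card (N ⧸ S0.subgroupOf N) := by
    rw [← index_eq_card]; exact he.two_dvd
  haveI : Fact (Nat.Prime 2) := ⟨Nat.prime_two⟩
  obtain ⟨q, hq⟩ := exists_prime_orderOf_dvd_card' 2 h2
  obtain ⟨t, rfl⟩ := QuotientGroup.mk_surjective q
  have ht : (t : G) ∉ S0 := fun h => by
    rw [(QuotientGroup.eq_one_iff t).2 (mem_subgroupOf.2 h), orderOf_one] at hq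
    norm_num at hq
  have ht2 : (t : G) * t ∈ S0 := by
    have h : ((t * t : N) : N ⧸ S0.subgroupOf N) = 1 := by
      rw [QuotientGroup.mk_mul, ← pow_two, ← hq, pow_orderOf_eq_one]
    exact mem_subgroupOf.1 ((QuotientGroup.eq_one_iff _).1 h)
  set a1 := (t : G) * a * (t : G)⁻¹ with ha1
  have ha1P : a1 ∈ (P : Subgroup G) := S.conj_mem t.2 ha
  obtain ⟨-, k, hk⟩ := S.le_cosetStab ha ht2
  obtain ⟨l, hl⟩ : ∃ l : ℤ, a1 * a = a * a1 * z ^ l := by
    obtain ⟨l, hl⟩ := S.comm_mem a1 ha1P a ha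
    refine ⟨l, ?_⟩
    rw [← ((show Commute z (a * a1) from S.central _ (mul_mem ha ha1P)).zpow_left l).eq, ← hl]
    group
  obtain ⟨i, hi⟩ : ∃ i : ℤ, z ^ i = a * a1 := by
    by_contra! hc
    refine ht (S.stab_coset (mul_mem ha ha1P) hc t.2 ⟨l + k, ?_⟩)
    calc (t : G) * (a * a1) * (t : G)⁻¹ = a1 * ((t : G) * t * a * ((t : G) * t)⁻¹) := by rw [ha1]; group
      _ = a1 * a * z ^ k := by rw [hk, ← mul_assoc]
      _ = a * a1 * z ^ (l + k) := by rw [hl, zpow_add, mul_assoc]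
  obtain ⟨p, hp, hpa⟩ := S.move (inv_mem ha) (fun j e => hna (-j) (by rw [zpow_neg, e, inv_inv])) (-i)
  refine ⟨p * t, mul_mem (le_normalizer hp) t.2, ?_⟩
  calc p * (t : G) * a * (p * (t : G))⁻¹ = p * (a⁻¹ * (a * a1)) * p⁻¹ := by rw [ha1]; group
    _ = (p * a⁻¹ * p⁻¹) * (p * z ^ i * p⁻¹) := by rw [← hi]; group
    _ = a⁻¹ := by
      rw [hpa, ((show Commute p z from (S.central p hp).symm).zpow_right i).eq, mul_inv_cancel_right,
        mul_assoc, ← zpow_add, neg_add_cancel, zpow_zero, mul_one]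

/-- Representatives of the noncentral classes of the normaliser. -/
theorem exists_reps : ∃ (m : ℕ) (a : Fin m → G),
    m * ((P : Subgroup G) ⊔ centralizer ((P : Subgroup G) : Set G)).relIndex
      (normalizer ((P : Subgroup G) : Set G)) = 8 ∧
    (∀ b, a b ∈ (P : Subgroup G) ∧ ∀ i : ℤ, z ^ i ≠ a b) ∧
    (∀ x ∈ (P : Subgroup G), (∀ i : ℤ, z ^ i ≠ x) →
      ∃ b, ∃ n ∈ normalizer ((P : Subgroup G) : Set G), n * x * n⁻¹ = a b) ∧
    ∀ b c, ∀ n ∈ normalizer ((P : Subgroup G) : Set G), n * a b * n⁻¹ = a c → b = c := by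
  classical
  set N := normalizer ((P : Subgroup G) : Set G) with hN
  set S0 := (P : Subgroup G) ⊔ centralizer ((P : Subgroup G) : Set G) with hS0
  let Ω := {a : G // a ∈ (P : Subgroup G) ∧ ∀ i : ℤ, z ^ i ≠ a}
  letI : SMul N Ω := ⟨fun n w => ⟨(n : G) * w * (n : G)⁻¹, S.conj_mem n.2 w.2.1,
    S.conj_noncentral n.2 w.2.2⟩⟩
  have hsm : ∀ (n : N) (w : Ω), ((n • w : Ω) : G) = (n : G) * w * (n : G)⁻¹ := fun _ _ => rfl
  letI : MulAction N Ω :=
    { one_smul := fun w => Subtype.ext (by rw [hsm]; simp)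
      mul_smul := fun n n' w => Subtype.ext (by rw [hsm, hsm, hsm]; simp only [Subgroup.coe_mul]; group) }
  have horb : ∀ w : Ω, Nat.card (MulAction.orbit N w) = 3 * S0.relIndex N := by
    intro w
    have hst : MulAction.stabilizer N w = (S0 ⊓ centralizer ({(w : G)} : Set G)).subgroupOf N := by
      ext n
      rw [MulAction.mem_stabilizer_iff, Subtype.ext_iff, hsm, mul_inv_eq_iff_eq_mul, mem_subgroupOf, mem_inf,
        mem_centralizer_singleton_iff]
      refine ⟨fun e => ⟨S.stab_coset w.2.1 w.2.2 n.2 ⟨0, ?_⟩, e⟩, fun e => e.2⟩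
      rw [zpow_zero, mul_one, mul_inv_eq_iff_eq_mul, e]
    have h1 := card_mul_index (MulAction.stabilizer N w)
    rw [index_eq_card, ← Nat.card_congr (MulAction.orbitEquivQuotientStabilizer N w), hst,
      Nat.card_congr (subgroupOfEquivOfLe ((inf_le_left : S0 ⊓ centralizer ({(w : G)} : Set G) ≤ S0).trans
        S.sup_le_normalizer)).toEquiv] at h1
    have h2 := card_mul_index (S0.subgroupOf N)
    rw [Nat.card_congr (subgroupOfEquivOfLe S.sup_le_normalizer).toEquiv,
      S.card_stab w.2.1 w.2.2 le_sup_left (fun s hs => (S.le_cosetStab w.2.1 hs).2), ← h1] at h2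
    refine Nat.eq_of_mul_eq_mul_left (Nat.card_pos (α := (S0 ⊓ centralizer ({(w : G)} : Set G) : Subgroup G))) ?_
    rw [← h2, Subgroup.relIndex]
    ring
  let Q := Quotient (MulAction.orbitRel N Ω)
  have hm : Nat.card Q * S0.relIndex N = 8 := by
    haveI := Fintype.ofFinite Q
    have h := Nat.card_congr (MulAction.selfEquivSigmaOrbits N Ω)
    rw [Nat.card_sigma, S.card_noncentral] at h
    simp only [horb, Finset.sum_const, Finset.card_univ, smul_eq_mul] at h
    rw [Nat.card_eq_fintype_card]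
    change 24 = Fintype.card Q * (3 * S0.relIndex N) at h
    linarith
  obtain ⟨e⟩ : Nonempty (Q ≃ Fin (Nat.card Q)) := ⟨Finite.equivFin Q⟩
  refine ⟨Nat.card Q, fun b => ((e.symm b).out : Ω), hm, fun b => (e.symm b).out.2, fun x hx hnx => ?_,
    fun b c n hn hbc => ?_⟩
  · obtain ⟨n, hn⟩ : ((Quotient.mk (MulAction.orbitRel N Ω) ⟨x, hx, hnx⟩).out : Ω) ∈
        MulAction.orbit N (⟨x, hx, hnx⟩ : Ω) := MulAction.orbitRel_apply.1 (Quotient.mk_out _)
    refine ⟨e (Quotient.mk _ ⟨x, hx, hnx⟩), n, n.2, ?_⟩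
    dsimp only
    rw [Equiv.symm_apply_apply, ← hn]
    rfl
  · refine e.symm.injective ?_
    rw [← Quotient.out_eq (e.symm b), ← Quotient.out_eq (e.symm c)]
    exact (Quotient.sound (s := MulAction.orbitRel N Ω) (MulAction.orbitRel_apply.2 ⟨⟨n, hn⟩, Subtype.ext hbc⟩)).symm

/-- A central three-element of the Sylow subgroup is the only conjugate of itself there. -/
theorem rigid {i : ℤ} {g : G} (hg : g * z ^ i * g⁻¹ ∈ (P : Subgroup G)) : g * z ^ i * g⁻¹ = z ^ i := by
  rcases S.zpow_cases i with e | e | e <;> rw [e] at hg ⊢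
  · group
  · exact S.isolated hg
  · rw [← conj_inv, inv_mem_iff] at hg
    rw [← conj_inv, S.isolated hg]

/-- Conjugate members of the list of classes are equal. -/
theorem eq_of_conj {m : ℕ} {a : Fin m → G} (ha : ∀ b, a b ∈ (P : Subgroup G) ∧ ∀ i : ℤ, z ^ i ≠ a b)
    (huniq : ∀ b c, ∀ n ∈ normalizer ((P : Subgroup G) : Set G), n * a b * n⁻¹ = a c → b = c)
    {w w' : G} (hw : w ∈ ({1, z, z⁻¹} ∪ Set.range a : Set G))
    (hw' : w' ∈ ({1, z, z⁻¹} ∪ Set.range a : Set G)) {g : G} (hg : g * w * g⁻¹ = w') : w = w' := by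
  have hkind : ∀ v ∈ ({1, z, z⁻¹} ∪ Set.range a : Set G),
      v ∈ (P : Subgroup G) ∧ ((∃ i : ℤ, z ^ i = v) ∨ ∃ b, a b = v) := by
    rintro v ((rfl | rfl | rfl) | ⟨b, rfl⟩)
    · exact ⟨one_mem _, Or.inl ⟨0, zpow_zero _⟩⟩
    · exact ⟨S.mem, Or.inl ⟨1, zpow_one _⟩⟩
    · exact ⟨inv_mem S.mem, Or.inl ⟨-1, zpow_neg_one _⟩⟩
    · exact ⟨(ha b).1, Or.inr ⟨b, rfl⟩⟩
  obtain ⟨hwP, hwk⟩ := hkind w hw
  obtain ⟨hwP', hwk'⟩ := hkind w' hw'
  rcases hwk with ⟨i, rfl⟩ | ⟨b, rfl⟩
  · rw [← hg]; exact (S.rigid (hg ▸ hwP')).symm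
  · rcases hwk' with ⟨i, rfl⟩ | ⟨c, rfl⟩
    · have h1 : g⁻¹ * z ^ i * g⁻¹⁻¹ = a b := by rw [← hg]; group
      exact h1.symm.trans (S.rigid (h1 ▸ (ha b).1))
    · obtain ⟨h, hh, hhb⟩ := S.fusion_G (ha b).1 (ha c).1 (ha c).2 hg
      obtain ⟨n, hn, hnb⟩ := S.fusion_H (ha b).1 (ha c).1 (ha c).2 hh hhb
      rw [huniq b c n hn hnb]

/-- Every three-element of an overgroup of the normaliser is conjugate there to a member of the list. -/
theorem exists_conj {m : ℕ} {a : Fin m → G}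
    (hcov : ∀ x ∈ (P : Subgroup G), (∀ i : ℤ, z ^ i ≠ x) →
      ∃ b, ∃ n ∈ normalizer ((P : Subgroup G) : Set G), n * x * n⁻¹ = a b)
    {K : Subgroup G} (hK : normalizer ((P : Subgroup G) : Set G) ≤ K) {g : G} (hg : g ∈ K)
    (h3 : ∃ k, g ^ 3 ^ k = 1) :
    ∃ w ∈ ({1, z, z⁻¹} ∪ Set.range a : Set G), ∃ h ∈ K, h * g * h⁻¹ = w := by
  obtain ⟨h, hh, hP⟩ := S.into_P (le_normalizer.trans hK) hg h3
  by_cases hc : ∃ i : ℤ, z ^ i = h * g * h⁻¹
  · obtain ⟨i, hi⟩ := hc
    exact ⟨_, Or.inl (by rcases S.zpow_cases i with e | e | e <;> rw [← hi, e] <;> simp), h, hh, rfl⟩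
  · push Not at hc
    obtain ⟨b, n, hn, hb⟩ := hcov _ hP hc
    refine ⟨a b, Or.inr ⟨b, rfl⟩, n * h, mul_mem (hK hn) hh, ?_⟩
    rw [← hb]; group

/-- The centralisers taken inside the centraliser of the centre. -/
theorem cent_in_H {a : G} (ha : a ∈ (P : Subgroup G)) (hna : ∀ i : ℤ, z ^ i ≠ a)
    (haH : a ∈ centralizer ({z} : Set G)) :
    Cfsg.HasNormalPComplement 3 (centralizer ({(⟨a, haH⟩ : centralizer ({z} : Set G))} :
        Set (centralizer ({z} : Set G)))) ∧
      ∀ T : Sylow 3 (centralizer ({(⟨a, haH⟩ : centralizer ({z} : Set G))} :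
        Set (centralizer ({z} : Set G)))), Nat.card T = 9 := by
  set H := centralizer ({z} : Set G)
  set D := centralizer ({(⟨a, haH⟩ : H)} : Set H)
  set C := centralizer ({a} : Set G)
  let f : D →* C := (H.subtype.comp D.subtype).codRestrict C fun d =>
    mem_centralizer_singleton_iff.2 (congrArg Subtype.val (mem_centralizer_singleton_iff.1 d.2))
  have hf : Function.Injective f := fun d d' e => by
    refine Subtype.ext (Subtype.ext ?_)
    exact congrArg (fun w : C => (w : G)) e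
  refine ⟨Fusion.hasNormalPComplement_of_injective f hf (S.cent_noncentral ha hna).1, fun T => ?_⟩
  obtain ⟨R, hR⟩ := (T.2.map f).exists_le_sylow
  have hle : Nat.card T ≤ 9 := by
    have h := card_le_of_le hR
    rw [card_map_of_injective hf, (S.cent_noncentral ha hna).2 R] at h
    exact h
  have h9 : Nat.card ((((P : Subgroup G) ⊓ C).subgroupOf H).subgroupOf D) = 9 := by
    rw [Nat.card_congr (subgroupOfEquivOfLe ?_).toEquiv,
      Nat.card_congr (subgroupOfEquivOfLe ((inf_le_left).trans S.le_cent)).toEquiv, S.card_cent_P ha hna]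
    exact fun x hx => mem_centralizer_singleton_iff.2
      (Subtype.ext (mem_centralizer_singleton_iff.1 (mem_subgroupOf.1 hx).2))
  obtain ⟨U, hU⟩ := (IsPGroup.of_card (G := (((P : Subgroup G) ⊓ C).subgroupOf H).subgroupOf D) (p := 3)
    (n := 2) (h9.trans (by norm_num))).exists_le_sylow
  refine le_antisymm hle ?_
  have h := card_le_of_le hU
  rw [h9, Nat.card_congr (U.equiv T).toEquiv] at h
  exact h

theorem factorization_card : (Nat.card G).factorization 3 = 3 := by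
  have h := S.card
  rw [Sylow.card_eq_multiplicity, show (27 : ℕ) = 3 ^ 3 by norm_num] at h
  exact Nat.pow_right_injective (le_refl 2 |>.trans (by norm_num)) h

end Setup

/-- The fusion of three-elements: the centre, the noncentral classes and their centralisers. -/
structure LocalData (P : Sylow 3 G) (z : G) (m : ℕ) (a : Fin m → G) : Prop where
  mem_z : z ∈ (P : Subgroup G)
  order_z : orderOf z = 3
  le_cent : (P : Subgroup G) ≤ centralizer ({z} : Set G)
  count : m * ((P : Subgroup G) ⊔ centralizer ((P : Subgroup G) : Set G)).relIndex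
    (normalizer ((P : Subgroup G) : Set G)) = 8
  mem_a : ∀ b, a b ∈ (P : Subgroup G)
  order_a : ∀ b, orderOf (a b) = 3
  injective : Function.Injective a
  notMem_a : ∀ b, a b ∉ ({1, z, z⁻¹} : Set G)
  classes : ∀ g : G, (∃ k, g ^ 3 ^ k = 1) →
    ∃! w, w ∈ ({1, z, z⁻¹} ∪ Set.range a : Set G) ∧ ∃ h : G, h * g * h⁻¹ = w
  classes_cent : ∀ g ∈ centralizer ({z} : Set G), (∃ k, g ^ 3 ^ k = 1) →
    ∃! w, w ∈ ({1, z, z⁻¹} ∪ Set.range a : Set G) ∧
      ∃ h ∈ centralizer ({z} : Set G), h * g * h⁻¹ = w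
  fusion_cent : ∀ b (g : G), g * a b * g⁻¹ ∈ (P : Subgroup G) →
    ∃ h ∈ centralizer ({z} : Set G), h * a b * h⁻¹ = g * a b * g⁻¹
  translate : ∀ b, ∃ h ∈ centralizer ({z} : Set G), h * a b * h⁻¹ = a b * z
  invert : Even (((P : Subgroup G) ⊔ centralizer ((P : Subgroup G) : Set G)).relIndex
      (normalizer ((P : Subgroup G) : Set G))) →
    ∀ b, ∃ h ∈ centralizer ({z} : Set G), h * a b * h⁻¹ = (a b)⁻¹
  complement : ∀ b, Cfsg.HasNormalPComplement 3 (centralizer ({a b} : Set G))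
  sylow_card : ∀ b (T : Sylow 3 (centralizer ({a b} : Set G))), Nat.card T = 9
  complement_cent : ∀ b (hb : a b ∈ centralizer ({z} : Set G)), Cfsg.HasNormalPComplement 3
    (centralizer ({(⟨a b, hb⟩ : centralizer ({z} : Set G))} : Set (centralizer ({z} : Set G))))
  sylow_card_cent : ∀ b (hb : a b ∈ centralizer ({z} : Set G))
    (T : Sylow 3 (centralizer ({(⟨a b, hb⟩ : centralizer ({z} : Set G))} :
      Set (centralizer ({z} : Set G))))), Nat.card T = 9
  factorization_card : (Nat.card G).factorization 3 = 3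
  normalizer_le : normalizer ((P : Subgroup G) : Set G) ≤ centralizer ({z} : Set G)

/-- **Local data** for an extraspecial Sylow three-subgroup of order 27 and exponent three. -/
theorem local_data (P : Sylow 3 G) (hE : Cfsg.IsExtraspecial 3 ↥(P : Subgroup G))
    (h27 : Nat.card ↥(P : Subgroup G) = 27) (hexp : ∀ x ∈ (P : Subgroup G), x ^ 3 = 1)
    (hNC : ∀ g ∈ normalizer ((P : Subgroup G) : Set G), ∀ z ∈ (P : Subgroup G),
      (∀ y ∈ (P : Subgroup G), z * y = y * z) → g * z = z * g) :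
    ∃ (z : G) (m : ℕ) (a : Fin m → G), LocalData P z m a := by
  obtain ⟨z, S⟩ := exists_setup P hE h27 hexp hNC
  obtain ⟨m, a, hm, ha, hcov, huniq⟩ := S.exists_reps
  refine ⟨z, m, a, S.mem, S.orderOf_z, S.le_cent, hm, fun b => (ha b).1,
    fun b => orderOf_eq_prime (S.cube _ (ha b).1) fun e => (ha b).2 0 ((zpow_zero z).trans e.symm),
    fun b c e => huniq b c 1 (one_mem _) (by rw [one_mul, inv_one, mul_one]; exact e), fun b hb => ?_,
    fun g h3 => ?_, fun g hg h3 => ?_,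
    fun b g hg => S.fusion_G (ha b).1 hg (fun i e => (ha b).2 i ?_) rfl,
    fun b => ?_, fun he b => ?_, fun b => (S.cent_noncentral (ha b).1 (ha b).2).1,
    fun b => (S.cent_noncentral (ha b).1 (ha b).2).2, fun b hb => (S.cent_in_H (ha b).1 (ha b).2 hb).1,
    fun b hb => (S.cent_in_H (ha b).1 (ha b).2 hb).2, S.factorization_card, S.normalizer_le⟩
  · rcases hb with e | e | e
    · exact (ha b).2 0 ((zpow_zero z).trans e.symm)
    · exact (ha b).2 1 ((zpow_one z).trans e.symm)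
    · exact (ha b).2 (-1) ((zpow_neg_one z).trans e.symm)
  · obtain ⟨w, hw, h, -, hh⟩ := S.exists_conj hcov (K := ⊤) le_top (mem_top g) h3
    refine ⟨w, ⟨hw, h, hh⟩, ?_⟩
    rintro w' ⟨hw', h', hh'⟩
    exact (S.eq_of_conj ha huniq hw hw' (g := h' * h⁻¹) (by rw [← hh, ← hh']; group)).symm
  · obtain ⟨w, hw, h, hmem, hh⟩ := S.exists_conj hcov S.normalizer_le hg h3
    refine ⟨w, ⟨hw, h, hmem, hh⟩, ?_⟩
    rintro w' ⟨hw', h', -, hh'⟩
    exact (S.eq_of_conj ha huniq hw hw' (g := h' * h⁻¹) (by rw [← hh, ← hh']; group)).symm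
  · have h1 : g⁻¹ * z ^ i * g⁻¹⁻¹ = a b := by rw [e]; group
    exact (S.rigid (h1 ▸ (ha b).1)).symm.trans h1
  · obtain ⟨p, hp, hpa⟩ := S.move (ha b).1 (ha b).2 1
    exact ⟨p, S.le_cent hp, by rw [hpa, zpow_one]⟩
  · obtain ⟨n, hn, hna⟩ := S.conj_inv_of_even he (ha b).1 (ha b).2
    exact ⟨n, S.normalizer_le hn, hna⟩

end Cfsg.Agent.ThreeExtra
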