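import Cfsg.Agent.ThreeExtra.Transfer
import Cfsg.Agent.ThreeExtra.Fusion
import Cfsg.Agent.Fusion.Control

/-!
# The local data in the form used for the characters, and the case of trivial inertial quotient
-/

set_option autoImplicit false

namespace Cfsg.Agent.ThreeExtra

open scoped ComplexConjugate Classical
open Cfsg.Agent Cfsg.Agent.Blocks Cfsg.Agent.SmallAbelian

universe u

variable {G : Type u} [Group G] [Fintype G] {P : Sylow 3 G} {z : G} {m : ℕ} {a : Fin m → G}

omit [Fintype G] in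
theorem mem_zpowers_cases {x : G} (hz : orderOf z = 3) (hx : x ∈ Subgroup.zpowers z) :
    x = 1 ∨ x = z ∨ x = z⁻¹ := by
  obtain ⟨i, rfl⟩ := Subgroup.mem_zpowers_iff.1 hx
  have hmod : z ^ i = z ^ (i % 3) := by
    have h := zpow_mod_orderOf z i
    rw [hz] at h
    exact h.symm
  rcases (by omega : i % 3 = 0 ∨ i % 3 = 1 ∨ i % 3 = 2) with e | e | e <;> rw [hmod, e]
  · exact Or.inl (zpow_zero z)
  · exact Or.inr (Or.inl (zpow_one z))
  · refine Or.inr (Or.inr (eq_inv_of_mul_eq_one_left ?_))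
    rw [show (2 : ℤ) = ((2 : ℕ) : ℤ) from rfl, zpow_natCast, ← pow_succ, show 2 + 1 = orderOf z by omega,
      pow_orderOf_eq_one]

namespace LocalData

variable (D : LocalData P z m a)
include D

theorem notMem_zpowers (b : Fin m) : a b ∉ Subgroup.zpowers z := fun h =>
  D.notMem_a b (by rcases mem_zpowers_cases D.order_z h with e | e | e <;> simp [e])

omit [Fintype G] in
/-- The generator of the centre of the Sylow subgroup is a power of `z` and conversely. -/
theorem zpowers_eq [Finite G] {w : G} (S : Setup P w) : Subgroup.zpowers w = Subgroup.zpowers z := by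
  obtain ⟨i, hi⟩ := S.central_eq z D.mem_z fun y hy =>
    (Subgroup.mem_centralizer_singleton_iff.1 (D.le_cent hy)).symm
  refine (Subgroup.eq_of_le_of_card_ge (Subgroup.zpowers_le.2 (Subgroup.mem_zpowers_iff.2 ⟨i, hi⟩)) ?_).symm
  rw [Nat.card_zpowers, Nat.card_zpowers, D.order_z, S.orderOf_z]

theorem mem_secSet {x : G} : x ∈ secSet z a ↔ x ∈ ({1, z, z⁻¹} ∪ Set.range a : Set G) := by
  simp [secSet, or_assoc]

theorem sect {g : G} (hg : ∃ k, orderOf g = 3 ^ k) : ∃! x, x ∈ secSet z a ∧ IsConj g x := by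
  obtain ⟨k, hk⟩ := hg
  obtain ⟨w, ⟨hw, h, hh⟩, hu⟩ := D.classes g ⟨k, by rw [← hk, pow_orderOf_eq_one]⟩
  refine ⟨w, ⟨D.mem_secSet.2 hw, isConj_iff.2 ⟨h, hh⟩⟩, fun w' ⟨hw', hc⟩ => ?_⟩
  exact hu w' ⟨D.mem_secSet.1 hw', isConj_iff.1 hc⟩

/-- The centraliser of the centre satisfies the hypotheses on the block. -/
theorem localHyp {w : G} (S : Setup P w) (hm : m = 1 ∨ m = 2 ∨ m = 4)
    (heven : Even (((P : Subgroup G) ⊔ Subgroup.centralizer ((P : Subgroup G) : Set G)).relIndex
      (Subgroup.normalizer ((P : Subgroup G) : Set G))))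
    (hzH : z ∈ Subgroup.centralizer ({z} : Set G)) :
    LocalHyp (⟨z, hzH⟩ : Subgroup.centralizer ({z} : Set G))
      (fun b => (⟨a b, D.le_cent (D.mem_a b)⟩ : Subgroup.centralizer ({z} : Set G))) := by
  have conjH : ∀ {x y : G} (hx : x ∈ Subgroup.centralizer ({z} : Set G))
      (hy : y ∈ Subgroup.centralizer ({z} : Set G)) {h : G}, h ∈ Subgroup.centralizer ({z} : Set G) →
      h * x * h⁻¹ = y → IsConj (⟨x, hx⟩ : Subgroup.centralizer ({z} : Set G)) ⟨y, hy⟩ :=
    fun hx hy h hh e => isConj_iff.2 ⟨⟨h, hh⟩, Subtype.ext e⟩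
  refine ⟨hm, Subgroup.mem_center_iff.2 fun g =>
      Subtype.ext (Subgroup.mem_centralizer_singleton_iff.1 g.2),
    by rw [Subgroup.orderOf_mk]; exact D.order_z,
    fun b => by rw [Subgroup.orderOf_mk]; exact D.order_a b,
    fun b c e => D.injective (congrArg Subtype.val e), fun b hb => D.notMem_zpowers b ?_, fun g hg => ?_,
    fun b => ?_, fun b => ?_, fun b => D.complement_cent b _, fun b Q => D.sylow_card_cent b _ Q, ?_⟩
  · obtain ⟨i, hi⟩ := Subgroup.mem_zpowers_iff.1 hb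
    exact ⟨i, by simpa using congrArg Subtype.val hi⟩
  · obtain ⟨k, hk⟩ := hg
    obtain ⟨x, ⟨hx, h, hh, he⟩, hu⟩ := D.classes_cent (g : G) g.2
      ⟨k, by rw [← hk, ← Subgroup.coe_pow, pow_orderOf_eq_one]; rfl⟩
    have hxH : x ∈ Subgroup.centralizer ({z} : Set G) := by
      rw [← he]; exact mul_mem (mul_mem hh g.2) (inv_mem hh)
    have himg : ∀ y : Subgroup.centralizer ({z} : Set G),
        y ∈ secSet (⟨z, hzH⟩ : Subgroup.centralizer ({z} : Set G))
          (fun b => (⟨a b, D.le_cent (D.mem_a b)⟩ : Subgroup.centralizer ({z} : Set G))) ↔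
        (y : G) ∈ ({1, z, z⁻¹} ∪ Set.range a : Set G) := fun y => by
      simp only [secSet, Finset.mem_insert, Finset.mem_image, Finset.mem_univ, true_and, Set.mem_union,
        Set.mem_insert_iff, Set.mem_singleton_iff, Set.mem_range, Subtype.ext_iff, InvMemClass.coe_inv,
        OneMemClass.coe_one, or_assoc]
    refine ⟨⟨x, hxH⟩, ⟨(himg _).2 hx, conjH g.2 hxH hh he⟩, fun y ⟨hy, hc⟩ => ?_⟩
    obtain ⟨c, hc⟩ := isConj_iff.1 hc
    exact Subtype.ext (hu y ⟨(himg y).1 hy, c, c.2, congrArg Subtype.val hc⟩)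
  · obtain ⟨h, hh, he⟩ := D.translate b
    exact conjH _ (mul_mem (D.le_cent (D.mem_a b)) hzH) hh he
  · obtain ⟨h, hh, he⟩ := D.invert heven b
    exact conjH _ (inv_mem (D.le_cent (D.mem_a b))) hh he
  · intro hN b
    haveI := hN
    set H := Subgroup.centralizer ({z} : Set G)
    set N := Subgroup.zpowers (⟨z, hzH⟩ : H)
    set aH : H := ⟨a b, D.le_cent (D.mem_a b)⟩
    have hle : ((P : Subgroup G).subgroupOf H).map (QuotientGroup.mk' N) ≤
        Subgroup.centralizer ({((aH : H) : H ⧸ N)} : Set (H ⧸ N)) := by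
      rintro _ ⟨y, hy, rfl⟩
      rw [Subgroup.mem_centralizer_singleton_iff, QuotientGroup.mk'_apply, ← QuotientGroup.mk_mul,
        ← QuotientGroup.mk_mul, QuotientGroup.eq_iff_div_mem]
      obtain ⟨i, hi⟩ := S.comm_mem (y : G) (Subgroup.mem_subgroupOf.1 hy) (a b) (D.mem_a b)
      have hmem : w ^ i ∈ Subgroup.zpowers z := D.zpowers_eq S ▸ ⟨i, rfl⟩
      obtain ⟨j, hj⟩ := Subgroup.mem_zpowers_iff.1 hmem
      refine Subgroup.mem_zpowers_iff.2 ⟨j, Subtype.ext ?_⟩
      simp only [Subgroup.coe_zpow, Subgroup.coe_div, Subgroup.coe_mul]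
      show z ^ j = (y : G) * a b / (a b * (y : G))
      rw [hj, ← hi, div_eq_mul_inv, mul_inv_rev, ← mul_assoc]
    intro h3
    have h1 := Subgroup.index_dvd_of_le hle
    have h2 : (((P : Subgroup G).subgroupOf H).map (QuotientGroup.mk' N)).index ∣
        ((P : Subgroup G).subgroupOf H).index :=
      Subgroup.index_map_dvd _ (QuotientGroup.mk'_surjective N)
    have h4 : ((P : Subgroup G).subgroupOf H).index ∣ (P : Subgroup G).index :=
      Subgroup.relIndex_dvd_index_of_le D.le_cent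
    exact P.not_dvd_index (h3.trans (h1.trans (h2.trans h4)))

/-- With trivial inertial quotient the Sylow subgroup controls its fusion. -/
theorem complement_of_eight {w : G} (S : Setup P w) (hm : m = 8) : Cfsg.HasNormalPComplement 3 G := by
  subst hm
  have hzz := D.zpowers_eq S
  have nonc : ∀ b (i : ℤ), w ^ i ≠ a b := fun b i e =>
    D.notMem_zpowers b (hzz ▸ ⟨i, e⟩)
  have hw : ∀ i : Fin 3, w ^ (i : ℕ) ∈ Subgroup.zpowers w := fun i => Subgroup.npow_mem_zpowers w _
  let Φ : Fin 8 × Fin 3 → {x : G // x ∈ (P : Subgroup G) ∧ ∀ i : ℤ, w ^ i ≠ x} := fun q =>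
    ⟨a q.1 * w ^ (q.2 : ℕ), mul_mem (D.mem_a q.1) (Subgroup.pow_mem _ S.mem _), fun i e =>
      nonc q.1 (i - (q.2 : ℕ)) (by rw [zpow_sub, e, zpow_natCast, mul_inv_cancel_right])⟩
  have moveTo : ∀ b (i : ℕ), ∃ p ∈ (P : Subgroup G), p * a b * p⁻¹ = a b * w ^ i := fun b i => by
    obtain ⟨p, hp, he⟩ := S.move (D.mem_a b) (nonc b) i
    exact ⟨p, hp, by rw [he, zpow_natCast]⟩
  have memX : ∀ b, a b ∈ ({1, z, z⁻¹} ∪ Set.range a : Set G) := fun b => Or.inr ⟨b, rfl⟩
  have hinj : Function.Injective Φ := by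
    rintro ⟨b, i⟩ ⟨c, j⟩ e
    have e' : a b * w ^ (i : ℕ) = a c * w ^ (j : ℕ) := congrArg Subtype.val e
    obtain ⟨p, -, hp⟩ := moveTo b i
    obtain ⟨q, -, hq⟩ := moveTo c j
    obtain ⟨v, -, hu⟩ := D.classes (a b) ⟨1, by rw [← D.order_a b, pow_one, pow_orderOf_eq_one]⟩
    have hbc : b = c := D.injective ((hu (a b) ⟨memX b, 1, by group⟩).trans
      (hu (a c) ⟨memX c, q⁻¹ * p, by
        rw [show q⁻¹ * p * a b * (q⁻¹ * p)⁻¹ = q⁻¹ * (p * a b * p⁻¹) * q by group, hp, e', ← hq]
        group⟩).symm)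
    subst hbc
    have hij : (i : ℕ) = j :=
      pow_injOn_Iio_orderOf (show (i : ℕ) ∈ Set.Iio (orderOf w) by rw [S.orderOf_z]; exact i.2)
        (show (j : ℕ) ∈ Set.Iio (orderOf w) by rw [S.orderOf_z]; exact j.2) (mul_left_cancel e')
    rw [Fin.ext hij]
  have hbij : Function.Bijective Φ := (Nat.bijective_iff_injective_and_card Φ).2
    ⟨hinj, by rw [S.card_noncentral]; simp⟩
  have toX : ∀ x ∈ (P : Subgroup G), ∃ v ∈ ({1, z, z⁻¹} ∪ Set.range a : Set G),
      ∃ p ∈ (P : Subgroup G), p * v * p⁻¹ = x := fun x hx => by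
    by_cases hc : ∀ i : ℤ, w ^ i ≠ x
    · obtain ⟨⟨b, i⟩, hΦ⟩ := hbij.2 ⟨x, hx, hc⟩
      obtain ⟨p, hp, he⟩ := moveTo b i
      exact ⟨a b, memX b, p, hp, he.trans (congrArg Subtype.val hΦ)⟩
    · push Not at hc
      obtain ⟨i, hi⟩ := hc
      refine ⟨x, Or.inl ?_, 1, Subgroup.one_mem _, by group⟩
      have hx' : x ∈ Subgroup.zpowers z := hzz ▸ ⟨i, hi⟩
      rcases mem_zpowers_cases D.order_z hx' with e | e | e <;> simp [e]
  refine Fusion.hasNormalPComplement_of_conj_controls P fun x hx g hg => ?_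
  obtain ⟨v, hv, p, hp, hpv⟩ := toX x hx
  obtain ⟨v', hv', q, hq, hqv⟩ := toX _ hg
  obtain ⟨u, -, hu⟩ := D.classes x ⟨1, by rw [pow_one]; exact S.cube x hx⟩
  have h1 := hu v ⟨hv, p⁻¹, by rw [← hpv]; group⟩
  have h2 := hu v' ⟨hv', q⁻¹ * g, by
    rw [show q⁻¹ * g * x * (q⁻¹ * g)⁻¹ = q⁻¹ * (g * x * g⁻¹) * q by group, ← hqv]; group⟩
  exact ⟨q * p⁻¹, mul_mem hq (inv_mem hp), by rw [← hqv, ← hpv, h1, h2]; group⟩

end LocalData

/-- The invariants of the principal block of a group with normal complement of such a Sylow subgroup. -/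
theorem invariants_of_complement {M : Ideal Cfsg.AlgInt} (hM : Cfsg.IsPModular 3 M)
    (D : LocalData P z m a) (h27 : Nat.card (P : Subgroup G) = 27)
    (hG : Cfsg.HasNormalPComplement 3 G) (hm : m = 8) :
    Nat.card (Cfsg.principalBlock M G) = 11 ∧
    Nat.card {χ : Cfsg.IrrCharacter G // χ ∈ Cfsg.principalBlock M G ∧
      Cfsg.blockHeight 3 (Cfsg.principalBlock M G) (χ : G → ℂ) = 0} = 9 ∧
    Cfsg.blockRank 3 (Cfsg.principalBlock M G) = 1 := by
  subst hm
  have hp : Nat.Prime 3 := Nat.prime_three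
  have hl : Cfsg.blockRank 3 (Cfsg.principalBlock M G) = 1 :=
    (BlockChar.blockRank_eq_one_iff hM).2 fun ξ hξ w hw =>
      BlockChar.const_of_hasNormalPComplement hM hG hξ hw
  have hsub : ∀ K : Subgroup G, Cfsg.HasNormalPComplement 3 K := fun K =>
    Fusion.hasNormalPComplement_of_injective K.subtype K.subtype_injective hG
  have hlC : ∀ x : G, Cfsg.blockRank 3 (Cfsg.principalBlock M (Subgroup.centralizer ({x} : Set G))) = 1 :=
    fun x => (BlockChar.blockRank_eq_one_iff hM).2 fun ξ hξ w hw =>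
      BlockChar.const_of_hasNormalPComplement hM (hsub _) hξ hw
  have hXp : ∀ x ∈ secSet z a, ∃ k, orderOf x = 3 ^ k := fun x hx => by
    simp only [secSet, Finset.mem_insert, Finset.mem_image, Finset.mem_univ, true_and] at hx
    rcases hx with rfl | rfl | rfl | ⟨b, rfl⟩
    · exact ⟨0, by simp⟩
    · exact ⟨1, by rw [D.order_z, pow_one]⟩
    · exact ⟨1, by rw [orderOf_inv, D.order_z, pow_one]⟩
    · exact ⟨1, by rw [D.order_a, pow_one]⟩
  have hk := card_principalBlock_eq hM (fun g hg => D.sect hg) (X := secSet z a) (by simp [secSet]) hXp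
  have hcard : (secSet z a).card = 11 := by
    have hz1 : z ≠ 1 := fun e => by
      have := D.order_z; rw [e, orderOf_one] at this; norm_num at this
    have hzi : z ≠ z⁻¹ := fun e => by
      have h2 : z ^ 2 = 1 := by rw [pow_two]; nth_rewrite 2 [e]; exact mul_inv_cancel z
      have := orderOf_dvd_of_pow_eq_one h2
      rw [D.order_z] at this
      norm_num at this
    rw [secSet, Finset.card_insert_of_notMem, Finset.card_insert_of_notMem, Finset.card_insert_of_notMem,
      Finset.card_image_of_injective _ D.injective, Finset.card_univ, Fintype.card_fin]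
    · simp only [Finset.mem_image, Finset.mem_univ, true_and, not_exists]
      exact fun b e => D.notMem_a b (by simp [e])
    · simp only [Finset.mem_insert, Finset.mem_image, Finset.mem_univ, true_and, not_or, not_exists]
      exact ⟨hzi, fun b e => D.notMem_a b (by simp [e])⟩
    · simp only [Finset.mem_insert, Finset.mem_image, Finset.mem_univ, true_and, not_or, not_exists]
      exact ⟨hz1.symm, fun e => hz1 (inv_eq_one.1 e.symm), fun b e => D.notMem_a b (by simp [e])⟩
  rw [hl, Finset.sum_congr rfl fun x _ => hlC x, Finset.sum_const, smul_eq_mul, mul_one,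
    Finset.card_erase_of_mem (by simp [secSet]), hcard] at hk
  refine ⟨hk, ?_, hl⟩
  -- the degrees
  let B := Cfsg.principalBlock M G
  have h1 : Subgroup.centralizer ({(1 : G)} : Set G) = ⊤ := by
    ext y; simp [Subgroup.mem_centralizer_singleton_iff]
  let d : B → ℕ := fun χ => Cfsg.charDegree (χ.1 : G → ℂ)
  have dpos : ∀ χ, 1 ≤ d χ := fun χ => charDegree_pos χ.1.2
  have hQ : ∀ Q : Sylow 3 (Subgroup.centralizer ({(1 : G)} : Set G)), Nat.card Q = 27 := fun Q => by
    rw [Sylow.card_eq_multiplicity, h1, Subgroup.card_top, ← Sylow.card_eq_multiplicity P, h27]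
  have htr : ∑ χ : B, secM 3 (1 : G) (χ.1 : G → ℂ) (χ.1 : G → ℂ) = 1 := by
    rw [← finsum_block B fun χ : Cfsg.IrrCharacter G => secM 3 (1 : G) (χ : G → ℂ) (χ : G → ℂ),
      trace_secM_one hM, hl, Nat.cast_one]
  have hdiag : ∀ χ : B, secM 3 (1 : G) (χ.1 : G → ℂ) (χ.1 : G → ℂ) = ((d χ * d χ : ℕ) : ℂ) / 27 := fun χ => by
    rw [secM_of_const hp ⟨0, by simp⟩ (hsub _) default (f := (χ.1 : G → ℂ)) (g := (χ.1 : G → ℂ))
      (fun y hy => BlockChar.const_of_hasNormalPComplement (x := y) hM hG χ.2 ((pPartOf_eq_one_iff hp y).1 hy))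
      (fun y hy => BlockChar.const_of_hasNormalPComplement (x := y) hM hG χ.2 ((pPartOf_eq_one_iff hp y).1 hy)),
      hQ default, ← charDegree_cast (Char.IsIrr.isCharacter χ.1.2), Complex.conj_natCast]
    push_cast
    rfl
  simp only [hdiag, ← Finset.sum_div] at htr
  rw [div_eq_one_iff_eq (by norm_num : (27 : ℂ) ≠ 0), ← Nat.cast_sum] at htr
  have hsum : ∑ χ : B, d χ * d χ = 27 := by exact_mod_cast htr
  have hB11 : Fintype.card B = 11 := by rw [← Nat.card_eq_fintype_card]; exact hk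
  have dle : ∀ χ, d χ ≤ 4 := fun χ => by
    have h := Finset.add_sum_erase (f := fun ψ : B => d ψ * d ψ) Finset.univ (Finset.mem_univ χ)
    have h' : ∑ ψ ∈ (Finset.univ : Finset B).erase χ, 1 ≤ ∑ ψ ∈ Finset.univ.erase χ, d ψ * d ψ :=
      Finset.sum_le_sum fun ψ _ => Nat.one_le_iff_ne_zero.2
        (Nat.mul_ne_zero (by have := dpos ψ; omega) (by have := dpos ψ; omega))
    rw [Finset.sum_const, Finset.card_erase_of_mem (Finset.mem_univ χ), Finset.card_univ, hB11,
      smul_eq_mul, mul_one] at h'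
    by_contra hgt
    nlinarith
  let n : ℕ → ℕ := fun j => (Finset.univ.filter fun χ : B => d χ = j).card
  have hn : ∀ j, n j = ∑ χ : B, if d χ = j then 1 else 0 := fun j => by simp [n]
  have e1 : n 1 + n 2 + n 3 + n 4 = 11 := by
    rw [← hB11, Fintype.card, Finset.card_eq_sum_ones]
    simp only [hn, ← Finset.sum_add_distrib]
    exact Finset.sum_congr rfl fun χ _ => by
      have := dpos χ; have := dle χ
      split_ifs <;> omega
  have e2 : n 1 + 4 * n 2 + 9 * n 3 + 16 * n 4 = 27 := by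
    rw [← hsum]
    simp only [hn, Finset.mul_sum, ← Finset.sum_add_distrib]
    exact Finset.sum_congr rfl fun χ _ => by
      have := dpos χ; have := dle χ
      interval_cases h : d χ <;> norm_num
  have hmin : sInf ((fun ψ : Cfsg.IrrCharacter G =>
      (Cfsg.charDegree (ψ : G → ℂ)).factorization 3) '' Cfsg.principalBlock M G) = 0 := by
    refine Nat.sInf_eq_zero.2 (Or.inl ⟨triv G, triv_mem_principalBlock hM, ?_⟩)
    show (Cfsg.charDegree ((triv G : Cfsg.IrrCharacter G) : G → ℂ)).factorization 3 = 0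
    rw [show Cfsg.charDegree ((triv G : Cfsg.IrrCharacter G) : G → ℂ) = 1 from
      charDegree_eq (by show (1 : ℂ) = ((1 : ℕ) : ℂ); norm_num)]
    simp
  have hiff : ∀ χ : B, Cfsg.blockHeight 3 (Cfsg.principalBlock M G) (χ.1 : G → ℂ) = 0 ↔
      ¬ 3 ∣ d χ := fun χ => by
    rw [Cfsg.blockHeight, hmin, Nat.sub_zero, Nat.factorization_eq_zero_iff]
    simp only [hp, not_true, false_or, (charDegree_pos χ.1.2).ne', or_false]
    rfl
  have e := Nat.card_congr (Equiv.subtypeSubtypeEquivSubtypeInter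
    (fun χ => χ ∈ Cfsg.principalBlock M G)
    (fun χ : Cfsg.IrrCharacter G => Cfsg.blockHeight 3 (Cfsg.principalBlock M G) (χ : G → ℂ) = 0))
  rw [← e, Nat.card_congr (Equiv.subtypeEquivRight hiff), Nat.card_eq_fintype_card, Fintype.card_subtype]
  have e3 : (Finset.univ.filter fun χ : B => ¬ 3 ∣ d χ).card = n 1 + n 2 + n 4 := by
    rw [Finset.card_filter]
    simp only [hn, ← Finset.sum_add_distrib]
    exact Finset.sum_congr rfl fun χ _ => by
      have := dpos χ; have := dle χ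
      interval_cases h : d χ <;> norm_num
  have : (Finset.univ.filter fun χ : B => ¬ 3 ∣ d χ).card = 9 := by omega
  convert this using 3

end Cfsg.Agent.ThreeExtra
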