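import Mathlib

/-!
# The columns of the noncentral classes in a block with extraspecial defect group of order 27

The decomposition numbers at the noncentral elements, on the characters trivial on the centre,
form one pattern up to signs; the integral vectors of minimal norm modulo the relations are
determined.
-/

set_option autoImplicit false

namespace Cfsg.Agent.ThreeExtra

open Finset

variable {T : Type*} [Fintype T] [DecidableEq T] {m : ℕ}

/-- The pattern of the column of the class `b`. -/
def pat (p : Fin m → T) (b : Fin m) (t : T) : ℤ :=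
  if t = p b then 2 else if t ∈ Finset.univ.image p then -1 else 1

theorem pat_self (p : Fin m → T) (b : Fin m) : pat p b (p b) = 2 := if_pos rfl

theorem pat_other {p : Fin m → T} (hp : Function.Injective p) {b c : Fin m} (h : c ≠ b) :
    pat p b (p c) = -1 := by
  rw [pat, if_neg fun e => h (hp e), if_pos (Finset.mem_image_of_mem p (Finset.mem_univ c))]

theorem pat_out {p : Fin m → T} {b : Fin m} {t : T} (h : t ∉ Finset.univ.image p) :
    pat p b t = 1 := by
  rw [pat, if_neg fun e => h (by rw [e]; exact Finset.mem_image_of_mem p (Finset.mem_univ b)), if_neg h]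

theorem abs_le_three {x : ℤ} (h : x * x ≤ 9) : -3 ≤ x ∧ x ≤ 3 := by
  constructor <;> nlinarith

/-- An entry of a column of norm 9 having an entry 1 is a sign or twice a sign. -/
theorem entry_cases {d : T → ℤ} (hn : ∑ t, d t * d t = 9) (hne : ∀ t, d t ≠ 0) {o : T}
    (ho : d o = 1) (t : T) : d t = 1 ∨ d t = -1 ∨ d t = 2 ∨ d t = -2 := by
  rcases eq_or_ne t o with rfl | hto
  · exact Or.inl ho
  have h : d t * d t + d o * d o ≤ 9 := by
    rw [← Finset.sum_pair (f := fun x => d x * d x) hto, ← hn]
    exact Finset.sum_le_sum_of_subset_of_nonneg (Finset.subset_univ _)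
      fun _ _ _ => mul_self_nonneg _
  rw [ho] at h
  have h1 := abs_le_three (x := d t) (by linarith)
  have h2 := hne t
  have h3 : d t ≠ 3 := fun e => by rw [e] at h; norm_num at h
  have h4 : d t ≠ -3 := fun e => by rw [e] at h; norm_num at h
  omega

/-- The pattern of the columns. -/
theorem shape [NeZero m] (hm : m = 1 ∨ m = 2 ∨ m = 4) (d : Fin m → T → ℤ)
    (hdd : ∀ b c, ∑ t, d b t * d c t = if b = c then 9 else 0) (hne : ∀ b t, d b t ≠ 0)
    (hcong : ∀ b c t, (3 : ℤ) ∣ d b t - d c t) (o : T) (ho : ∀ b, d b o = 1)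
    (deg : T → ℤ) (hdeg : ∀ b, ∑ t, d b t * deg t = 0) (hdo : deg o = 1)
    (hn : ∃ n : T → ℤ, 9 * ∑ t, n t * n t - ∑ b, (∑ t, d b t * n t) * (∑ t, d b t * n t) = 9) :
    ∃ (p : Fin m → T) (ε : T → ℤ), Function.Injective p ∧ (∀ t, ε t = 1 ∨ ε t = -1) ∧
      (∀ b t, d b t = ε t * pat p b t) ∧ Fintype.card T = 6 := by
  have hcase : ∀ b t, d b t = 1 ∨ d b t = -1 ∨ d b t = 2 ∨ d b t = -2 := fun b t =>
    entry_cases (by rw [hdd, if_pos rfl]) (hne b) (ho b) t
  set K : Fin m → Finset T := fun b => Finset.univ.filter fun t => d b t * d b t = 4 with hK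
  have memK : ∀ {b t}, t ∈ K b ↔ d b t * d b t = 4 := by simp [hK]
  have sq_out : ∀ b t, t ∉ K b → d b t * d b t = 1 := fun b t h => by
    rw [memK] at h
    rcases hcase b t with e | e | e | e <;> simp [e] at h ⊢
  have count : ∀ b, Fintype.card T + 3 * (K b).card = 9 := fun b => by
    have h : ∑ t, d b t * d b t = ∑ t, ((1 : ℤ) + if t ∈ K b then 3 else 0) :=
      Finset.sum_congr rfl fun t _ => by
        by_cases ht : t ∈ K b
        · rw [if_pos ht, memK.1 ht]; norm_num
        · rw [if_neg ht, sq_out b t ht]; norm_num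
    rw [hdd, if_pos rfl, Finset.sum_add_distrib, Finset.sum_ite_mem, Finset.univ_inter,
      Finset.sum_const, Finset.sum_const, Finset.card_univ, nsmul_eq_mul, nsmul_eq_mul] at h
    omega
  -- two columns
  have two : ∀ b c, b ≠ c → Fintype.card T = 6 ∧ (∀ t, d b t * d b t = 4 → d b t + 2 * d c t = 0) ∧
      (∀ t, d b t * d b t = 1 → d c t * d c t = 1 → d b t = d c t) := by
    intro b c hbc
    have hoK : o ∉ K b := fun h => by rw [memK, ho] at h; norm_num at h
    set D : Finset T := Finset.univ.filter fun t => d b t ≠ d c t with hD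
    have hdiff : ∀ t ∈ D, (d b t - d c t) * (d b t - d c t) = 9 ∧ d b t * d c t = -2 := fun t ht => by
      rw [hD, Finset.mem_filter] at ht
      have h3 := hcong b c t
      rcases hcase b t with e | e | e | e <;> rcases hcase c t with e' | e' | e' | e' <;>
        simp [e, e'] at h3 ht ⊢
    have hout : ∀ t, t ∉ D → d b t = d c t := fun t ht => by simpa [hD] using ht
    have hsq : ∑ t, (d b t - d c t) * (d b t - d c t) = 18 := by
      have e : ∀ t, (d b t - d c t) * (d b t - d c t) =
          d b t * d b t + d c t * d c t - 2 * (d b t * d c t) := fun t => by ring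
      simp only [e, Finset.sum_sub_distrib, Finset.sum_add_distrib, ← Finset.mul_sum, hdd, if_pos rfl,
        if_neg hbc]
      norm_num
    have hD2 : D.card = 2 := by
      rw [← Finset.sum_subset (Finset.subset_univ D) fun t _ ht => by rw [hout t ht, sub_self, mul_zero],
        Finset.sum_congr rfl fun t ht => (hdiff t ht).1, Finset.sum_const, nsmul_eq_mul] at hsq
      omega
    have hsame : ∑ t ∈ Dᶜ, d b t * d b t = 4 := by
      have h := hdd b c
      rw [if_neg hbc, ← Finset.sum_add_sum_compl D, Finset.sum_congr rfl fun t ht => (hdiff t ht).2,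
        Finset.sum_const, nsmul_eq_mul, hD2,
        Finset.sum_congr rfl fun t ht => show d b t * d c t = d b t * d b t by
          rw [hout t (Finset.mem_compl.1 ht)]] at h
      push_cast at h
      linarith
    have hoD : o ∈ Dᶜ := Finset.mem_compl.2 (by simp [hD, ho])
    have hle : ∀ t ∈ Dᶜ, (1 : ℤ) ≤ d b t * d b t := fun t _ => by
      rcases hcase b t with e | e | e | e <;> rw [e] <;> norm_num
    have hcard : (Dᶜ).card ≤ 4 := by
      have h : (Dᶜ.card : ℤ) ≤ 4 := by
        rw [← hsame, Finset.card_eq_sum_ones, Nat.cast_sum]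
        exact Finset.sum_le_sum fun t ht => by exact_mod_cast hle t ht
      exact_mod_cast h
    rw [Finset.card_compl, hD2] at hcard
    have h6 : Fintype.card T = 6 := by
      have hb := count b
      have hDpos := Finset.card_pos.2 ⟨o, hoD⟩
      rw [Finset.card_compl, hD2] at hDpos
      have hT : Fintype.card T = 3 ∨ Fintype.card T = 6 := by omega
      rcases hT with h3 | h6
      · exfalso
        have h1 : Dᶜ = {o} := (Finset.eq_of_subset_of_card_le (Finset.singleton_subset_iff.2 hoD)
          (by rw [Finset.card_compl, hD2, h3, Finset.card_singleton])).symm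
        rw [h1, Finset.sum_singleton, ho] at hsame
        norm_num at hsame
      · exact h6
    have hone : ∀ t ∈ Dᶜ, d b t * d b t = 1 := by
      intro t ht
      by_contra hne'
      have hlt : ∑ s ∈ Dᶜ, (1 : ℤ) < ∑ s ∈ Dᶜ, d b s * d b s :=
        Finset.sum_lt_sum hle ⟨t, ht, lt_of_le_of_ne (hle t ht) (Ne.symm hne')⟩
      rw [hsame, Finset.sum_const, Finset.card_compl, hD2, h6] at hlt
      norm_num at hlt
    refine ⟨h6, fun t ht => ?_, fun t hb' hc' => ?_⟩
    · have htD : t ∈ D := by
        by_contra h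
        rw [hone t (Finset.mem_compl.2 h)] at ht
        norm_num at ht
      have h := (hdiff t htD).2
      rcases hcase b t with e | e | e | e <;> rw [e] at h ht ⊢ <;> norm_num at ht <;> linarith
    · by_contra h
      have h' := (hdiff t (by simp [hD, h])).2
      rcases hcase b t with e | e | e | e <;> rcases hcase c t with e' | e' | e' | e' <;>
        simp [e, e'] at h' hb' hc'
  -- six rows
  have h6 : Fintype.card T = 6 := by
    rcases hm with h | h
    · subst h
      have hT := count 0
      have hpos : 0 < Fintype.card T := Fintype.card_pos_iff.2 ⟨o⟩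
      have hTc : Fintype.card T = 3 ∨ Fintype.card T = 6 ∨ Fintype.card T = 9 := by omega
      rcases hTc with h3 | h6 | h9
      · exfalso
        have hK2 : (K 0).card = 2 := by omega
        have hKo : K 0 = Finset.univ.erase o := Finset.eq_of_subset_of_card_le
          (fun t ht => Finset.mem_erase.2 ⟨fun e => by rw [memK, e, ho] at ht; norm_num at ht,
            Finset.mem_univ t⟩)
          (by rw [Finset.card_erase_of_mem (Finset.mem_univ o), Finset.card_univ, h3, hK2])
        have h2 : (2 : ℤ) ∣ ∑ t ∈ Finset.univ.erase o, d 0 t * deg t := Finset.dvd_sum fun t ht => by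
          rw [← hKo, memK] at ht
          rcases hcase 0 t with e | e | e | e <;> simp [e] at ht ⊢
        have h := hdeg 0
        rw [← Finset.add_sum_erase _ _ (Finset.mem_univ o), ho, hdo] at h
        omega
      · exact h6
      · exfalso
        obtain ⟨n, hn⟩ := hn
        rw [Fin.sum_univ_one] at hn
        have hK0 : (K 0).card = 0 := by omega
        have hsq : ∀ t, d 0 t * d 0 t = 1 := fun t =>
          sq_out 0 t (by rw [Finset.card_eq_zero.1 hK0]; exact Finset.notMem_empty t)
        have h2 : (2 : ℤ) ∣ ∑ t, n t * n t - ∑ t, d 0 t * n t := by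
          rw [← Finset.sum_sub_distrib]
          refine Finset.dvd_sum fun t _ => ?_
          rcases mul_self_eq_one_iff.1 (hsq t) with e | e <;> rw [e]
          · rw [show n t * n t - 1 * n t = (n t - 1) * n t by ring]
            simpa using (Int.even_mul_succ_self (n t - 1)).two_dvd
          · rw [show n t * n t - -1 * n t = n t * (n t + 1) by ring]
            exact (Int.even_mul_succ_self (n t)).two_dvd
        set S := ∑ t, d 0 t * n t
        set N := ∑ t, n t * n t
        have h3S : (3 : ℤ) ∣ S := Int.prime_three.dvd_of_dvd_pow (n := 2) ⟨3 * (N - 1), by linarith [sq S]⟩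
        obtain ⟨k, hk⟩ := h3S
        rw [hk] at hn h2
        have hN : N = 1 + k * k := by linarith
        rw [hN] at h2
        obtain ⟨r, hr⟩ := (Int.even_mul_succ_self (k - 1)).two_dvd
        obtain ⟨q, hq⟩ := h2
        have hp : 1 + 2 * r - 2 * k = 2 * q := by linarith
        omega
    · exact (two ⟨0, by omega⟩ ⟨1, by omega⟩ (by simp [Fin.ext_iff])).1
  have hKone : ∀ b, ∃ t, K b = {t} := fun b => Finset.card_eq_one.1 (by have := count b; omega)
  choose p hp using hKone
  have hp4 : ∀ b, d b (p b) * d b (p b) = 4 := fun b =>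
    memK.1 (by rw [hp]; exact Finset.mem_singleton_self _)
  have hp1 : ∀ b t, t ≠ p b → d b t * d b t = 1 := fun b t ht =>
    sq_out b t (by rw [hp, Finset.mem_singleton]; exact ht)
  have hinj : Function.Injective p := fun b c e => by
    by_contra hbc
    have h1 := (two b c hbc).2.1 (p b) (hp4 b)
    have h2 := hp4 c
    rw [← e] at h2
    have h3 := hp4 b
    rcases hcase b (p b) with x | x | x | x <;> rcases hcase c (p b) with y | y | y | y <;>
      simp [x, y] at h1 h2 h3
  set ε : T → ℤ := fun t => if h : ∃ b, p b = t then d h.choose t / 2 else d 0 t with hε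
  have hεp : ∀ b, ε (p b) = d b (p b) / 2 := fun b => by
    have h : ∃ c, p c = p b := ⟨b, rfl⟩
    simp only [hε, dif_pos h]
    rw [hinj h.choose_spec]
  refine ⟨p, ε, hinj, fun t => ?_, fun b t => ?_, h6⟩
  · by_cases h : ∃ b, p b = t
    · obtain ⟨b, rfl⟩ := h
      rw [hεp]
      have h4 := hp4 b
      rcases hcase b (p b) with e | e | e | e <;> simp [e] at h4 ⊢
    · simp only [hε, dif_neg h]
      exact mul_self_eq_one_iff.1 (hp1 0 t fun e => h ⟨0, e.symm⟩)
  · by_cases htb : t = p b
    · subst htb
      rw [hεp, pat_self]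
      have h4 := hp4 b
      rcases hcase b (p b) with e | e | e | e <;> simp [e] at h4 ⊢
    by_cases h : ∃ c, p c = t
    · obtain ⟨c, rfl⟩ := h
      have hcb : c ≠ b := fun e => htb (by rw [e])
      rw [hεp, pat_other hinj hcb]
      have h1 := (two c b hcb).2.1 (p c) (hp4 c)
      have h4 := hp4 c
      rcases hcase c (p c) with e | e | e | e <;> simp [e] at h4 h1 ⊢ <;> omega
    · rw [pat_out (by simpa using h), mul_one]
      simp only [hε, dif_neg h]
      rcases eq_or_ne b 0 with rfl | hb
      · rfl
      · exact (two b 0 hb).2.2 t (hp1 b t htb) (hp1 0 t fun e => h ⟨0, e.symm⟩)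

/-- Sums over the rows split into the marked rows and the rest. -/
theorem sum_split {A : Type*} [AddCommMonoid A] {p : Fin m → T} (hp : Function.Injective p)
    (F : T → A) : ∑ t, F t = ∑ b, F (p b) + ∑ t ∈ (Finset.univ.image p)ᶜ, F t := by
  rw [← Finset.sum_add_sum_compl (Finset.univ.image p), Finset.sum_image fun b _ c _ e => hp e]

theorem sum_pat {R : Type*} [CommRing R] {p : Fin m → T} (hp : Function.Injective p) (b : Fin m)
    (F : T → R) : ∑ t, (pat p b t : R) * F t =
      3 * F (p b) - ∑ c, F (p c) + ∑ t ∈ (Finset.univ.image p)ᶜ, F t := by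
  rw [sum_split hp fun t => (pat p b t : R) * F t]
  congr 1
  · have h : ∀ c, (pat p b (p c) : R) * F (p c) = (if c = b then 3 * F (p c) else 0) - F (p c) :=
      fun c => by
        rcases eq_or_ne c b with rfl | hc
        · rw [pat_self, if_pos rfl]; push_cast; ring
        · rw [pat_other hp hc, if_neg hc]; push_cast; ring
    simp only [h, Finset.sum_sub_distrib, Finset.sum_ite_eq', Finset.mem_univ, if_true]
  · exact Finset.sum_congr rfl fun t ht => by
      rw [pat_out (Finset.mem_compl.1 ht), Int.cast_one, one_mul]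

/-- A vector of minimal norm is, modulo the relations, a sum of two rows with signs. -/
theorem short_vector [NeZero m] (hm : m = 1 ∨ m = 2 ∨ m = 4) {p : Fin m → T} {ε : T → ℤ}
    (hp : Function.Injective p) (hε : ∀ t, ε t = 1 ∨ ε t = -1) {d : Fin m → T → ℤ}
    (hd : ∀ b t, d b t = ε t * pat p b t) (hT : Fintype.card T = 6) (n : T → ℤ)
    (hn : 9 * ∑ t, n t * n t - ∑ b, (∑ t, d b t * n t) * (∑ t, d b t * n t) = 9) :
    ∃ i ∈ (Finset.univ.image p)ᶜ, ∃ s : ℤ, (s = 1 ∨ s = -1) ∧
      ∀ f : T → ℂ, (∀ b, ∑ t, (d b t : ℂ) * f t = 0) →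
        ∑ t, (n t : ℂ) * f t = s * (ε i * f i + ε (p 0) * f (p 0)) := by
  set A := (Finset.univ.image p)ᶜ with hA
  have hεε : ∀ t, ε t * ε t = 1 := fun t => by rcases hε t with e | e <;> rw [e] <;> norm_num
  set y : T → ℤ := fun t => ε t * n t with hy
  set q := ∑ b, y (p b) with hq
  set S := ∑ t ∈ A, y t with hS
  have hdy : ∀ b, ∑ t, d b t * n t = 3 * y (p b) + (S - q) := fun b => by
    rw [Finset.sum_congr rfl (g := fun t => ((pat p b t : ℤ) : ℤ) * y t) fun t _ => by
      simp only [hd, hy]; ring]
    have := sum_pat (R := ℤ) hp b y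
    simp only [Int.cast_id] at this
    rw [this, hS, hq, ← hA]
    ring
  have hnn : ∑ t, n t * n t = ∑ b, y (p b) * y (p b) + ∑ t ∈ A, y t * y t := by
    rw [← sum_split hp fun t => y t * y t]
    exact Finset.sum_congr rfl fun t _ => by
      simp only [hy]
      rw [mul_mul_mul_comm, hεε, one_mul]
  set u := S - q with hu
  have hmain : 9 * ∑ t ∈ A, y t * y t - 6 * q * u - m * (u * u) = 9 := by
    rw [hnn] at hn
    simp only [hdy, ← hu] at hn
    have e : ∑ b, (3 * y (p b) + u) * (3 * y (p b) + u) =
        9 * ∑ b, y (p b) * y (p b) + 6 * q * u + m * (u * u) := by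
      simp only [hq, Finset.mul_sum, Finset.sum_mul, ← Finset.sum_add_distrib]
      rw [show (m : ℤ) * (u * u) = ∑ _b : Fin m, u * u by simp, ← Finset.sum_add_distrib]
      exact Finset.sum_congr rfl fun b _ => by ring
    linarith
  have h3u : (3 : ℤ) ∣ u := by
    have h : (3 : ℤ) ∣ m * (u * u) := ⟨3 * ∑ t ∈ A, y t * y t - 2 * q * u - 3, by linarith⟩
    rcases Int.prime_three.dvd_mul.1 h with h' | h'
    · rcases hm with e | e | e <;> rw [e] at h' <;> norm_num at h'
    · exact (Int.prime_three.dvd_mul.1 h').elim id id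
  obtain ⟨v, hv⟩ := h3u
  have hAc : (A.card : ℤ) = 6 - m := by
    have := Finset.card_le_univ (Finset.univ.image p)
    rw [hA, Finset.card_compl, Finset.card_image_of_injective _ hp, Finset.card_univ, hT,
      Fintype.card_fin]
    rw [Finset.card_image_of_injective _ hp, Finset.card_univ, hT, Fintype.card_fin] at this
    omega
  have hone : ∑ t ∈ A, (y t - v) * (y t - v) = 1 := by
    have e : ∑ t ∈ A, (y t - v) * (y t - v) = ∑ t ∈ A, y t * y t - 2 * v * S + A.card * (v * v) := by
      simp only [hS, Finset.mul_sum, ← nsmul_eq_mul, ← Finset.sum_const, ← Finset.sum_sub_distrib,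
        ← Finset.sum_add_distrib]
      exact Finset.sum_congr rfl fun t _ => by ring
    rw [e, hAc]
    rw [hv] at hmain
    have hq' : q = S - 3 * v := by linarith
    rw [hq'] at hmain
    linarith
  obtain ⟨i, hi, hne⟩ := Finset.exists_ne_zero_of_sum_ne_zero (by rw [hone]; norm_num :
    ∑ t ∈ A, (y t - v) * (y t - v) ≠ 0)
  rw [← Finset.add_sum_erase _ _ hi] at hone
  have hsq : (y i - v) * (y i - v) = 1 ∧ ∑ t ∈ A.erase i, (y t - v) * (y t - v) = 0 := by
    have h1 : 0 ≤ ∑ t ∈ A.erase i, (y t - v) * (y t - v) :=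
      Finset.sum_nonneg fun _ _ => mul_self_nonneg _
    have h2 : 0 < (y i - v) * (y i - v) := lt_of_le_of_ne (mul_self_nonneg _) (Ne.symm hne)
    omega
  have hrest : ∀ t ∈ A.erase i, y t = v := fun t ht => sub_eq_zero.1 (mul_self_eq_zero.1
    ((Finset.sum_eq_zero_iff_of_nonneg fun _ _ => mul_self_nonneg _).1 hsq.2 t ht))
  set s := y i - v with hs
  refine ⟨i, hi, s, mul_self_eq_one_iff.1 hsq.1, fun f hf => ?_⟩
  set g : T → ℂ := fun t => (ε t : ℂ) * f t with hg
  have hrel : ∀ b, 3 * g (p b) - ∑ c, g (p c) + ∑ t ∈ A, g t = 0 := fun b => by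
    rw [hA, ← sum_pat hp b g, ← hf b]
    exact Finset.sum_congr rfl fun t _ => by
      simp only [hd, hg]
      push_cast
      ring
  have heq : ∀ b, g (p b) = g (p 0) := fun b => by
    have h1 := hrel b
    have h2 := hrel 0
    linear_combination (h1 - h2) / 3
  have hgA : ∑ t ∈ A, g t = ((m : ℂ) - 3) * g (p 0) := by
    have h := hrel 0
    simp only [heq, Finset.sum_const, Finset.card_univ, Fintype.card_fin, nsmul_eq_mul] at h
    linear_combination h
  have hyA : ∑ t ∈ A, (y t : ℂ) * g t = v * ∑ t ∈ A, g t + s * g i := by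
    rw [← Finset.add_sum_erase _ _ hi, ← Finset.add_sum_erase _ (fun t => g t) hi,
      Finset.sum_congr rfl fun t ht => by rw [hrest t ht], ← Finset.mul_sum, hs]
    push_cast
    ring
  have hq2 : q = (3 - m) * v + s := by
    have hS' : S = A.card * v + s := by
      rw [hS, ← Finset.add_sum_erase _ _ hi, Finset.sum_congr rfl hrest, Finset.sum_const,
        Finset.card_erase_of_mem hi, hs, nsmul_eq_mul]
      have := Finset.card_pos.2 ⟨i, hi⟩
      push_cast [Nat.cast_sub (show 1 ≤ A.card by omega)]
      ring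
    rw [hAc] at hS'
    linear_combination hS' - hv
  rw [show ∑ t, (n t : ℂ) * f t = ∑ t, (y t : ℂ) * g t from Finset.sum_congr rfl fun t _ => by
    simp only [hy, hg]
    push_cast
    rw [mul_mul_mul_comm, ← Int.cast_mul, hεε, Int.cast_one, one_mul], sum_split hp, ← hA, hyA, hgA]
  simp only [heq, ← Finset.sum_mul]
  rw [← Int.cast_sum, ← hq, hq2]
  simp only [hg]
  push_cast
  ring

end Cfsg.Agent.ThreeExtra
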