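import Mathlib

/-!
# The only embedding of the vanishing lattice of a block with extraspecial defect group of order 27

Integral vectors with the scalar products of the generators of the characters of `C(z)` that vanish
on the 3-regular elements can be realised in only one way.
-/

set_option autoImplicit false

namespace Cfsg.Agent.ThreeExtra

open Finset

variable {ι : Type*} [Fintype ι]

/-- The scalar product. -/
def dot (u w : ι → ℤ) : ℤ := ∑ x, u x * w x

theorem dot_comm (u w : ι → ℤ) : dot u w = dot w u :=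
  Finset.sum_congr rfl fun x _ => mul_comm _ _

/-- The support. -/
def supp (u : ι → ℤ) : Finset ι := Finset.univ.filter fun x => u x ≠ 0

theorem mem_supp {u : ι → ℤ} {x : ι} : x ∈ supp u ↔ u x ≠ 0 := by simp [supp]

theorem eq_zero_of_not_mem {u : ι → ℤ} {x : ι} (h : x ∉ supp u) : u x = 0 := by
  simpa [mem_supp] using h

variable [DecidableEq ι]

theorem dot_eq_sum_inter (u w : ι → ℤ) : dot u w = ∑ x ∈ supp u ∩ supp w, u x * w x := by
  refine (Finset.sum_subset (Finset.subset_univ _) fun x _ hx => ?_).symm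
  rw [Finset.mem_inter, not_and_or] at hx
  rcases hx with h | h <;> simp [eq_zero_of_not_mem h]

theorem dot_eq_sum_supp (u w : ι → ℤ) : dot u w = ∑ x ∈ supp u, u x * w x :=
  (Finset.sum_subset (Finset.subset_univ _) fun x _ hx => by simp [eq_zero_of_not_mem hx]).symm

omit [DecidableEq ι] in
theorem unit_entries {u : ι → ℤ} (h : dot u u ≤ 3) (x : ι) : u x = 0 ∨ u x = 1 ∨ u x = -1 := by
  have h1 : u x * u x ≤ 3 :=
    (Finset.single_le_sum (f := fun y => u y * u y) (fun y _ => mul_self_nonneg _) (Finset.mem_univ x)).trans h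
  have h2 : -1 ≤ u x ∧ u x ≤ 1 := by constructor <;> nlinarith
  omega

theorem card_supp {u : ι → ℤ} (h : dot u u ≤ 3) : ((supp u).card : ℤ) = dot u u := by
  rw [dot_eq_sum_supp, Finset.card_eq_sum_ones, Nat.cast_sum]
  refine Finset.sum_congr rfl fun x hx => ?_
  rcases unit_entries h x with e | e | e
  · exact absurd e (mem_supp.1 hx)
  · simp [e]
  · simp [e]

/-- A sum of signs is congruent to the number of its terms. -/
theorem dot_parity {u w : ι → ℤ} (hu : dot u u ≤ 3) (hw : dot w w ≤ 3) :
    2 ∣ dot u w - ((supp u ∩ supp w).card : ℤ) ∧ |dot u w| ≤ ((supp u ∩ supp w).card : ℤ) := by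
  have hterm : ∀ x ∈ supp u ∩ supp w, u x * w x = 1 ∨ u x * w x = -1 := fun x hx => by
    rw [Finset.mem_inter, mem_supp, mem_supp] at hx
    rcases unit_entries hu x with e | e | e <;> rcases unit_entries hw x with e' | e' | e' <;>
      simp_all
  rw [dot_eq_sum_inter, Finset.card_eq_sum_ones, Nat.cast_sum]
  push_cast
  constructor
  · rw [← Finset.sum_sub_distrib]
    exact Finset.dvd_sum fun x hx => by rcases hterm x hx with e | e <;> rw [e] <;> norm_num
  · exact (Finset.abs_sum_le_sum_abs _ _).trans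
      (Finset.sum_le_sum fun x hx => by rcases hterm x hx with e | e <;> rw [e] <;> norm_num)

theorem meet_of_one {u w : ι → ℤ} (h : dot u w ≠ 0) : (supp u ∩ supp w).Nonempty := by
  rw [dot_eq_sum_inter] at h
  exact Finset.nonempty_of_sum_ne_zero h

variable {deg : ι → ℤ} (hdeg : ∀ x, deg x ≠ 0)
include hdeg

/-- Two orthogonal vectors of norm 2 of degree zero have disjoint supports. -/
theorem disjoint_of_two {u w : ι → ℤ} (hu : dot u u = 2) (hw : dot w w = 2) (hud : dot u deg = 0)
    (hwd : dot w deg = 0) (h : dot u w = 0) : Disjoint (supp u) (supp w) := by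
  rw [Finset.disjoint_iff_inter_eq_empty]
  by_contra hne
  have hcu : (supp u).card = 2 := by exact_mod_cast (card_supp (by omega : dot u u ≤ 3)).trans hu
  have hcw : (supp w).card = 2 := by exact_mod_cast (card_supp (by omega : dot w w ≤ 3)).trans hw
  have hp := (dot_parity (by omega : dot u u ≤ 3) (by omega : dot w w ≤ 3)).1
  rw [h] at hp
  have hle := Finset.card_le_card (Finset.inter_subset_left : supp u ∩ supp w ⊆ supp u)
  have hpos := Finset.card_pos.2 (Finset.nonempty_iff_ne_empty.2 hne)
  have h2 : (supp u ∩ supp w).card = 2 := by omega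
  have e1 : supp u ∩ supp w = supp u :=
    Finset.eq_of_subset_of_card_le Finset.inter_subset_left (by omega)
  have e2 : supp u ∩ supp w = supp w :=
    Finset.eq_of_subset_of_card_le Finset.inter_subset_right (by omega)
  have e := e1.symm.trans e2
  obtain ⟨x, y, hxy, hs⟩ := Finset.card_eq_two.1 hcu
  rw [dot_eq_sum_supp, hs, Finset.sum_pair hxy] at hud h
  rw [dot_eq_sum_supp, ← e, hs, Finset.sum_pair hxy] at hwd
  have hux : u x ≠ 0 := mem_supp.1 (hs ▸ Finset.mem_insert_self _ _)
  have huy : u y ≠ 0 := mem_supp.1 (hs ▸ by simp)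
  have hwy : w y ≠ 0 := mem_supp.1 (e ▸ hs ▸ by simp)
  have hx2 : u x * u x = 1 := by
    rcases (unit_entries (by omega : dot u u ≤ 3) x).resolve_left hux with e₁ | e₁ <;> rw [e₁] <;>
      norm_num
  have hy2 : u y * u y = 1 := by
    rcases (unit_entries (by omega : dot u u ≤ 3) y).resolve_left huy with e₂ | e₂ <;> rw [e₂] <;>
      norm_num
  have key : (2 : ℤ) * u y * w y * deg x = 0 := by
    linear_combination (u y * u x * w y) * hud - (u y * u x * u y) * hwd +
      (u y * u y * deg x) * h - (u y * w y * deg x) * hx2 - (u y * w y * deg x) * hy2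
  exact mul_ne_zero (mul_ne_zero (mul_ne_zero two_ne_zero huy) hwy) (hdeg x) key

variable {I U : Type*} [Fintype I] [Fintype U] [DecidableEq I] [DecidableEq U]

set_option maxHeartbeats 1600000 in
/-- **The embedding is unique.** -/
theorem embed (o : I) (one : ι) (hIU : Fintype.card I + Fintype.card U = 5)
    (h3 : IsEmpty U → 3 ≤ Fintype.card I)
    (δ f : I → ι → ℤ) (v : U → ι → ℤ) (c : ι → ℤ)
    (hδδ : ∀ i j, dot (δ i) (δ j) = if i = j then 2 else 0)
    (hfδ : ∀ i j, dot (f i) (δ j) = if i = j then 1 else 0)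
    (hff : ∀ i j, dot (f i) (f j) = if i = j then 3 else 1)
    (hvδ : ∀ u j, dot (v u) (δ j) = 0) (hvf : ∀ u j, dot (v u) (f j) = 1)
    (hvv : ∀ u w, dot (v u) (v w) = if u = w then 2 else 1)
    (hcc : dot c c = 9) (hcδ : ∀ j, dot c (δ j) = 0) (hcf : ∀ j, dot c (f j) = -3)
    (hcv : ∀ u, dot c (v u) = -3)
    (hδd : ∀ i, dot (δ i) deg = 0) (hvd : ∀ u, dot (v u) deg = 0)
    (hδ1 : ∀ i, δ i one = 0) (hf1 : ∀ i, f i one = if i = o then -1 else 0)
    (hv1 : ∀ u, v u one = 0) (hc1 : c one = 1)
    (hcov : ∀ x, (∃ i, δ i x ≠ 0 ∨ f i x ≠ 0) ∨ (∃ u, v u x ≠ 0) ∨ c x ≠ 0) :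
    Fintype.card ι = 2 * Fintype.card I + 6 ∧
      (Finset.univ.filter fun x => ¬ (3 : ℤ) ∣ c x).card = 6 := by
  have nδ : ∀ i, dot (δ i) (δ i) ≤ 3 := fun i => by rw [hδδ, if_pos rfl]; norm_num
  have nf : ∀ i, dot (f i) (f i) ≤ 3 := fun i => by rw [hff, if_pos rfl]
  have nv : ∀ u, dot (v u) (v u) ≤ 3 := fun u => by rw [hvv, if_pos rfl]; norm_num
  have cδ : ∀ i, (supp (δ i)).card = 2 := fun i => by
    exact_mod_cast (card_supp (nδ i)).trans ((hδδ i i).trans (if_pos rfl))
  have cf : ∀ i, (supp (f i)).card = 3 := fun i => by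
    exact_mod_cast (card_supp (nf i)).trans ((hff i i).trans (if_pos rfl))
  have cv : ∀ u, (supp (v u)).card = 2 := fun u => by
    exact_mod_cast (card_supp (nv u)).trans ((hvv u u).trans (if_pos rfl))
  have dδ : ∀ i j, i ≠ j → Disjoint (supp (δ i)) (supp (δ j)) := fun i j hij =>
    disjoint_of_two hdeg ((hδδ i i).trans (if_pos rfl)) ((hδδ j j).trans (if_pos rfl)) (hδd i) (hδd j)
      ((hδδ i j).trans (if_neg hij))
  have dv : ∀ u j, Disjoint (supp (v u)) (supp (δ j)) := fun u j =>
    disjoint_of_two hdeg ((hvv u u).trans (if_pos rfl)) ((hδδ j j).trans (if_pos rfl)) (hvd u) (hδd j)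
      (hvδ u j)
  set Pr : Finset ι := Finset.univ.biUnion fun i => supp (δ i) with hPr
  have cPr : Pr.card = 2 * Fintype.card I := by
    rw [hPr, Finset.card_biUnion fun i _ j _ hij => dδ i j hij, Finset.sum_congr rfl fun i _ => cδ i,
      Finset.sum_const, Finset.card_univ, smul_eq_mul, mul_comm]
  have memPr : ∀ {x}, x ∈ Pr ↔ ∃ i, x ∈ supp (δ i) := by simp [hPr]
  have one_out : one ∉ Pr := fun h => by
    obtain ⟨i, hi⟩ := memPr.1 h
    exact mem_supp.1 hi (hδ1 i)
  have one_fo : one ∈ supp (f o) := mem_supp.2 (by rw [hf1, if_pos rfl]; norm_num)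
  -- the meeting of `f i` with the pairs
  have meet_self : ∀ i, (supp (f i) ∩ supp (δ i)).card = 1 := fun i => by
    have h := dot_parity (nf i) (nδ i)
    rw [hfδ, if_pos rfl] at h
    have := Finset.card_le_card (Finset.inter_subset_right : supp (f i) ∩ supp (δ i) ⊆ supp (δ i))
    have := cδ i
    omega
  have meet_even : ∀ i j, i ≠ j → (supp (f i) ∩ supp (δ j)).card = 0 ∨
      (supp (f i) ∩ supp (δ j)).card = 2 := fun i j hij => by
    have h := (dot_parity (nf i) (nδ j)).1
    rw [hfδ, if_neg hij] at h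
    have := Finset.card_le_card (Finset.inter_subset_right : supp (f i) ∩ supp (δ j) ⊆ supp (δ j))
    have := cδ j
    omega
  -- a pair inside the support of `f i` leaves nothing outside the pairs
  have pair_full : ∀ i j, i ≠ j → (supp (f i) ∩ supp (δ j)).card = 2 →
      supp (f i) ⊆ supp (δ i) ∪ supp (δ j) := fun i j hij h => by
    have hd : Disjoint (supp (f i) ∩ supp (δ i)) (supp (f i) ∩ supp (δ j)) :=
      (dδ i j hij).mono Finset.inter_subset_right Finset.inter_subset_right
    have e : (supp (f i) ∩ supp (δ i)) ∪ (supp (f i) ∩ supp (δ j)) = supp (f i) :=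
      Finset.eq_of_subset_of_card_le (Finset.union_subset Finset.inter_subset_left Finset.inter_subset_left)
        (by rw [Finset.card_union_of_disjoint hd, meet_self, h, cf])
    intro x hx
    rw [← e] at hx
    simp only [Finset.mem_union, Finset.mem_inter] at hx ⊢
    tauto
  have only_self_o : ∀ j, j ≠ o → Disjoint (supp (f o)) (supp (δ j)) := fun j hj => by
    rcases meet_even o j hj.symm with h | h
    · rwa [Finset.disjoint_iff_inter_eq_empty, ← Finset.card_eq_zero]
    · have := pair_full o j hj.symm h one_fo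
      simp only [Finset.mem_union] at this
      exact absurd (this.elim (fun h => memPr.2 ⟨o, h⟩) fun h => memPr.2 ⟨j, h⟩) one_out
  have only_self : ∀ i j, i ≠ j → Disjoint (supp (f i)) (supp (δ j)) := fun i j hij => by
    by_cases hio : i = o
    · exact hio ▸ only_self_o j (fun h => hij (hio.trans h.symm))
    rcases meet_even i j hij with h | h
    · rwa [Finset.disjoint_iff_inter_eq_empty, ← Finset.card_eq_zero]
    exfalso
    have hsub := pair_full i j hij h
    have hjo : j = o := by
      by_contra hjo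
      obtain ⟨x, hx⟩ := meet_of_one (u := f i) (w := f o) (by rw [hff, if_neg hio]; norm_num)
      rw [Finset.mem_inter] at hx
      rcases Finset.mem_union.1 (hsub hx.1) with hxi | hxj
      · exact Finset.disjoint_left.1 (only_self_o i hio) hx.2 hxi
      · exact Finset.disjoint_left.1 (only_self_o j hjo) hx.2 hxj
    subst hjo
    rcases isEmpty_or_nonempty U with hU | ⟨⟨u⟩⟩
    · obtain ⟨k, hk⟩ : ∃ k, k ∉ ({i, j} : Finset I) := by
        by_contra! hall
        have := Finset.card_le_card (s := (Finset.univ : Finset I)) (t := {i, j}) fun k _ => hall k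
        have h2 := (Finset.card_le_two : ({i, j} : Finset I).card ≤ 2)
        have := h3 hU
        rw [Finset.card_univ] at *
        omega
      simp only [Finset.mem_insert, Finset.mem_singleton, not_or] at hk
      have hki : (supp (f k) ∩ supp (δ i)).card = 0 ∨ (supp (f k) ∩ supp (δ i)).card = 2 := meet_even k i hk.1
      have hne : k ≠ i := hk.1
      rcases meet_even k j hk.2 with h' | h'
      · -- `f k` avoids the common pair, so it misses `f i`
        rcases hki with h'' | h''
        · obtain ⟨x, hx⟩ := meet_of_one (u := f i) (w := f k) (by rw [hff, if_neg (Ne.symm hne)]; norm_num)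
          rw [Finset.mem_inter] at hx
          rcases Finset.mem_union.1 (hsub hx.1) with hxi | hxj
          · exact Finset.notMem_empty x ((Finset.card_eq_zero.1 h'') ▸ Finset.mem_inter.2 ⟨hx.2, hxi⟩)
          · exact Finset.notMem_empty x ((Finset.card_eq_zero.1 h') ▸ Finset.mem_inter.2 ⟨hx.2, hxj⟩)
        · have hsub' := pair_full k i hne h''
          obtain ⟨x, hx⟩ := meet_of_one (u := f k) (w := f j) (by rw [hff, if_neg hk.2]; norm_num)
          rw [Finset.mem_inter] at hx
          rcases Finset.mem_union.1 (hsub' hx.1) with hxi | hxj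
          · exact Finset.disjoint_left.1 (only_self_o k hk.2) hx.2 hxi
          · exact Finset.disjoint_left.1 (only_self_o i hio) hx.2 hxj
      · -- both contain the common pair, so their product is even
        have hsub' := pair_full k j hk.2 h'
        have e : supp (f i) ∩ supp (f k) = supp (δ j) := by
          refine Finset.Subset.antisymm (fun x hx => ?_) fun x hx => ?_
          · rw [Finset.mem_inter] at hx
            rcases Finset.mem_union.1 (hsub hx.1) with hxi | hxj
            · rcases Finset.mem_union.1 (hsub' hx.2) with hxk | hxj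
              · exact absurd hxk (Finset.disjoint_left.1 (dδ i k (Ne.symm hne)) hxi)
              · exact hxj
            · exact hxj
          · refine Finset.mem_inter.2 ⟨?_, ?_⟩
            · have e₁ : supp (f i) ∩ supp (δ j) = supp (δ j) :=
                Finset.eq_of_subset_of_card_le Finset.inter_subset_right (le_of_eq (by rw [h, cδ]))
              exact (Finset.mem_inter.1 (e₁.symm ▸ hx : x ∈ supp (f i) ∩ supp (δ j))).1
            · have e₁ : supp (f k) ∩ supp (δ j) = supp (δ j) :=
                Finset.eq_of_subset_of_card_le Finset.inter_subset_right (le_of_eq (by rw [h', cδ]))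
              exact (Finset.mem_inter.1 (e₁.symm ▸ hx : x ∈ supp (f k) ∩ supp (δ j))).1
        have hp := (dot_parity (nf i) (nf k)).1
        rw [hff, if_neg (Ne.symm hne), e, cδ] at hp
        omega
    · obtain ⟨x, hx⟩ := meet_of_one (u := v u) (w := f i) (by rw [hvf]; norm_num)
      rw [Finset.mem_inter] at hx
      rcases Finset.mem_union.1 (hsub hx.2) with hxi | hxj
      · exact Finset.disjoint_left.1 (dv u i) hx.1 hxi
      · exact Finset.disjoint_left.1 (dv u j) hx.1 hxj
  -- the parts outside the pairs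
  set O : I → Finset ι := fun i => supp (f i) \ supp (δ i) with hO
  have cO : ∀ i, (O i).card = 2 := fun i => by
    have := Finset.card_sdiff_add_card_inter (supp (f i)) (supp (δ i))
    rw [meet_self, cf] at this
    simp only [hO]
    omega
  have O_out : ∀ i, ∀ x ∈ O i, x ∉ Pr := fun i x hx h => by
    rw [hO, Finset.mem_sdiff] at hx
    obtain ⟨j, hj⟩ := memPr.1 h
    by_cases hij : i = j
    · exact hx.2 (hij ▸ hj)
    · exact Finset.disjoint_left.1 (only_self i j hij) hx.1 hj
  have oneO : one ∈ O o := Finset.mem_sdiff.2 ⟨one_fo, fun h => one_out (memPr.2 ⟨o, h⟩)⟩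
  obtain ⟨D, hD⟩ := Finset.card_eq_one.1 (by
    rw [Finset.card_erase_of_mem oneO, cO] : ((O o).erase one).card = 1)
  have hDone : D ≠ one := (Finset.mem_erase.1 (hD ▸ Finset.mem_singleton_self D : D ∈ (O o).erase one)).1
  have hDO : D ∈ O o := (Finset.mem_erase.1 (hD ▸ Finset.mem_singleton_self D : D ∈ (O o).erase one)).2
  have hOo : O o = {one, D} := by rw [← Finset.insert_erase oneO, hD]
  have fD : f o D = 1 ∨ f o D = -1 :=
    (unit_entries (nf o) D).resolve_left (mem_supp.1 (Finset.mem_sdiff.1 hDO).1)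
  have foD : f o D * f o D = 1 := by rcases fD with e | e <;> rw [e] <;> norm_num
  -- meetings with `f o` happen at `D`
  have at_D : ∀ w : ι → ℤ, w one = 0 → (∀ x ∈ supp w, x ∉ supp (δ o)) → dot w (f o) = 1 →
      w D = f o D := fun w hw hdis hdot => by
    rw [dot_eq_sum_inter, Finset.sum_eq_single_of_mem D] at hdot
    · calc w D = w D * (f o D * f o D) := by rw [foD, mul_one]
        _ = w D * f o D * f o D := (mul_assoc _ _ _).symm
        _ = f o D := by rw [hdot, one_mul]
    · by_contra hDin
      refine absurd hdot ?_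
      rw [Finset.sum_eq_zero]
      · norm_num
      intro x hx
      rw [Finset.mem_inter] at hx
      have hxO : x ∈ O o := Finset.mem_sdiff.2 ⟨hx.2, hdis x hx.1⟩
      rw [hOo, Finset.mem_insert, Finset.mem_singleton] at hxO
      rcases hxO with rfl | rfl
      · simp [hw]
      · exact absurd (Finset.mem_inter.2 hx) hDin
    · intro x hx hxD
      rw [Finset.mem_inter] at hx
      have hxO : x ∈ O o := Finset.mem_sdiff.2 ⟨hx.2, hdis x hx.1⟩
      rw [hOo, Finset.mem_insert, Finset.mem_singleton] at hxO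
      rcases hxO with rfl | rfl
      · simp [hw]
      · exact absurd rfl hxD
  have fiD : ∀ i, f i D = f o D := fun i => by
    by_cases hio : i = o
    · rw [hio]
    refine at_D _ (by rw [hf1, if_neg hio]) (fun x hx hxo => ?_) (by rw [hff, if_neg hio])
    exact Finset.disjoint_left.1 (only_self i o hio) hx hxo
  have vuD : ∀ u, v u D = f o D := fun u =>
    at_D _ (hv1 u) (fun x hx => Finset.disjoint_left.1 (dv u o) hx) (hvf u o)
  have fD0 : f o D ≠ 0 := by rcases fD with e | e <;> rw [e] <;> norm_num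
  have DinO : ∀ i, D ∈ O i := fun i =>
    Finset.mem_sdiff.2 ⟨mem_supp.2 (by rw [fiD]; exact fD0), fun h => O_out o D hDO (memPr.2 ⟨i, h⟩)⟩
  have DinV : ∀ u, D ∈ supp (v u) := fun u => mem_supp.2 (by rw [vuD]; exact fD0)
  have ha : ∀ i, ∃ a, (O i).erase D = {a} := fun i =>
    Finset.card_eq_one.1 (by rw [Finset.card_erase_of_mem (DinO i), cO])
  have hE : ∀ u, ∃ x, (supp (v u)).erase D = {x} := fun u =>
    Finset.card_eq_one.1 (by rw [Finset.card_erase_of_mem (DinV u), cv])
  choose a ha using ha
  choose E hE using hE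
  have aO : ∀ i, a i ≠ D ∧ a i ∈ O i := fun i =>
    Finset.mem_erase.1 (ha i ▸ Finset.mem_singleton_self (a i) : a i ∈ (O i).erase D)
  have EV : ∀ u, E u ≠ D ∧ E u ∈ supp (v u) := fun u =>
    Finset.mem_erase.1 (hE u ▸ Finset.mem_singleton_self (E u) : E u ∈ (supp (v u)).erase D)
  have Oeq : ∀ i, O i = {D, a i} := fun i => by rw [← Finset.insert_erase (DinO i), ha]
  have Veq : ∀ u, supp (v u) = {D, E u} := fun u => by rw [← Finset.insert_erase (DinV u), hE]
  have ao : a o = one := by
    have h : one ∈ O o := oneO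
    rw [Oeq, Finset.mem_insert, Finset.mem_singleton] at h
    exact (h.resolve_left hDone.symm).symm
  -- the named points are distinct
  have even_absurd : ∀ (u w : ι → ℤ) (x : ι), dot u u ≤ 3 → dot w w ≤ 3 → dot u w = 1 → x ≠ D →
      supp u ∩ supp w ⊆ {D, x} → D ∈ supp u ∩ supp w → x ∈ supp u ∩ supp w → False :=
    fun u w x hu hw h1 hxD hsub hD' hx' => by
    have e : supp u ∩ supp w = {D, x} := Finset.Subset.antisymm hsub
      (Finset.insert_subset hD' (Finset.singleton_subset_iff.2 hx'))
    have hp := (dot_parity hu hw).1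
    rw [h1, e, Finset.card_pair hxD.symm] at hp
    omega
  have a_inj : Function.Injective a := fun i j e => by
    by_contra hij
    refine even_absurd (f i) (f j) (a i) (nf i) (nf j) (by rw [hff, if_neg hij]) (aO i).1 ?_
      (Finset.mem_inter.2 ⟨(Finset.mem_sdiff.1 (DinO i)).1, (Finset.mem_sdiff.1 (DinO j)).1⟩)
      (Finset.mem_inter.2 ⟨(Finset.mem_sdiff.1 (aO i).2).1, e ▸ (Finset.mem_sdiff.1 (aO j).2).1⟩)
    intro x hx
    rw [Finset.mem_inter] at hx
    have : x ∈ O i := Finset.mem_sdiff.2 ⟨hx.1, fun h =>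
      Finset.disjoint_left.1 (only_self j i (Ne.symm hij)) hx.2 h⟩
    rwa [Oeq] at this
  have aE : ∀ i u, a i ≠ E u := fun i u e => by
    refine even_absurd (v u) (f i) (E u) (nv u) (nf i) (hvf u i) (EV u).1
      (fun x hx => ?_) (Finset.mem_inter.2 ⟨DinV u, (Finset.mem_sdiff.1 (DinO i)).1⟩)
      (Finset.mem_inter.2 ⟨(EV u).2, e ▸ (Finset.mem_sdiff.1 (aO i).2).1⟩)
    rw [← Veq]
    exact (Finset.mem_inter.1 hx).1
  have E_inj : Function.Injective E := fun u w e => by
    by_contra huw
    refine even_absurd (v u) (v w) (E u) (nv u) (nv w) (by rw [hvv, if_neg huw]) (EV u).1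
      (fun x hx => ?_) (Finset.mem_inter.2 ⟨DinV u, DinV w⟩) (Finset.mem_inter.2 ⟨(EV u).2, e ▸ (EV w).2⟩)
    rw [← Veq]
    exact (Finset.mem_inter.1 hx).1
  -- the values of `c`
  have hxp : ∀ i, ∃ x, supp (f i) ∩ supp (δ i) = {x} := fun i => Finset.card_eq_one.1 (meet_self i)
  choose x hx using hxp
  have xmem : ∀ i, x i ∈ supp (f i) ∧ x i ∈ supp (δ i) := fun i =>
    Finset.mem_inter.1 (hx i ▸ Finset.mem_singleton_self (x i))
  have fsplit : ∀ i, supp (f i) = {x i, D, a i} := fun i => by
    rw [← Oeq, ← Finset.sdiff_union_inter (supp (f i)) (supp (δ i)), hx]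
    simp only [hO, Finset.union_singleton]
  have xnD : ∀ i, x i ≠ D := fun i h => O_out o D hDO (memPr.2 ⟨i, h ▸ (xmem i).2⟩)
  have xna : ∀ i, x i ≠ a i := fun i h => O_out i (a i) (aO i).2 (memPr.2 ⟨i, h ▸ (xmem i).2⟩)
  have pairc : ∀ i, ∑ y ∈ supp (δ i), c y * c y = 2 * (c (x i) * c (x i)) := fun i => by
    obtain ⟨y, hy⟩ := Finset.card_eq_one.1 (by
      rw [Finset.card_erase_of_mem (xmem i).2, cδ] : ((supp (δ i)).erase (x i)).card = 1)
    have hyx : y ≠ x i ∧ y ∈ supp (δ i) :=
      Finset.mem_erase.1 (hy ▸ Finset.mem_singleton_self y : y ∈ (supp (δ i)).erase (x i))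
    have hs : supp (δ i) = {x i, y} := by rw [← Finset.insert_erase (xmem i).2, hy]
    have h := hcδ i
    rw [dot_comm, dot_eq_sum_supp, hs, Finset.sum_pair hyx.1.symm] at h
    rw [hs, Finset.sum_pair hyx.1.symm, two_mul, add_right_inj]
    rcases (unit_entries (nδ i) (x i)).resolve_left (mem_supp.1 (xmem i).2) with e | e <;>
      rcases (unit_entries (nδ i) y).resolve_left (mem_supp.1 hyx.2) with e' | e' <;>
      rw [e, e'] at h
    · rw [show c y = -c (x i) by linarith]; ring
    · rw [show c y = c (x i) by linarith]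
    · rw [show c y = c (x i) by linarith]
    · rw [show c y = -c (x i) by linarith]; ring
  have fdot : ∀ i, f i (x i) * c (x i) + f o D * c D + f i (a i) * c (a i) = -3 := fun i => by
    have h := hcf i
    rw [dot_comm, dot_eq_sum_supp, fsplit, Finset.sum_insert (by simp [xnD i, xna i]),
      Finset.sum_pair (aO i).1.symm, fiD] at h
    linarith
  have vdot : ∀ u, f o D * c D + v u (E u) * c (E u) = -3 := fun u => by
    have h := hcv u
    rwa [dot_comm, dot_eq_sum_supp, Veq, Finset.sum_pair (EV u).1.symm, vuD] at h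
  set t : ℤ := -2 - f o D * c D with ht
  set p : I → ℤ := fun i => f i (x i) * c (x i) with hp
  have sqf : ∀ i y, y ∈ supp (f i) → f i y * f i y = 1 := fun i y hy => by
    rcases (unit_entries (nf i) y).resolve_left (mem_supp.1 hy) with e | e <;> rw [e] <;> norm_num
  have px : ∀ i, c (x i) * c (x i) = p i * p i := fun i => by
    show _ = f i (x i) * c (x i) * (f i (x i) * c (x i))
    rw [mul_mul_mul_comm, sqf i _ (xmem i).1, one_mul]
  have qa : ∀ i, c (a i) * c (a i) = (t - 1 - p i) * (t - 1 - p i) := fun i => by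
    have e : t - 1 - p i = f i (a i) * c (a i) := by
      have := fdot i
      simp only [ht, hp]; linarith
    rw [e, mul_mul_mul_comm, sqf i _ (Finset.mem_sdiff.1 (aO i).2).1, one_mul]
  have rE : ∀ u, c (E u) * c (E u) = (t - 1) * (t - 1) := fun u => by
    have e : t - 1 = v u (E u) * c (E u) := by
      have := vdot u
      simp only [ht]; linarith
    rcases (unit_entries (nv u) (E u)).resolve_left (mem_supp.1 (EV u).2) with e' | e' <;>
      rw [e, e'] <;> ring
  have cDt : c D * c D = (t + 2) * (t + 2) := by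
    rcases fD with e | e <;> simp only [ht, e] <;> ring
  have po : p o = t := by
    have := fdot o
    rw [ao, hc1, hf1, if_pos rfl] at this
    simp only [ht, hp]; linarith
  -- the named set
  set A : Finset ι := (Finset.univ.erase o).image a with hA
  set F : Finset ι := Finset.univ.image E with hF
  set N : Finset ι := Pr ∪ ({one, D} ∪ (A ∪ F)) with hN
  have outA : ∀ y ∈ A ∪ F, y ≠ one ∧ y ≠ D ∧ y ∉ Pr := by
    intro y hy
    simp only [hA, hF, Finset.mem_union, Finset.mem_image, Finset.mem_erase, Finset.mem_univ,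
      and_true, true_and] at hy
    rcases hy with ⟨i, hi, rfl⟩ | ⟨u, rfl⟩
    · exact ⟨fun h => hi (a_inj (h.trans ao.symm)), (aO i).1, O_out i _ (aO i).2⟩
    · refine ⟨fun h => mem_supp.1 (EV u).2 (h ▸ hv1 u), (EV u).1, fun h => ?_⟩
      obtain ⟨j, hj⟩ := memPr.1 h
      exact Finset.disjoint_left.1 (dv u j) (EV u).2 hj
  have d1 : Disjoint Pr ({one, D} ∪ (A ∪ F)) := Finset.disjoint_left.2 fun y hy hy' => by
    simp only [Finset.mem_union, Finset.mem_insert, Finset.mem_singleton] at hy'
    rcases hy' with (rfl | rfl) | h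
    · exact one_out hy
    · exact O_out o _ hDO hy
    · exact (outA y (Finset.mem_union.2 h)).2.2 hy
  have d2 : Disjoint ({one, D} : Finset ι) (A ∪ F) := Finset.disjoint_left.2 fun y hy hy' => by
    simp only [Finset.mem_insert, Finset.mem_singleton] at hy
    rcases hy with rfl | rfl
    · exact (outA _ hy').1 rfl
    · exact (outA _ hy').2.1 rfl
  have d3 : Disjoint A F := Finset.disjoint_left.2 fun y hy hy' => by
    simp only [hA, hF, Finset.mem_image] at hy hy'
    obtain ⟨i, -, rfl⟩ := hy
    obtain ⟨u, -, e⟩ := hy'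
    exact aE i u e.symm
  have total : ∑ y ∈ N, c y * c y = (∑ i, 2 * (p i * p i)) + (1 + (t + 2) * (t + 2) +
      ((∑ i ∈ Finset.univ.erase o, (t - 1 - p i) * (t - 1 - p i)) +
        (Fintype.card U : ℤ) * ((t - 1) * (t - 1)))) := by
    rw [hN, Finset.sum_union d1, Finset.sum_union d2, Finset.sum_union d3, Finset.sum_pair hDone.symm,
      hc1, cDt, hPr, Finset.sum_biUnion fun i _ j _ hij => dδ i j hij,
      Finset.sum_congr rfl fun i _ => (pairc i).trans (congrArg (2 * ·) (px i)), hA,
      Finset.sum_image (fun i _ j _ e => a_inj e), Finset.sum_congr rfl fun i _ => qa i, hF,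
      Finset.sum_image (fun i _ j _ e => E_inj e), Finset.sum_congr rfl fun u _ => rE u,
      Finset.sum_const, Finset.card_univ, nsmul_eq_mul]
    norm_num
  have hle : ∑ y ∈ N, c y * c y ≤ 9 :=
    le_of_le_of_eq (Finset.sum_le_sum_of_subset_of_nonneg (Finset.subset_univ _)
      fun y _ _ => mul_self_nonneg _) hcc
  rw [total, ← Finset.add_sum_erase _ _ (Finset.mem_univ o), po] at hle
  have hI : ((Finset.univ.erase o).card : ℤ) + (Fintype.card U : ℤ) = 4 := by
    have := Finset.card_erase_of_mem (Finset.mem_univ o)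
    rw [Finset.card_univ] at this
    have : 0 < Fintype.card I := Fintype.card_pos_iff.2 ⟨o⟩
    omega
  have t0 : t = 0 := by
    have hterm : ∀ i, 2 * ((t - 1) * (t - 1)) ≤ 3 * (2 * (p i * p i)) + 3 * ((t - 1 - p i) * (t - 1 - p i)) :=
      fun i => by nlinarith [mul_self_nonneg (t - 1 - 3 * p i)]
    have hs := Finset.sum_le_sum (s := Finset.univ.erase o) fun i _ => hterm i
    rw [Finset.sum_const, nsmul_eq_mul, Finset.sum_add_distrib] at hs
    simp only [← Finset.mul_sum] at hs hle
    have hU0 : 0 ≤ (Fintype.card U : ℤ) * ((t - 1) * (t - 1)) :=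
      mul_nonneg (by positivity) (mul_self_nonneg _)
    have hmain : 17 * (t * t) - 4 * t - 4 ≤ 0 := by
      have e : ((Finset.univ.erase o).card : ℤ) * (2 * ((t - 1) * (t - 1))) +
          2 * ((Fintype.card U : ℤ) * ((t - 1) * (t - 1))) = 8 * ((t - 1) * (t - 1)) := by
        linear_combination (2 * ((t - 1) * (t - 1))) * hI
      nlinarith
    have h1 : 0 ≤ t ∧ t ≤ 0 := by constructor <;> nlinarith
    omega
  rw [t0] at hle
  have hone : ∀ i, 1 ≤ 2 * (p i * p i) + (0 - 1 - p i) * (0 - 1 - p i) := fun i => by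
    rcases eq_or_ne (p i) 0 with e | e
    · rw [e]; norm_num
    · have := mul_self_pos.2 e
      nlinarith [mul_self_nonneg (0 - 1 - p i)]
  have hsum : ∑ i ∈ Finset.univ.erase o, (2 * (p i * p i) + (0 - 1 - p i) * (0 - 1 - p i) - 1) ≤ 0 := by
    rw [Finset.sum_sub_distrib, Finset.sum_add_distrib, Finset.sum_const, nsmul_one]
    linarith
  have p0 : ∀ i, p i = 0 := fun i => by
    by_cases hio : i = o
    · rw [hio, po, t0]
    have h := (Finset.sum_eq_zero_iff_of_nonneg fun j _ => sub_nonneg.2 (hone j)).1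
      (le_antisymm hsum (Finset.sum_nonneg fun j _ => sub_nonneg.2 (hone j))) i
      (Finset.mem_erase.2 ⟨hio, Finset.mem_univ i⟩)
    rcases le_or_gt 0 (p i) with hp0 | hp0 <;> nlinarith
  -- everything is named
  have hN9 : ∑ y ∈ N, c y * c y = 9 := by
    rw [total, t0]
    simp only [p0, mul_zero, Finset.sum_const_zero, sub_zero, Finset.sum_const, nsmul_eq_mul]
    linarith
  have czero : ∀ y ∉ N, c y = 0 := fun y hy => by
    have h := Finset.sum_sdiff (f := fun z => c z * c z) (Finset.subset_univ N)
    have hcc' : ∑ z, c z * c z = 9 := hcc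
    rw [hN9, hcc'] at h
    have h0 : ∑ z ∈ Finset.univ \ N, c z * c z = 0 := by linarith
    exact mul_self_eq_zero.1 ((Finset.sum_eq_zero_iff_of_nonneg fun z _ => mul_self_nonneg _).1 h0 y
      (Finset.mem_sdiff.2 ⟨Finset.mem_univ y, hy⟩))
  have all_named : ∀ y, y ∈ N := fun y => by
    simp only [hN, Finset.mem_union, Finset.mem_insert, Finset.mem_singleton]
    rcases hcov y with ⟨i, h | h⟩ | ⟨u, h⟩ | h
    · exact Or.inl (memPr.2 ⟨i, mem_supp.2 h⟩)
    · have hy : y ∈ supp (f i) := mem_supp.2 h
      rw [fsplit, Finset.mem_insert, Finset.mem_insert, Finset.mem_singleton] at hy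
      rcases hy with rfl | rfl | rfl
      · exact Or.inl (memPr.2 ⟨i, (xmem i).2⟩)
      · exact Or.inr (Or.inl (Or.inr rfl))
      · by_cases hio : i = o
        · exact Or.inr (Or.inl (Or.inl (hio ▸ ao)))
        · exact Or.inr (Or.inr (Or.inl (Finset.mem_image.2 ⟨i, Finset.mem_erase.2 ⟨hio, Finset.mem_univ _⟩, rfl⟩)))
    · have hy : y ∈ supp (v u) := mem_supp.2 h
      rw [Veq, Finset.mem_insert, Finset.mem_singleton] at hy
      rcases hy with rfl | rfl
      · exact Or.inr (Or.inl (Or.inr rfl))
      · exact Or.inr (Or.inr (Or.inr (Finset.mem_image.2 ⟨u, Finset.mem_univ _, rfl⟩)))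
    · by_contra hy
      exact h (czero y (fun h' => hy (by simpa only [hN, Finset.mem_union, Finset.mem_insert, Finset.mem_singleton] using h')))
  have hNu : N = Finset.univ := Finset.eq_univ_of_forall all_named
  have cA : A.card = Fintype.card I - 1 := by
    rw [hA, Finset.card_image_of_injective _ a_inj, Finset.card_erase_of_mem (Finset.mem_univ o),
      Finset.card_univ]
  have cF : F.card = Fintype.card U := by
    rw [hF, Finset.card_image_of_injective _ E_inj, Finset.card_univ]
  have cN : N.card = 2 * Fintype.card I + 6 := by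
    rw [hN, Finset.card_union_of_disjoint d1, Finset.card_union_of_disjoint d2,
      Finset.card_union_of_disjoint d3, Finset.card_pair hDone.symm, cA, cF, cPr]
    have : 0 < Fintype.card I := Fintype.card_pos_iff.2 ⟨o⟩
    omega
  refine ⟨by rw [← Finset.card_univ, ← hNu, cN], ?_⟩
  -- the entries prime to 3 are those outside the pairs
  have hPr0 : ∀ y ∈ Pr, c y = 0 := fun y hy => by
    obtain ⟨i, hi⟩ := memPr.1 hy
    have h := pairc i
    rw [px, p0] at h
    norm_num at h
    exact mul_self_eq_zero.1 ((Finset.sum_eq_zero_iff_of_nonneg fun z _ => mul_self_nonneg _).1 h y hi)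
  have hfil : (Finset.univ.filter fun y => ¬ (3 : ℤ) ∣ c y) = {one, D} ∪ (A ∪ F) := by
    ext y
    simp only [Finset.mem_filter, Finset.mem_univ, true_and]
    constructor
    · intro h
      have hy : y ∈ N := all_named y
      rw [hN, Finset.mem_union] at hy
      exact hy.resolve_left fun hP => h (by rw [hPr0 y hP]; exact dvd_zero _)
    · intro hy
      have hsq : c y * c y = 1 ∨ c y * c y = 4 := by
        simp only [Finset.mem_union, Finset.mem_insert, Finset.mem_singleton, hA, hF,
          Finset.mem_image, Finset.mem_erase, Finset.mem_univ, and_true, true_and] at hy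
        rcases hy with (rfl | rfl) | ⟨i, -, rfl⟩ | ⟨u, rfl⟩
        · exact Or.inl (by rw [hc1]; norm_num)
        · exact Or.inr (by rw [cDt, t0]; norm_num)
        · exact Or.inl (by rw [qa, t0, p0]; norm_num)
        · exact Or.inl (by rw [rE, t0]; norm_num)
      rintro ⟨k, hk⟩
      rw [hk] at hsq
      rcases hsq with h | h <;> (ring_nf at h; omega)
  rw [hfil, Finset.card_union_of_disjoint d2, Finset.card_union_of_disjoint d3,
    Finset.card_pair hDone.symm, cA, cF]
  have : 0 < Fintype.card I := Fintype.card_pos_iff.2 ⟨o⟩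
  omega

end Cfsg.Agent.ThreeExtra
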