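import Cfsg.Agent.ThreeExtra.Sections
import Cfsg.Agent.ThreeExtra.Columns
import Cfsg.Agent.ThreeExtra.Embed
import Cfsg.Agent.BlockChar.CentralQuotient

/-!
# The principal block of the centraliser of the centre

A group with a central element of order 3, a Sylow 3-subgroup extraspecial of order 27 and few
classes of noncentral 3-elements, each conjugate to its inverse: the members of the principal block
and generators for the combinations that vanish on the 3-regular elements.
-/

set_option autoImplicit false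

namespace Cfsg.Agent.ThreeExtra

open scoped ComplexConjugate Classical
open Cfsg.Agent Cfsg.Agent.Blocks Cfsg.Agent.SmallAbelian

universe u

theorem sum_point' {ι A : Type*} [Fintype ι] [AddCommMonoid A] (o : ι)
    {inst : ∀ x, Decidable (x = o)} (F : ι → A) :
    ∑ x, (@ite A (x = o) (inst x) (F x) 0) = F o := by
  rw [Finset.sum_eq_single o]
  · rw [if_pos rfl]
  · exact fun b _ hb => if_neg hb
  · exact fun h => absurd (Finset.mem_univ o) h

theorem sum_point {ι A : Type*} [Fintype ι] [AddCommMonoid A] (o : ι)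
    {inst : ∀ x, Decidable (o = x)} (F : ι → A) :
    ∑ x, (@ite A (o = x) (inst x) (F x) 0) = F o := by
  rw [Finset.sum_eq_single o]
  · rw [if_pos rfl]
  · exact fun b _ hb => if_neg (Ne.symm hb)
  · exact fun h => absurd (Finset.mem_univ o) h

variable {H : Type u} [Group H]

/-- The representatives of the classes of 3-elements. -/
noncomputable def secSet (z : H) {m : ℕ} (a : Fin m → H) : Finset H :=
  insert 1 (insert z (insert z⁻¹ (Finset.univ.image a)))

/-- The shape of the 3-local structure. -/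
structure LocalHyp [Fintype H] (z : H) {m : ℕ} (a : Fin m → H) : Prop where
  hm : m = 1 ∨ m = 2 ∨ m = 4
  central : z ∈ Subgroup.center H
  ord : orderOf z = 3
  orda : ∀ b, orderOf (a b) = 3
  inj : Function.Injective a
  notMem : ∀ b, a b ∉ Subgroup.zpowers z
  sect : ∀ g : H, (∃ k, orderOf g = 3 ^ k) → ∃! x, x ∈ secSet z a ∧ IsConj g x
  az : ∀ b, IsConj (a b) (a b * z)
  ainv : ∀ b, IsConj (a b) (a b)⁻¹
  comp : ∀ b, Cfsg.HasNormalPComplement 3 (Subgroup.centralizer ({a b} : Set H))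
  syl : ∀ b, ∀ Q : Sylow 3 (Subgroup.centralizer ({a b} : Set H)), Nat.card Q = 9
  idx : ∀ (_ : (Subgroup.zpowers z).Normal) (b : Fin m),
    ¬ 3 ∣ (Subgroup.centralizer ({(a b : H ⧸ Subgroup.zpowers z)} : Set (H ⧸ Subgroup.zpowers z))).index

/-- Generators for the combinations of the principal block that vanish on the regular elements. -/
structure Gens (M : Ideal Cfsg.AlgInt) [Fintype H] [DecidableEq (Cfsg.principalBlock M H)]
    [Fintype (Cfsg.principalBlock M H)] (a₀ : H) (m : ℕ) (one : Cfsg.principalBlock M H) where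
  I : Type u
  U : Type
  fI : Fintype I
  fU : Fintype U
  dI : DecidableEq I
  dU : DecidableEq U
  o : I
  δ : I → Cfsg.principalBlock M H → ℤ
  f : I → Cfsg.principalBlock M H → ℤ
  v : U → Cfsg.principalBlock M H → ℤ
  c : Cfsg.principalBlock M H → ℤ
  cI : Fintype.card I + m = 6
  cU : Fintype.card U + 1 = m
  hδδ : ∀ i j, dot (δ i) (δ j) = if i = j then 2 else 0
  hfδ : ∀ i j, dot (f i) (δ j) = if i = j then 1 else 0
  hff : ∀ i j, dot (f i) (f j) = if i = j then 3 else 1
  hvδ : ∀ u j, dot (v u) (δ j) = 0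
  hvf : ∀ u j, dot (v u) (f j) = 1
  hvv : ∀ u w, dot (v u) (v w) = if u = w then 2 else 1
  hcc : dot c c = 9
  hcδ : ∀ j, dot c (δ j) = 0
  hcf : ∀ j, dot c (f j) = -3
  hcv : ∀ u, dot c (v u) = -3
  hδ1 : ∀ i, δ i one = 0
  hf1 : ∀ i, f i one = if i = o then -1 else 0
  hv1 : ∀ u, v u one = 0
  col : ∀ θ : Cfsg.principalBlock M H, (c θ : ℂ) = ((θ : Cfsg.IrrCharacter H) : H → ℂ) a₀
  δ_reg : ∀ i (s : H), ¬ 3 ∣ orderOf s → comb _ (fun θ => (δ i θ : ℂ)) s = 0
  f_reg : ∀ i (s : H), ¬ 3 ∣ orderOf s → comb _ (fun θ => (f i θ : ℂ)) s = 0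
  v_reg : ∀ u (s : H), ¬ 3 ∣ orderOf s → comb _ (fun θ => (v u θ : ℂ)) s = 0
  c_reg : ∀ (s : H), ¬ 3 ∣ orderOf s → comb _ (fun θ => (c θ : ℂ)) s = 0
  span : ∀ w n : Cfsg.principalBlock M H → ℂ, (∀ s : H, ¬ 3 ∣ orderOf s → comb _ n s = 0) →
    (∀ i, ∑ θ, (δ i θ : ℂ) * w θ = 0) → (∀ i, ∑ θ, (f i θ : ℂ) * w θ = 0) →
    (∀ u, ∑ θ, (v u θ : ℂ) * w θ = 0) → (∑ θ, (c θ : ℂ) * w θ = 0) → ∑ θ, n θ * w θ = 0

variable [Fintype H] {M : Ideal Cfsg.AlgInt} {z : H} {m : ℕ} {a : Fin m → H}

namespace LocalHyp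

variable (L : LocalHyp z a)
include L

theorem zp : ∃ k, orderOf z = 3 ^ k := ⟨1, by rw [L.ord, pow_one]⟩

theorem ap (b : Fin m) : ∃ k, orderOf (a b) = 3 ^ k := ⟨1, by rw [L.orda, pow_one]⟩

theorem z3 : z ^ 3 = 1 := by rw [← L.ord, pow_orderOf_eq_one]

theorem z_ne_one : z ≠ 1 := fun e => by
  have := L.ord
  rw [e, orderOf_one] at this
  norm_num at this

theorem z_ne_inv : z ≠ z⁻¹ := fun e => by
  have h2 : z ^ 2 = 1 := by rw [pow_two]; nth_rewrite 2 [e]; exact mul_inv_cancel z
  have := orderOf_dvd_of_pow_eq_one h2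
  rw [L.ord] at this
  norm_num at this

theorem a_out (b : Fin m) : a b ≠ 1 ∧ a b ≠ z ∧ a b ≠ z⁻¹ :=
  ⟨fun e => L.notMem b (e ▸ Subgroup.one_mem _),
    fun e => L.notMem b (e.symm ▸ Subgroup.mem_zpowers z),
    fun e => L.notMem b (e.symm ▸ Subgroup.inv_mem _ (Subgroup.mem_zpowers z))⟩

theorem sum_secSet {A : Type*} [AddCommMonoid A] (F : H → A) :
    ∑ x ∈ secSet z a, F x = F 1 + (F z + (F z⁻¹ + ∑ b, F (a b))) := by
  rw [secSet, Finset.sum_insert, Finset.sum_insert, Finset.sum_insert,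
    Finset.sum_image fun b _ c _ e => L.inj e]
  · simp only [Finset.mem_image, Finset.mem_univ, true_and, not_exists]
    exact fun b => (L.a_out b).2.2
  · simp only [Finset.mem_insert, Finset.mem_image, Finset.mem_univ, true_and, not_or, not_exists]
    exact ⟨L.z_ne_inv, fun b => (L.a_out b).2.1⟩
  · simp only [Finset.mem_insert, Finset.mem_image, Finset.mem_univ, true_and, not_or, not_exists]
    exact ⟨L.z_ne_one.symm, fun e => L.z_ne_one (inv_eq_one.1 e.symm), fun b => (L.a_out b).1⟩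

theorem not_isConj {x y : H} (hx : x ∈ secSet z a) (hy : y ∈ secSet z a)
    (hxp : ∃ k, orderOf x = 3 ^ k) (hne : x ≠ y) : ¬ IsConj x y := fun h => by
  obtain ⟨w, -, hu⟩ := L.sect x hxp
  exact hne ((hu x ⟨hx, IsConj.refl x⟩).trans (hu y ⟨hy, h⟩).symm)

theorem mem_a (b : Fin m) : a b ∈ secSet z a := by simp [secSet]

theorem mem_one : (1 : H) ∈ secSet z a := by simp [secSet]

end LocalHyp

/-- The scalar by which a central element acts. -/
noncomputable def lam (z : H) (θ : Cfsg.principalBlock M H) : ℂ :=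
  ((θ : Cfsg.IrrCharacter H) : H → ℂ) z / ((θ : Cfsg.IrrCharacter H) : H → ℂ) 1

/-- The value of a member of the principal block. -/
noncomputable def val (θ : Cfsg.principalBlock M H) : H → ℂ := ((θ : Cfsg.IrrCharacter H) : H → ℂ)

theorem val_one_ne (θ : Cfsg.principalBlock M H) : val θ 1 ≠ 0 := by
  obtain ⟨n, hn, e⟩ := Char.IsIrr.degree θ.1.2
  rw [val, e]
  exact Nat.cast_ne_zero.2 hn.ne'

theorem secM_val_conj (θ φ : Cfsg.principalBlock M H) :
    conj (secM 3 (1 : H) (val θ) (val φ)) = secM 3 1 (val φ) (val θ) := secM_conj _ _ _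

namespace LocalHyp

variable (L : LocalHyp z a)
include L

theorem val_z_mul (θ : Cfsg.principalBlock M H) (s : H) : val θ (z * s) = lam z θ * val θ s :=
  char_central_mul L.central s

theorem lam_conj (θ : Cfsg.principalBlock M H) :
    val θ z⁻¹ / val θ 1 = conj (lam z θ) ∧ lam z θ * conj (lam z θ) = 1 := by
  refine ⟨?_, central_mul_conj θ.1 L.central⟩
  obtain ⟨n, -, e⟩ := Char.IsIrr.degree θ.1.2
  rw [lam, map_div₀, val, Char.IsChar.inv_eq_conj (Char.IsIrr.isCharacter θ.1.2), e,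
    Complex.conj_natCast]

theorem lam_sq (θ : Cfsg.principalBlock M H) : lam z θ * lam z θ = conj (lam z θ) := by
  rw [← (L.lam_conj θ).1, show z⁻¹ = z * z from
    inv_eq_of_mul_eq_one_left (by rw [← L.z3, pow_succ, pow_two]), L.val_z_mul θ z,
    mul_div_assoc]
  rfl

theorem lam_quad {θ : Cfsg.principalBlock M H} (h : lam z θ ≠ 1) :
    1 + lam z θ + conj (lam z θ) = 0 := by
  have h1 := L.lam_sq θ
  have h2 := (L.lam_conj θ).2
  have e : (lam z θ - 1) * (1 + lam z θ + conj (lam z θ)) = 0 := by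
    linear_combination h1 + h2
  exact (mul_eq_zero.1 e).resolve_left (sub_ne_zero.2 h)

theorem secM_zpart (θ φ : Cfsg.principalBlock M H) :
    secM 3 z (val θ) (val φ) = lam z θ * conj (lam z φ) * secM 3 1 (val θ) (val φ) ∧
    secM 3 z⁻¹ (val θ) (val φ) = conj (lam z θ) * lam z φ * secM 3 1 (val θ) (val φ) := by
  have hp : Nat.Prime 3 := Nat.prime_three
  have hinv : ∀ (χ : Cfsg.principalBlock M H) (s : H), val χ (z⁻¹ * s) = conj (lam z χ) * val χ s :=
    fun χ s => by
      rw [← (L.lam_conj χ).1]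
      exact char_central_mul ((Subgroup.center H).inv_mem L.central) s
  have hzi : ∃ k, orderOf z⁻¹ = 3 ^ k := ⟨1, by rw [orderOf_inv, L.ord, pow_one]⟩
  constructor
  · rw [secM_eq_central hp L.central L.zp, secM_eq_central hp (Subgroup.one_mem _) ⟨0, by simp⟩]
    simp only [L.val_z_mul, one_mul, map_mul, Finset.mul_sum]
    exact Finset.sum_congr rfl fun s _ => by split_ifs <;> ring
  · rw [secM_eq_central hp ((Subgroup.center H).inv_mem L.central) hzi,
      secM_eq_central hp (Subgroup.one_mem _) ⟨0, by simp⟩]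
    simp only [hinv, one_mul, map_mul, Complex.conj_conj, Finset.mul_sum]
    exact Finset.sum_congr rfl fun s _ => by split_ifs <;> ring

theorem exists_value (θ : Cfsg.principalBlock M H) (b : Fin m) : ∃ n : ℤ, val θ (a b) = n :=
  exists_int_of_cube (Char.IsIrr.isCharacter θ.1.2)
    (by rw [← L.orda b, pow_orderOf_eq_one]) (L.ainv b)

/-- The columns. -/
noncomputable def dd (b : Fin m) (θ : Cfsg.principalBlock M H) : ℤ := (L.exists_value θ b).choose

theorem dd_spec (b : Fin m) (θ : Cfsg.principalBlock M H) : val θ (a b) = (L.dd b θ : ℂ) :=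
  (L.exists_value θ b).choose_spec

variable (hM : Cfsg.IsPModular 3 M)
include hM

theorem secM_apart (b : Fin m) (θ φ : Cfsg.principalBlock M H) :
    secM 3 (a b) (val θ) (val φ) = (L.dd b θ : ℂ) * (L.dd b φ : ℂ) / 9 := by
  rw [secM_of_const Nat.prime_three (L.ap b) (L.comp b) default (f := val θ) (g := val φ)
      (fun y hy => const_section (y := y) hM (L.ap b) (L.comp b) θ.2 hy)
      (fun y hy => const_section (y := y) hM (L.ap b) (L.comp b) φ.2 hy),
    L.syl b default, L.dd_spec, L.dd_spec, map_intCast]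
  norm_num

theorem sect_formula (θ φ : Cfsg.principalBlock M H) :
    (1 + lam z θ * conj (lam z φ) + conj (lam z θ) * lam z φ) * secM 3 1 (val θ) (val φ) +
      (∑ b, (L.dd b θ : ℂ) * (L.dd b φ : ℂ)) / 9 = if θ = φ then 1 else 0 := by
  have h := sum_secM (p := 3) Nat.prime_three L.sect θ.1 φ.1
  rw [L.sum_secSet] at h
  change secM 3 1 (val θ) (val φ) + (secM 3 z (val θ) (val φ) + (secM 3 z⁻¹ (val θ) (val φ) +
    ∑ b, secM 3 (a b) (val θ) (val φ))) = _ at h
  simp only [L.secM_zpart, L.secM_apart hM, ← Finset.sum_div] at h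
  rw [if_congr Subtype.coe_inj rfl rfl] at h
  linear_combination h

theorem col_orth (b c : Fin m) :
    ∑ θ : Cfsg.principalBlock M H, L.dd b θ * L.dd c θ = if b = c then 9 else 0 := by
  have hB := isPBlock_principalBlock (G := H) M
  set o : Cfsg.principalBlock M H := ⟨triv H, triv_mem_principalBlock hM⟩
  have ho : ∀ b, L.dd b o = 1 := fun b => by
    have h := L.dd_spec b o
    rw [show val o (a b) = 1 from rfl] at h
    exact_mod_cast h.symm
  have e : ∀ F : Cfsg.IrrCharacter H → ℂ, ∑ᶠ φ ∈ Cfsg.principalBlock M H, F φ =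
      ∑ φ : Cfsg.principalBlock M H, F φ := fun F => by
    rw [finsum_mem_eq_finite_toFinset_sum _ (Set.toFinite _)]
    exact Finset.sum_subtype _ (fun φ => Set.Finite.mem_toFinset _) F
  have key : ∑ φ : Cfsg.principalBlock M H, secM 3 (a b) (val o) (val φ) * secM 3 (a c) (val φ) (val o) =
      if b = c then (1 : ℂ) / 9 else 0 := by
    by_cases hbc : b = c
    · subst hbc
      rw [if_pos rfl]
      refine ((e fun φ => secM 3 (a b) (val o) (φ : H → ℂ) * secM 3 (a b) (φ : H → ℂ) (val o)).symm.trans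
        (secM_mul_self hM L.sect hB (L.mem_a b) (L.ap b) o.1 o.1 o.2)).trans ?_
      show secM 3 (a b) (val o) (val o) = _
      rw [L.secM_apart hM, ho]
      norm_num
    · rw [if_neg hbc]
      exact (e fun φ => secM 3 (a b) (val o) (φ : H → ℂ) * secM 3 (a c) (φ : H → ℂ) (val o)).symm.trans
        (secM_mul_secM hM hB (L.not_isConj (L.mem_a b) (L.mem_a c) (L.ap b) fun h => hbc (L.inj h)) _ _)
  simp only [L.secM_apart hM, ho, Int.cast_one, one_mul, mul_one, div_mul_div_comm,
    ← Finset.sum_div] at key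
  apply Int.cast_injective (α := ℂ)
  push_cast
  split_ifs at key ⊢
  · linear_combination 81 * key
  · linear_combination 81 * key

theorem col_regular (b : Fin m) {s : H} (hs : ¬ 3 ∣ orderOf s) :
    ∑ θ : Cfsg.principalBlock M H, (L.dd b θ : ℂ) * val θ s = 0 := by
  have h := block_orthogonality hM (isPBlock_principalBlock (G := H) M) (a b) s (by
    rw [(pPartOf_eq_one_iff Nat.prime_three _).2 hs, inv_one, isConj_one_left,
      show pPartOf 3 (a b) = a b from by
        have := (parts_mul Nat.prime_three (Commute.one_right (a b)) (L.ap b)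
          (by simp : ¬ 3 ∣ orderOf (1 : H))).1
        rwa [mul_one] at this]
    exact (L.a_out b).1)
  rw [finsum_mem_eq_finite_toFinset_sum _ (Set.toFinite _),
    Finset.sum_subtype _ (fun φ => Set.Finite.mem_toFinset _)] at h
  rw [← h]
  exact Finset.sum_congr rfl fun θ _ => by rw [← L.dd_spec]; rfl

omit hM in
theorem dd_zero {θ : Cfsg.principalBlock M H} (h : lam z θ ≠ 1) (b : Fin m) : L.dd b θ = 0 := by
  have e : val θ (a b) = lam z θ * val θ (a b) := by
    rw [← L.val_z_mul, ← Subgroup.mem_center_iff.1 L.central (a b)]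
    exact Char.classFun_isConj (Char.isClassFunction_of_isIrr θ.1.2) (L.az b)
  have h0 : (1 - lam z θ) * val θ (a b) = 0 := by linear_combination e
  have := (mul_eq_zero.1 h0).resolve_left (sub_ne_zero.2 (Ne.symm h))
  rw [L.dd_spec] at this
  exact_mod_cast this

/-- The characters trivial on the centre span the others on the regular elements, and have no
zeros at the noncentral classes. -/
theorem quotient_facts :
    (∀ θ : Cfsg.principalBlock M H, ∃ n : {t : Cfsg.principalBlock M H // lam z t = 1} → ℤ,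
      ∀ s : H, ¬ 3 ∣ orderOf s → val θ s = ∑ t, (n t : ℂ) * val t.1 s) ∧
    ∀ θ : Cfsg.principalBlock M H, lam z θ = 1 → ∀ b, L.dd b θ ≠ 0 := by
  haveI hNn : (Subgroup.zpowers z).Normal := ⟨fun n hn g => by
    have hc : n ∈ Subgroup.center H := Subgroup.zpowers_le.2 L.central hn
    rw [Subgroup.mem_center_iff.1 hc g, mul_inv_cancel_right]
    exact hn⟩
  set N := Subgroup.zpowers z
  have hN : IsPGroup 3 N := IsPGroup.of_card (n := 1) (by rw [Nat.card_zpowers, L.ord, pow_one])
  have hc : N ≤ Subgroup.center H := Subgroup.zpowers_le.2 L.central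
  obtain ⟨b', hb', hiff, hlift, -⟩ :=
    BlockChar.exists_quotient_block N hM hN hc (isPBlock_principalBlock (G := H) M)
  have hb0 : b' = Cfsg.principalBlock M (H ⧸ N) := by
    rw [principalBlock_eq]
    exact IsPBlock.eq_blockOf hM hb' ((hiff (triv _)).2 (triv_mem_principalBlock hM))
  refine ⟨fun θ => ?_, fun θ hθ b hd => ?_⟩
  · obtain ⟨w, hw, hval⟩ := BlockChar.exists_int_lift N hM hN hc
      (isPBlock_principalBlock (G := H) M) hiff θ.2
    refine ⟨fun t => ∑ η, if BlockChar.inflIrr N η = t.1.1 then w η else 0, fun s hs => ?_⟩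
    rw [val, hval s hs]
    push_cast
    simp only [Finset.sum_mul]
    rw [Finset.sum_comm]
    refine Finset.sum_congr rfl fun η _ => ?_
    by_cases h0 : w η = 0
    · simp [h0]
    have hlam : lam z (⟨_, (hiff η).1 (hw η h0)⟩ : Cfsg.principalBlock M H) = 1 := by
      show (η : H ⧸ N → ℂ) (z : H ⧸ N) / (η : H ⧸ N → ℂ) ((1 : H) : H ⧸ N) = 1
      rw [(QuotientGroup.eq_one_iff z).2 (Subgroup.mem_zpowers z), QuotientGroup.mk_one, div_self]
      obtain ⟨k, hk, e⟩ := Char.IsIrr.degree η.2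
      rw [e]
      exact Nat.cast_ne_zero.2 hk.ne'
    rw [Finset.sum_eq_single (⟨⟨_, (hiff η).1 (hw η h0)⟩, hlam⟩ :
      {t : Cfsg.principalBlock M H // lam z t = 1})]
    · rw [if_pos rfl]; rfl
    · intro t _ ht
      rw [if_neg fun e => ht (Subtype.ext (Subtype.ext e.symm)), zero_mul]
    · exact fun h => absurd (Finset.mem_univ _) h
  · have htriv : ∀ n ∈ N, val θ n = val θ 1 := fun n hn => by
      obtain ⟨k, rfl⟩ := mem_powers_iff_mem_zpowers.2 hn
      clear hn
      show val θ (z ^ k) = val θ 1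
      induction k with
      | zero => rw [pow_zero]
      | succ i ih => rw [pow_succ', L.val_z_mul, hθ, one_mul, ih]
    obtain ⟨η, hη, he⟩ := hlift θ.1 θ.2 htriv
    rw [hb0] at hη
    refine apply_ne_zero_of_not_dvd_index hM (L.idx hNn b) hη ?_
    have h := L.dd_spec b θ
    rw [hd, Int.cast_zero, val, ← he] at h
    exact h

end LocalHyp

/-- A combination of the characters trivial on the centre. -/
noncomputable def evalT (z : H) (n : {t : Cfsg.principalBlock M H // lam z t = 1} → ℤ) : H → ℂ :=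
  fun y => ∑ t, (n t : ℂ) * val t.1 y

set_option maxHeartbeats 4000000 in
/-- The pieces of the structure of the block. -/
theorem LocalHyp.structure_block [NeZero m] (L : LocalHyp z a) (hM : Cfsg.IsPModular 3 M) :
    Nat.card (Cfsg.principalBlock M H) = 2 * (6 - m) + 6 ∧
    Cfsg.blockRank 3 (Cfsg.principalBlock M H) = 6 - m ∧
    Nonempty (Gens M (a 0) m ⟨triv H, triv_mem_principalBlock hM⟩) := by
  obtain ⟨hlift, hne⟩ := L.quotient_facts hM
  choose n hn using hlift
  let T := {t : Cfsg.principalBlock M H // lam z t = 1}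
  let o : T := ⟨⟨triv H, triv_mem_principalBlock hM⟩, div_one (1 : ℂ)⟩
  let d : Fin m → T → ℤ := fun b t => L.dd b t.1
  let R : Cfsg.principalBlock M H → Cfsg.principalBlock M H → ℂ := fun θ φ =>
    secM 3 (1 : H) (val θ) (val φ)
  have sumT : ∀ F : Cfsg.principalBlock M H → ℂ,
      (∑ t : T, F t.1) + ∑ w : {w : Cfsg.principalBlock M H // ¬ lam z w = 1}, F w.1 = ∑ θ, F θ :=
    fun F => Fintype.sum_subtype_add_sum_subtype _ F
  have sumTd : ∀ b (F : Cfsg.principalBlock M H → ℂ),
      ∑ θ, (L.dd b θ : ℂ) * F θ = ∑ t : T, (d b t : ℂ) * F t.1 := fun b F => by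
    rw [← sumT, Finset.sum_eq_zero (s := (Finset.univ : Finset {w : Cfsg.principalBlock M H //
      ¬ lam z w = 1})) fun w _ => by rw [L.dd_zero w.2, Int.cast_zero, zero_mul], add_zero]
  have hdd : ∀ b c, ∑ t : T, d b t * d c t = if b = c then 9 else 0 := fun b c => by
    rw [← L.col_orth hM b c, ← Fintype.sum_subtype_add_sum_subtype (fun t => lam z t = 1)
      fun θ => L.dd b θ * L.dd c θ, Finset.sum_eq_zero (s := (Finset.univ : Finset
      {w : Cfsg.principalBlock M H // ¬ lam z w = 1})) fun w _ => by rw [L.dd_zero w.2, zero_mul],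
      add_zero]
  have hrel : ∀ b (s : H), ¬ 3 ∣ orderOf s → ∑ t : T, (d b t : ℂ) * val t.1 s = 0 :=
    fun b s hs => by rw [← sumTd b fun θ => val θ s]; exact L.col_regular hM b hs
  have hdo : ∀ b, d b o = 1 := fun b => by
    have h := L.dd_spec b o.1
    rw [show val o.1 (a b) = 1 from rfl] at h
    exact_mod_cast h.symm
  have RTT : ∀ t t' : T, R t.1 t'.1 =
      ((if t = t' then 1 else 0) - (∑ b, (d b t : ℂ) * (d b t' : ℂ)) / 9) / 3 := fun t t' => by
    have h := L.sect_formula hM t.1 t'.1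
    rw [t.2, t'.2, map_one, if_congr Subtype.coe_inj rfl rfl] at h
    linear_combination (1 / 3 : ℂ) * h
  have form : ∀ u w : T → ℤ, secM 3 (1 : H) (evalT z u) (evalT z w) =
      ((∑ t, (u t : ℂ) * (w t : ℂ)) -
        (∑ b, (∑ t, (d b t : ℂ) * (u t : ℂ)) * (∑ t, (d b t : ℂ) * (w t : ℂ))) / 9) / 3 := by
    intro u w
    refine (secM_sum_left (p := 3) Finset.univ (1 : H) (fun t : T => (u t : ℂ))
      (fun t : T => val t.1) (evalT z w)).trans ?_
    refine (Finset.sum_congr rfl fun t _ => congrArg ((u t : ℂ) * ·)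
      (secM_sum_right (p := 3) Finset.univ (1 : H) (fun t : T => (w t : ℂ)) (fun t : T => val t.1)
        (val t.1))).trans ?_
    simp only [map_intCast]
    have inner : ∀ t : T, ∑ t' : T, (w t' : ℂ) * secM 3 (1 : H) (val t.1) (val t'.1) =
        ((w t : ℂ) - (∑ b, (d b t : ℂ) * ∑ t' : T, (d b t' : ℂ) * (w t' : ℂ)) / 9) / 3 := fun t => by
      simp only [show ∀ t t' : T, secM 3 (1 : H) (val t.1) (val t'.1) =
        ((if t = t' then 1 else 0) - (∑ b, (d b t : ℂ) * (d b t' : ℂ)) / 9) / 3 from RTT,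
        ← mul_div_assoc, mul_sub, Finset.mul_sum, ← Finset.sum_div, Finset.sum_sub_distrib, mul_ite,
        mul_one, mul_zero]
      rw [sum_point, Finset.sum_comm]
      congr 3
      exact Finset.sum_congr rfl fun b _ => Finset.sum_congr rfl fun t' _ => by ring
    refine (Finset.sum_congr rfl fun t _ => congrArg ((u t : ℂ) * ·) (inner t)).trans ?_
    simp only [← mul_div_assoc, mul_sub, ← Finset.sum_div, Finset.sum_sub_distrib]
    congr 3
    simp only [Finset.mul_sum, Finset.sum_mul]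
    rw [Finset.sum_comm]
    refine Finset.sum_congr rfl fun b _ => ?_
    rw [Finset.sum_comm]
    exact Finset.sum_congr rfl fun t' _ => Finset.sum_congr rfl fun t _ => by ring
  have lamW : ∀ θ φ : Cfsg.principalBlock M H, ¬ lam z θ = 1 → lam z φ = lam z θ →
      R θ φ = if θ = φ then 1 / 3 else 0 := fun θ φ h e => by
    have hf := L.sect_formula hM θ φ
    rw [e, Finset.sum_eq_zero (s := (Finset.univ : Finset (Fin m))) fun b _ => by
      rw [L.dd_zero h b, Int.cast_zero, zero_mul], zero_div, add_zero] at hf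
    have hl := (L.lam_conj θ).2
    split_ifs at hf ⊢ with hθ
    · linear_combination (1 / 3 : ℂ) * hf - (2 / 3 * R θ φ : ℂ) * hl
    · linear_combination (1 / 3 : ℂ) * hf - (2 / 3 * R θ φ : ℂ) * hl
  have reg1 : ∀ y : H, pPartOf 3 y = 1 → ¬ 3 ∣ orderOf y :=
    fun y hy => (pPartOf_eq_one_iff Nat.prime_three _).1 hy
  have R_lift : ∀ θ φ, R θ φ = secM 3 (1 : H) (evalT z (n θ)) (evalT z (n φ)) := fun θ φ =>
    secM_congr (fun y hy => hn θ y (reg1 y hy)) fun y hy => hn φ y (reg1 y hy)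
  have normW : ∀ θ : Cfsg.principalBlock M H, ¬ lam z θ = 1 →
      9 * ∑ t : T, n θ t * n θ t -
        ∑ b, (∑ t : T, d b t * n θ t) * (∑ t : T, d b t * n θ t) = 9 := fun θ h => by
    have h1 := lamW θ θ h rfl
    rw [if_pos rfl, R_lift, form] at h1
    apply Int.cast_injective (α := ℂ)
    push_cast
    linear_combination 27 * h1
  have hcong : ∀ b c t, (3 : ℤ) ∣ d b t - d c t := fun b c t => by
    refine (memLocalIdeal_intCast_iff hM _).1 ?_
    have h1 := memLocalIdeal_char_sub_degree hM (Char.IsIrr.isCharacter t.1.1.2) (L.ap b)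
    have h2 := memLocalIdeal_char_sub_degree hM (Char.IsIrr.isCharacter t.1.1.2) (L.ap c)
    have h3 := memLocalIdeal_sub hM h1 h2
    have e1 := L.dd_spec b t.1
    have e2 := L.dd_spec c t.1
    simp only [val] at e1 e2
    rw [e1, e2] at h3
    push_cast
    simpa using h3
  -- some member is not trivial on the centre
  obtain ⟨θ₀, hθ₀⟩ : ∃ θ : Cfsg.principalBlock M H, ¬ lam z θ = 1 := by
    by_contra! hall
    have h := secM_mul_self hM L.sect (isPBlock_principalBlock (G := H) M) L.mem_one ⟨0, by simp⟩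
      o.1.1 o.1.1 o.1.2
    rw [finsum_mem_eq_finite_toFinset_sum _ (Set.toFinite _),
      Finset.sum_subtype _ (fun φ => Set.Finite.mem_toFinset _)] at h
    change ∑ φ : Cfsg.principalBlock M H, R o.1 φ * R φ o.1 = R o.1 o.1 at h
    rw [← sumT, Finset.sum_eq_zero (s := (Finset.univ : Finset {w : Cfsg.principalBlock M H //
      ¬ lam z w = 1})) (fun w _ => absurd (hall w.1) w.2), add_zero] at h
    simp only [RTT, hdo, Int.cast_one, one_mul, mul_one, if_true, Finset.sum_const, Finset.card_univ,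
      Fintype.card_fin, nsmul_eq_mul] at h
    set S : T → ℂ := fun t => ∑ b, (d b t : ℂ) with hS
    have e : ∀ t : T, ((if o = t then (1 : ℂ) else 0) - S t / 9) / 3 *
        (((if t = o then (1 : ℂ) else 0) - S t / 9) / 3) =
        (if t = o then (1 - 2 * (S t) / 9) / 9 else 0) + S t * S t / 729 := fun t => by
      by_cases h : t = o
      · rw [if_pos h, if_pos h.symm, if_pos h]; ring
      · rw [if_neg h, if_neg (Ne.symm h), if_neg h]; ring
    change ∑ t : T, ((if o = t then (1 : ℂ) else 0) - S t / 9) / 3 *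
        (((if t = o then (1 : ℂ) else 0) - S t / 9) / 3) = _ at h
    have hSo : S o = m := by simp [hS, hdo]
    have hSS : ∑ t, S t * S t = 9 * m := by
      simp only [hS, Finset.sum_mul_sum]
      rw [Finset.sum_comm, Finset.sum_congr rfl fun b _ => Finset.sum_comm]
      have : ∀ b c, ∑ t : T, (d b t : ℂ) * (d c t : ℂ) = if b = c then 9 else 0 := fun b c => by
        exact_mod_cast congrArg (Int.cast : ℤ → ℂ) (hdd b c)
      simp [this, mul_comm]
    simp only [e, Finset.sum_add_distrib] at h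
    rw [sum_point'] at h
    simp only [hSo, ← Finset.sum_div, hSS] at h
    have : (m : ℂ) = 9 := by linear_combination (81 / 2 : ℂ) * h
    rcases L.hm with e | e | e <;> rw [e] at this <;> norm_num at this
  have hdeg : ∀ t : T, val t.1 1 = ((Cfsg.charDegree (val t.1) : ℤ) : ℂ) := fun t => by
    rw [Int.cast_natCast]
    exact (charDegree_cast (Char.IsIrr.isCharacter t.1.1.2)).symm
  obtain ⟨p, ε, hp, hε, hd, hT⟩ := shape L.hm d hdd (fun b t => hne t.1 t.2 b) hcong o hdo
    (fun t => (Cfsg.charDegree (val t.1) : ℤ))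
    (fun b => by
      apply Int.cast_injective (α := ℂ)
      have h := hrel b 1 (by simp)
      simp only [hdeg] at h
      push_cast at h ⊢
      exact h)
    (by
      have h := hdeg o
      rw [show val o.1 (1 : H) = 1 from rfl] at h
      exact_mod_cast h.symm)
    ⟨n θ₀, normW θ₀ hθ₀⟩
  let A := (Finset.univ.image p)ᶜ
  have hεε : ∀ t, ε t * ε t = 1 := fun t => by rcases hε t with e | e <;> rw [e] <;> norm_num
  have memA : ∀ {t}, t ∈ A ↔ ∀ b, p b ≠ t := by simp [A]
  have cardA : A.card + m = 6 := by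
    have := Finset.card_le_univ (Finset.univ.image p)
    rw [Finset.card_image_of_injective _ hp, Finset.card_univ, Fintype.card_fin] at this
    show ((Finset.univ.image p)ᶜ).card + m = 6
    rw [Finset.card_compl, Finset.card_image_of_injective _ hp, Finset.card_univ, Fintype.card_fin]
    omega
  have dA : ∀ b, ∀ i ∈ A, d b i = ε i := fun b i hi => by
    rw [hd, pat_out (Finset.mem_compl.1 hi), mul_one]
  have oA : o ∈ A := memA.2 fun b e => by
    have h := hd b o
    rw [hdo, ← e, pat_self] at h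
    omega
  have εo : ε o = 1 := by rw [← dA 0 o oA, hdo]
  -- the minimal vectors
  have hshort : ∀ θ : Cfsg.principalBlock M H, ¬ lam z θ = 1 → ∃ i : A, ∃ s : ℤ,
      (s = 1 ∨ s = -1) ∧ ∀ y, ¬ 3 ∣ orderOf y →
        val θ y = s * ((ε i.1 : ℂ) * val i.1.1 y + (ε (p 0) : ℂ) * val (p 0).1 y) := fun θ h => by
    obtain ⟨i, hi, s, hs, hf⟩ := short_vector L.hm hp hε hd hT (n θ) (normW θ h)
    exact ⟨⟨i, hi⟩, s, hs, fun y hy =>
      (hn θ y hy).trans (hf (fun t => val t.1 y) fun b => hrel b y hy)⟩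
  haveI : Nonempty A := ⟨⟨o, oA⟩⟩
  choose! idx sg hsg hval using hshort
  let ev : A → T → ℤ := fun i t =>
    (if t = i.1 then ε i.1 else 0) + if t = p 0 then ε (p 0) else 0
  have ev_sum : ∀ (i : A) (F : T → ℂ),
      ∑ t, (ev i t : ℂ) * F t = (ε i.1 : ℂ) * F i.1 + (ε (p 0) : ℂ) * F (p 0) := fun i F => by
    simp [ev, add_mul, Finset.sum_add_distrib]
    rw [sum_point', sum_point']
  have evalT_ev : ∀ (i : A) y, evalT z (ev i) y =
      (ε i.1 : ℂ) * val i.1.1 y + (ε (p 0) : ℂ) * val (p 0).1 y := fun i y =>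
    ev_sum i fun t => val t.1 y
  have εC : ∀ t, (ε t : ℂ) * (ε t : ℂ) = 1 := fun t => by exact_mod_cast hεε t
  have d_ev : ∀ (b : Fin m) (i : A),
      ∑ t, (d b t : ℂ) * (ev i t : ℂ) = if b = 0 then 3 else 0 := fun b i => by
    simp only [mul_comm (d b _ : ℂ)]
    rw [ev_sum, dA b i.1 i.2, hd, εC]
    rcases eq_or_ne b 0 with rfl | hb
    · rw [if_pos rfl, pat_self]
      push_cast
      linear_combination 2 * εC (p 0)
    · rw [if_neg hb, pat_other hp (Ne.symm hb)]
      push_cast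
      linear_combination -(εC (p 0))
  have ev_ev : ∀ i j : A, ∑ t, (ev i t : ℂ) * (ev j t : ℂ) = (if i = j then 1 else 0) + 1 :=
    fun i j => by
    rw [ev_sum]
    have h1 : ∀ i : A, i.1 ≠ p 0 := fun i e => memA.1 i.2 0 e.symm
    by_cases hij : i = j
    · subst hij
      simp [ev, h1 i, (h1 i).symm, εC]
    · have h2 : i.1 ≠ j.1 := fun e => hij (Subtype.ext e)
      simp [ev, h1 i, (h1 j).symm, h2, hij, εC]
  have d_sum : ∀ b (F : T → ℂ), ∑ t, (d b t : ℂ) * F t =
      ∑ t, (pat p b t : ℂ) * ((ε t : ℂ) * F t) := fun b F =>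
    Finset.sum_congr rfl fun t _ => by rw [hd]; push_cast; ring
  have RHH : ∀ i j : A, secM 3 (1 : H) (evalT z (ev i)) (evalT z (ev j)) =
      if i = j then 1 / 3 else 0 := fun i j => by
    rw [form, ev_ev]
    simp only [d_ev, ite_mul, zero_mul, mul_ite, mul_zero, Finset.sum_ite_eq', Finset.mem_univ,
      if_true]
    split_ifs <;> norm_num
  have RW : ∀ θ φ, ¬ lam z θ = 1 → ¬ lam z φ = 1 →
      R θ φ = if idx θ = idx φ then (sg θ : ℂ) * (sg φ : ℂ) / 3 else 0 := fun θ φ h h' => by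
    have e : R θ φ = secM 3 (1 : H) (fun y => ∑ _k ∈ ({0} : Finset ℕ), (sg θ : ℂ) * evalT z (ev (idx θ)) y)
        (fun y => ∑ _k ∈ ({0} : Finset ℕ), (sg φ : ℂ) * evalT z (ev (idx φ)) y) :=
      secM_congr
        (fun y hy => by rw [Finset.sum_singleton, evalT_ev]; exact hval θ h y (reg1 y hy))
        (fun y hy => by rw [Finset.sum_singleton, evalT_ev]; exact hval φ h' y (reg1 y hy))
    rw [e, secM_sum_left, secM_sum_right, Finset.sum_singleton, Finset.sum_singleton, map_intCast,
      RHH]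
    split_ifs <;> ring
  have sgsq : ∀ θ, ¬ lam z θ = 1 → (sg θ : ℂ) * (sg θ : ℂ) = 1 := fun θ h => by
    rcases hsg θ h with e | e <;> rw [e] <;> norm_num
  -- each minimal vector occurs twice
  have two : ∀ j : A, (Finset.univ.filter fun θ : Cfsg.principalBlock M H =>
      ¬ lam z θ = 1 ∧ idx θ = j).card = 2 := by
    intro j
    have hcomb : comb (Cfsg.principalBlock M H) (fun θ => if h : lam z θ = 1 then (ev j ⟨θ, h⟩ : ℂ) else 0) =
        evalT z (ev j) := funext fun y => by
      show ∑ θ : Cfsg.principalBlock M H, _ * val θ y = _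
      rw [← sumT, Finset.sum_eq_zero (s := (Finset.univ : Finset {w : Cfsg.principalBlock M H //
        ¬ lam z w = 1})) (fun w _ => by rw [dif_neg w.2, zero_mul]), add_zero]
      exact Finset.sum_congr rfl fun t _ => by rw [dif_pos t.2]
    have h := secM_mul_self_comb hM L.sect (isPBlock_principalBlock (G := H) M) L.mem_one
      ⟨0, by simp⟩ (fun θ => if h : lam z θ = 1 then (ev j ⟨θ, h⟩ : ℂ) else 0)
      (fun θ => if h : lam z θ = 1 then (ev j ⟨θ, h⟩ : ℂ) else 0)
    rw [hcomb, RHH, if_pos rfl] at h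
    change ∑ φ : Cfsg.principalBlock M H, secM 3 1 (evalT z (ev j)) (val φ) *
      secM 3 1 (val φ) (evalT z (ev j)) = 1 / 3 at h
    rw [← sumT] at h
    let e1 : T → T → ℤ := fun t t' => if t' = t then 1 else 0
    have he1 : ∀ t, evalT z (e1 t) = val t.1 := fun t => funext fun y => by simp [evalT, e1]
    have hleft : ∀ t : T, secM 3 1 (evalT z (ev j)) (val t.1) * secM 3 1 (val t.1) (evalT z (ev j)) =
        ((ev j t : ℂ) * (ev j t : ℂ) - 2 / 3 * ((d 0 t : ℂ) * (ev j t : ℂ)) +
          (d 0 t : ℂ) * (d 0 t : ℂ) / 9) / 9 := fun t => by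
      rw [← he1 t, form, form]
      simp only [d_ev, ite_mul, zero_mul, mul_ite, mul_zero, Finset.sum_ite_eq', Finset.mem_univ,
        if_true, e1, Int.cast_ite, Int.cast_one, Int.cast_zero, mul_one]
      repeat rw [sum_point']
      ring
    have hd0 : ∑ t : T, (d 0 t : ℂ) * (d 0 t : ℂ) = 9 := by
      exact_mod_cast congrArg (Int.cast : ℤ → ℂ) ((hdd 0 0).trans (if_pos rfl))
    have hT' : ∑ t : T, secM 3 1 (evalT z (ev j)) (val t.1) * secM 3 1 (val t.1) (evalT z (ev j)) =
        1 / 9 := by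
      simp only [hleft, ← Finset.sum_div, Finset.sum_add_distrib, Finset.sum_sub_distrib,
        ← Finset.mul_sum, hd0, ev_ev, d_ev, if_true]
      norm_num
    have hW' : ∀ w : {w : Cfsg.principalBlock M H // ¬ lam z w = 1},
        secM 3 1 (evalT z (ev j)) (val w.1) * secM 3 1 (val w.1) (evalT z (ev j)) =
        if idx w.1 = j then 1 / 9 else 0 := fun w => by
      have e : ∀ y, pPartOf 3 y = 1 → val w.1 y =
          ∑ _k ∈ ({0} : Finset ℕ), (sg w.1 : ℂ) * evalT z (ev (idx w.1)) y := fun y hy => by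
        rw [Finset.sum_singleton, evalT_ev]; exact hval w.1 w.2 y (reg1 y hy)
      rw [secM_congr (fun y _ => rfl) e, secM_congr e (fun y _ => rfl), secM_sum_left, secM_sum_right,
        Finset.sum_singleton, Finset.sum_singleton, map_intCast, RHH, RHH]
      by_cases hj : idx w.1 = j
      · rw [if_pos hj, if_pos hj, if_pos hj.symm]
        linear_combination (1 / 9 : ℂ) * sgsq w.1 w.2
      · rw [if_neg hj, if_neg hj, if_neg (Ne.symm hj)]
        ring
    rw [hT', Finset.sum_congr rfl fun w _ => hW' w, Finset.sum_ite, Finset.sum_const_zero, add_zero,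
      Finset.sum_const, nsmul_eq_mul] at h
    have hc : ((Finset.univ.filter fun w : {w : Cfsg.principalBlock M H // ¬ lam z w = 1} =>
        idx w.1 = j).card : ℂ) = 2 := by linear_combination 9 * h
    have hc' : (Finset.univ.filter fun w : {w : Cfsg.principalBlock M H // ¬ lam z w = 1} =>
        idx w.1 = j).card = 2 := by exact_mod_cast hc
    rw [← hc']
    symm
    refine Finset.card_bij (fun w _ => w.1) (fun w hw => ?_) (fun _ _ _ _ e => Subtype.ext e)
      fun θ hθ => ?_
    · exact Finset.mem_filter.2 ⟨Finset.mem_univ _, w.2, (Finset.mem_filter.1 hw).2⟩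
    · obtain ⟨h1, h2⟩ := (Finset.mem_filter.1 hθ).2
      exact ⟨⟨θ, h1⟩, Finset.mem_filter.2 ⟨Finset.mem_univ _, h2⟩, rfl⟩
  have htwo : ∀ j : A, ∃ x y : Cfsg.principalBlock M H, x ≠ y ∧
      Finset.univ.filter (fun θ => ¬ lam z θ = 1 ∧ idx θ = j) = {x, y} :=
    fun j => Finset.card_eq_two.1 (two j)
  choose θ θ' hθne hθset using htwo
  have hθ : ∀ j, (¬ lam z (θ j) = 1 ∧ idx (θ j) = j) ∧ (¬ lam z (θ' j) = 1 ∧ idx (θ' j) = j) :=
    fun j => by
    have h1 : θ j ∈ Finset.univ.filter (fun x => ¬ lam z x = 1 ∧ idx x = j) := by simp [hθset j]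
    have h2 : θ' j ∈ Finset.univ.filter (fun x => ¬ lam z x = 1 ∧ idx x = j) := by simp [hθset j]
    exact ⟨(Finset.mem_filter.1 h1).2, (Finset.mem_filter.1 h2).2⟩
  have cardW : Fintype.card {w : Cfsg.principalBlock M H // ¬ lam z w = 1} = 2 * A.card := by
    rw [Fintype.card_subtype, Finset.card_eq_sum_card_fiberwise (f := idx)
      (t := (Finset.univ : Finset A)) (fun x _ => Finset.mem_univ _)]
    simp only [Finset.filter_filter, two, Finset.sum_const, Finset.card_univ, Fintype.card_coe,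
      smul_eq_mul, mul_comm]
  have cardB : Nat.card (Cfsg.principalBlock M H) = 2 * (6 - m) + 6 := by
    rw [Nat.card_eq_fintype_card,
      ← Fintype.card_congr (Equiv.sumCompl fun t : Cfsg.principalBlock M H => lam z t = 1),
      Fintype.card_sum, cardW]
    show Fintype.card T + _ = _
    omega
  refine ⟨cardB, ?_, ?_⟩
  · -- the rank
    have htr : ∑ φ : Cfsg.principalBlock M H, R φ φ = (Cfsg.blockRank 3 (Cfsg.principalBlock M H) : ℂ) := by
      rw [← trace_secM_one hM, finsum_mem_eq_finite_toFinset_sum _ (Set.toFinite _)]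
      exact (Finset.sum_subtype _ (fun φ : Cfsg.IrrCharacter H => Set.Finite.mem_toFinset _)
        fun φ : Cfsg.IrrCharacter H => secM 3 (1 : H) (φ : H → ℂ) (φ : H → ℂ)).symm
    have hdiag : ∀ φ : Cfsg.principalBlock M H,
        3 * R φ φ + (∑ b, (L.dd b φ : ℂ) * (L.dd b φ : ℂ)) / 9 = 1 := fun φ => by
      have h := L.sect_formula hM φ φ
      rw [if_pos rfl] at h
      linear_combination h - (2 * R φ φ) * (L.lam_conj φ).2
    have hsum := Finset.sum_congr (rfl : (Finset.univ : Finset (Cfsg.principalBlock M H)) = _)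
      fun φ _ => hdiag φ
    have hcol : ∀ b, ∑ φ : Cfsg.principalBlock M H, (L.dd b φ : ℂ) * (L.dd b φ : ℂ) = 9 := fun b => by
      exact_mod_cast congrArg (Int.cast : ℤ → ℂ) ((L.col_orth hM b b).trans (if_pos rfl))
    rw [Finset.sum_add_distrib, ← Finset.mul_sum, htr, ← Finset.sum_div, Finset.sum_comm] at hsum
    simp only [hcol, Finset.sum_const, Finset.card_univ, Fintype.card_fin, nsmul_eq_mul, mul_one] at hsum
    rw [← Nat.card_eq_fintype_card, cardB] at hsum
    have h3 : 3 * Cfsg.blockRank 3 (Cfsg.principalBlock M H) + m = 2 * (6 - m) + 6 := by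
      have h := hsum
      rw [mul_div_assoc, div_self (by norm_num : (9 : ℂ) ≠ 0), mul_one] at h
      exact_mod_cast h
    omega
  -- the generators
  let one : Cfsg.principalBlock M H := o.1
  let E : Cfsg.principalBlock M H → Cfsg.principalBlock M H → ℤ := fun x φ => if φ = x then 1 else 0
  let gδ : A → Cfsg.principalBlock M H → ℤ := fun j φ => sg (θ j) * E (θ j) φ - sg (θ' j) * E (θ' j) φ
  let gf : A → Cfsg.principalBlock M H → ℤ := fun j φ =>
    sg (θ j) * E (θ j) φ - (ε (p 0) * E (p 0).1 φ + ε j.1 * E j.1.1 φ)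
  let gv : {u : Fin m // u ≠ 0} → Cfsg.principalBlock M H → ℤ := fun u φ =>
    ε (p u.1) * E (p u.1).1 φ - ε (p 0) * E (p 0).1 φ
  let gc : Cfsg.principalBlock M H → ℤ := fun φ => L.dd 0 φ
  have dotE : ∀ (w : Cfsg.principalBlock M H → ℤ) x, ∑ φ, w φ * E x φ = w x := fun w x => by simp [E]
  have dδ : ∀ (w : Cfsg.principalBlock M H → ℤ) j,
      dot w (gδ j) = sg (θ j) * w (θ j) - sg (θ' j) * w (θ' j) := fun w j => by
    simp only [dot, gδ, mul_sub, mul_left_comm (w _), Finset.sum_sub_distrib, ← Finset.mul_sum, dotE]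
  have df : ∀ (w : Cfsg.principalBlock M H → ℤ) j,
      dot w (gf j) = sg (θ j) * w (θ j) - (ε (p 0) * w (p 0).1 + ε j.1 * w j.1.1) := fun w j => by
    simp only [dot, gf, mul_sub, mul_add, mul_left_comm (w _), Finset.sum_sub_distrib,
      Finset.sum_add_distrib, ← Finset.mul_sum, dotE]
  have dv : ∀ (w : Cfsg.principalBlock M H → ℤ) u,
      dot w (gv u) = ε (p u.1) * w (p u.1).1 - ε (p 0) * w (p 0).1 := fun w u => by
    simp only [dot, gv, mul_sub, mul_left_comm (w _), Finset.sum_sub_distrib, ← Finset.mul_sum, dotE]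
  have cδ : ∀ (F : Cfsg.principalBlock M H → ℂ) j, ∑ φ, (gδ j φ : ℂ) * F φ =
      sg (θ j) * F (θ j) - sg (θ' j) * F (θ' j) := fun F j => by
    simp [gδ, E, sub_mul, Finset.sum_sub_distrib]
  have cf : ∀ (F : Cfsg.principalBlock M H → ℂ) j, ∑ φ, (gf j φ : ℂ) * F φ =
      sg (θ j) * F (θ j) - (ε (p 0) * F (p 0).1 + ε j.1 * F j.1.1) := fun F j => by
    simp [gf, E, sub_mul, add_mul, Finset.sum_sub_distrib, Finset.sum_add_distrib]
  have cv : ∀ (F : Cfsg.principalBlock M H → ℂ) u, ∑ φ, (gv u φ : ℂ) * F φ =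
      ε (p u.1) * F (p u.1).1 - ε (p 0) * F (p 0).1 := fun F u => by
    simp [gv, E, sub_mul, Finset.sum_sub_distrib]
  -- distinctness
  have nTW : ∀ (t : T) (x : Cfsg.principalBlock M H), ¬ lam z x = 1 → t.1 ≠ x :=
    fun t x h e => h (e ▸ t.2)
  have nθ : ∀ i j, θ i ≠ θ' j := fun i j e => by
    have hij : i = j := by rw [← (hθ i).1.2, e, (hθ j).2.2]
    exact hθne j (hij ▸ e)
  have iθ : ∀ {i j}, θ i = θ j ↔ i = j := fun {i j} =>
    ⟨fun e => by rw [← (hθ i).1.2, e, (hθ j).1.2], fun e => e ▸ rfl⟩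
  have iθ' : ∀ {i j}, θ' i = θ' j ↔ i = j := fun {i j} =>
    ⟨fun e => by rw [← (hθ i).2.2, e, (hθ j).2.2], fun e => e ▸ rfl⟩
  have npA : ∀ (b : Fin m) (j : A), (p b).1 ≠ j.1.1 := fun b j e => memA.1 j.2 b (Subtype.ext e)
  have ip : ∀ {b c}, (p b).1 = (p c).1 ↔ b = c :=
    ⟨fun e => hp (Subtype.ext e), fun e => e ▸ rfl⟩
  have iA : ∀ {i j : A}, i.1.1 = j.1.1 ↔ i = j :=
    ⟨fun e => Subtype.ext (Subtype.ext e), fun e => e ▸ rfl⟩
  have sgZ : ∀ x, ¬ lam z x = 1 → sg x * sg x = 1 := fun x h => by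
    rcases hsg x h with e | e <;> rw [e] <;> norm_num
  have nW1 : ∀ j, (p 0).1 ≠ θ j := fun j => nTW _ _ (hθ j).1.1
  refine ⟨{
    I := A
    U := {u : Fin m // u ≠ 0}
    fI := inferInstance, fU := inferInstance, dI := inferInstance, dU := inferInstance
    o := ⟨o, oA⟩
    δ := gδ, f := gf, v := gv, c := gc
    cI := by rw [Fintype.card_coe]; exact cardA
    cU := ?_, hδδ := ?_, hfδ := ?_, hff := ?_, hvδ := ?_, hvf := ?_, hvv := ?_, hcc := ?_,
    hcδ := ?_, hcf := ?_, hcv := ?_, hδ1 := ?_, hf1 := ?_, hv1 := ?_, col := ?_, δ_reg := ?_,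
    f_reg := ?_, v_reg := ?_, c_reg := ?_, span := ?_ }⟩
  · rw [Fintype.card_subtype_compl, Fintype.card_fin, Fintype.card_subtype_eq]
    have := NeZero.ne m
    omega
  · intro i j
    rw [dδ]
    simp only [gδ, E]
    rw [if_neg (Ne.symm (nθ i j)), if_neg (nθ j i)]
    simp only [iθ, iθ', eq_comm (a := j) (b := i)]
    split_ifs with h
    · subst h; linear_combination sgZ _ (hθ i).1.1 + sgZ _ (hθ i).2.1
    · ring
  · intro i j
    rw [dδ]
    simp only [gf, E]
    rw [if_neg (nθ i j).symm, if_neg (nTW _ _ (hθ j).1.1).symm, if_neg (nTW _ _ (hθ j).1.1).symm,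
      if_neg (nTW _ _ (hθ j).2.1).symm, if_neg (nTW _ _ (hθ j).2.1).symm]
    simp only [iθ, eq_comm (a := j) (b := i)]
    split_ifs with h
    · subst h; linear_combination sgZ _ (hθ i).1.1
    · ring
  · intro i j
    rw [df]
    simp only [gf, E]
    rw [if_neg (nTW _ _ (hθ j).1.1).symm, if_neg (nTW _ _ (hθ j).1.1).symm, if_neg (nW1 i),
      if_neg (npA 0 i), if_neg (nTW _ _ (hθ i).1.1), if_neg (npA 0 j).symm]
    simp only [iθ, iA, if_true, eq_comm (a := j) (b := i)]
    split_ifs with h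
    · subst h; linear_combination sgZ _ (hθ i).1.1 + hεε (p 0) + hεε i.1
    · linear_combination hεε (p 0)
  · intro u j
    rw [dδ]
    simp only [gv, E]
    rw [if_neg (nTW _ _ (hθ j).1.1).symm, if_neg (nTW _ _ (hθ j).1.1).symm,
      if_neg (nTW _ _ (hθ j).2.1).symm, if_neg (nTW _ _ (hθ j).2.1).symm]
    ring
  · intro u j
    rw [df]
    simp only [gv, E, ip]
    rw [if_neg (nTW _ _ (hθ j).1.1).symm, if_neg (nTW _ _ (hθ j).1.1).symm,
      if_neg (Ne.symm u.2), if_neg (npA u.1 j).symm, if_neg (npA 0 j).symm, if_pos trivial]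
    linear_combination hεε (p 0)
  · intro u w
    rw [dv]
    simp only [gv, E, ip, if_true]
    rw [if_neg w.2, if_neg (Ne.symm u.2)]
    simp only [← Subtype.ext_iff, eq_comm (a := w) (b := u)]
    split_ifs with h
    · subst h; linear_combination hεε (p u.1) + hεε (p 0)
    · linear_combination hεε (p 0)
  · exact (L.col_orth hM 0 0).trans (if_pos rfl)
  · intro j
    rw [dδ]
    simp only [gc, L.dd_zero (hθ j).1.1, L.dd_zero (hθ j).2.1, mul_zero, sub_zero]
  · intro j
    rw [df]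
    show sg (θ j) * L.dd 0 (θ j) - (ε (p 0) * d 0 (p 0) + ε j.1 * d 0 j.1) = -3
    rw [L.dd_zero (hθ j).1.1, hd 0 (p 0), pat_self, dA 0 j.1 j.2]
    linear_combination -2 * hεε (p 0) - hεε j.1
  · intro u
    rw [dv]
    show ε (p u.1) * d 0 (p u.1) - ε (p 0) * d 0 (p 0) = -3
    rw [hd 0 (p u.1), hd 0 (p 0), pat_self, pat_other hp u.2]
    linear_combination -(hεε (p u.1)) - 2 * hεε (p 0)
  · intro i
    show gδ i o.1 = 0
    simp only [gδ, E]
    rw [if_neg (nTW o _ (hθ i).1.1), if_neg (nTW o _ (hθ i).2.1)]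
    ring
  · intro i
    show gf i o.1 = _
    simp only [gf, E]
    rw [if_neg (nTW o _ (hθ i).1.1), if_neg (npA 0 ⟨o, oA⟩).symm]
    by_cases hio : i = ⟨o, oA⟩
    · subst hio
      rw [if_pos rfl, if_pos rfl, εo]; ring
    · rw [if_neg hio, if_neg fun e : o.1 = i.1.1 => hio (Subtype.ext (Subtype.ext e.symm))]; ring
  · intro u
    show gv u o.1 = 0
    simp only [gv, E]
    rw [if_neg (npA u.1 ⟨o, oA⟩).symm, if_neg (npA 0 ⟨o, oA⟩).symm]
    ring
  · intro φ
    exact (L.dd_spec 0 φ).symm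
  · intro i s hs
    show ∑ φ, (gδ i φ : ℂ) * val φ s = 0
    rw [cδ, hval _ (hθ i).1.1 s hs, hval _ (hθ i).2.1 s hs, (hθ i).1.2, (hθ i).2.2]
    linear_combination ((ε i.1 : ℂ) * val i.1.1 s + (ε (p 0) : ℂ) * val (p 0).1 s) *
      (sgsq _ (hθ i).1.1 - sgsq _ (hθ i).2.1)
  · intro i s hs
    show ∑ φ, (gf i φ : ℂ) * val φ s = 0
    rw [cf, hval _ (hθ i).1.1 s hs, (hθ i).1.2]
    linear_combination ((ε i.1 : ℂ) * val i.1.1 s + (ε (p 0) : ℂ) * val (p 0).1 s) *
      sgsq _ (hθ i).1.1
  · intro u s hs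
    show ∑ φ, (gv u φ : ℂ) * val φ s = 0
    rw [cv]
    have h1 := hrel u.1 s hs
    have h2 := hrel 0 s hs
    rw [d_sum u.1 fun t => val t.1 s, sum_pat hp] at h1
    rw [d_sum 0 fun t => val t.1 s, sum_pat hp] at h2
    linear_combination (1 / 3 : ℂ) * h1 - (1 / 3 : ℂ) * h2
  · intro s hs
    show ∑ φ, (L.dd 0 φ : ℂ) * val φ s = 0
    exact L.col_regular hM 0 hs
  · -- the generators span
    intro w n' hn' hδw hfw hvw hcw
    have zero : ∀ w : Cfsg.principalBlock M H → ℂ, (∀ i, ∑ φ, (gδ i φ : ℂ) * w φ = 0) →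
        (∀ i, ∑ φ, (gf i φ : ℂ) * w φ = 0) → (∀ u, ∑ φ, (gv u φ : ℂ) * w φ = 0) →
        (∑ φ, (gc φ : ℂ) * w φ = 0) → (∀ i, w (θ i) = 0) → ∀ φ, w φ = 0 := by
      intro w h1 h2 h3 h4 h5
      simp only [cδ, cf, cv, h5, mul_zero, zero_sub, neg_eq_zero] at h1 h2 h3
      have hθ'0 : ∀ i, w (θ' i) = 0 := fun i => by
        rcases hsg _ (hθ i).2.1 with e | e <;> simpa [e] using h1 i
      set g0 : ℂ := (ε (p 0) : ℂ) * w (p 0).1 with hg0
      have gP : ∀ b, (ε (p b) : ℂ) * w (p b).1 = g0 := fun b => by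
        rcases eq_or_ne b 0 with rfl | hb
        · rfl
        · exact sub_eq_zero.1 (h3 ⟨b, hb⟩)
      have gA : ∀ i ∈ A, (ε i : ℂ) * w i.1 = -g0 := fun i hi => by
        linear_combination h2 ⟨i, hi⟩
      have g00 : g0 = 0 := by
        have h := (sumTd 0 w).symm.trans h4
        rw [d_sum 0 fun t => w t.1, sum_pat hp] at h
        simp only [gP] at h
        rw [Finset.sum_congr rfl gA, Finset.sum_const, Finset.sum_const, Finset.card_univ,
          Fintype.card_fin, nsmul_eq_mul, nsmul_eq_mul] at h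
        have hc : (A.card : ℂ) + m = 6 := by exact_mod_cast cardA
        linear_combination -(1 / 3 : ℂ) * h - (g0 / 3) * hc
      intro φ
      by_cases hl : lam z φ = 1
      · by_cases hmem : (⟨φ, hl⟩ : T) ∈ A
        · have h := gA _ hmem
          rw [g00, neg_zero] at h
          exact (mul_eq_zero.1 h).resolve_left (Int.cast_ne_zero.2
            (by rcases hε (⟨φ, hl⟩ : T) with e | e <;> omega))
        · obtain ⟨b, -, hb⟩ := Finset.mem_image.1
            (Finset.notMem_compl.1 hmem : (⟨φ, hl⟩ : T) ∈ Finset.univ.image p)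
          have h := gP b
          rw [hb, g00] at h
          exact (mul_eq_zero.1 h).resolve_left (Int.cast_ne_zero.2
            (by rcases hε (⟨φ, hl⟩ : T) with e | e <;> omega))
      · have hmem : φ ∈ Finset.univ.filter (fun x => ¬ lam z x = 1 ∧ idx x = idx φ) := by simp [hl]
        rw [hθset (idx φ), Finset.mem_insert, Finset.mem_singleton] at hmem
        rcases hmem with e | e
        · rw [e]; exact h5 _
        · rw [e]; exact hθ'0 _
    have RC : ∀ (k : Cfsg.principalBlock M H → ℂ), (∀ s, ¬ 3 ∣ orderOf s → comb _ k s = 0) →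
        ∀ x, ∑ φ, k φ * R φ x = 0 := fun k hk x => by
      show ∑ φ, k φ * secM 3 (1 : H) (val φ) (val x) = 0
      refine (secM_comb_left (p := 3) (1 : H) _ k (val x)).symm.trans ?_
      rw [secM_congr (f' := fun _ => (0 : ℂ)) (g' := val x) (fun y hy => hk y (reg1 y hy)) fun _ _ => rfl]
      simp [secM]
    let w' : Cfsg.principalBlock M H → ℂ := fun φ => w φ - ∑ j, 3 * w (θ j) * R φ (θ j)
    have pair : ∀ k : Cfsg.principalBlock M H → ℂ, (∀ s, ¬ 3 ∣ orderOf s → comb _ k s = 0) →
        ∑ φ, k φ * w' φ = ∑ φ, k φ * w φ := fun k hk => by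
      simp only [w', mul_sub, Finset.sum_sub_distrib, sub_eq_self, Finset.mul_sum]
      rw [Finset.sum_comm]
      refine Finset.sum_eq_zero fun j _ => ?_
      rw [Finset.sum_congr rfl fun φ _ => mul_left_comm (k φ) _ _, ← Finset.mul_sum, RC k hk,
        mul_zero]
    have hw' : ∀ φ, w' φ = 0 := by
      refine zero w' (fun i => (pair _ fun s hs => ?_).trans (hδw i))
        (fun i => (pair _ fun s hs => ?_).trans (hfw i))
        (fun u => (pair _ fun s hs => ?_).trans (hvw u))
        ((pair _ fun s hs => ?_).trans hcw) fun i => ?_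
      · show ∑ φ, (gδ i φ : ℂ) * val φ s = 0
        rw [cδ, hval _ (hθ i).1.1 s hs, hval _ (hθ i).2.1 s hs, (hθ i).1.2, (hθ i).2.2]
        linear_combination ((ε i.1 : ℂ) * val i.1.1 s + (ε (p 0) : ℂ) * val (p 0).1 s) *
          (sgsq _ (hθ i).1.1 - sgsq _ (hθ i).2.1)
      · show ∑ φ, (gf i φ : ℂ) * val φ s = 0
        rw [cf, hval _ (hθ i).1.1 s hs, (hθ i).1.2]
        linear_combination ((ε i.1 : ℂ) * val i.1.1 s + (ε (p 0) : ℂ) * val (p 0).1 s) *
          sgsq _ (hθ i).1.1
      · show ∑ φ, (gv u φ : ℂ) * val φ s = 0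
        rw [cv]
        have h1 := hrel u.1 s hs
        have h2 := hrel 0 s hs
        rw [d_sum u.1 fun t => val t.1 s, sum_pat hp] at h1
        rw [d_sum 0 fun t => val t.1 s, sum_pat hp] at h2
        linear_combination (1 / 3 : ℂ) * h1 - (1 / 3 : ℂ) * h2
      · exact L.col_regular hM 0 hs
      · simp only [w', RW _ _ (hθ i).1.1 (hθ _).1.1, (hθ _).1.2, mul_ite, mul_zero,
          Finset.mem_univ, if_true]
        rw [sum_point]
        linear_combination -(w (θ i)) * sgsq _ (hθ i).1.1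
    rw [← pair n' hn']
    exact Finset.sum_eq_zero fun φ _ => by rw [hw' φ, mul_zero]

end Cfsg.Agent.ThreeExtra
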