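import Cfsg.Agent.SmallAbelian.Sections
import Cfsg.Agent.Char.DerivedPrime

/-!
# More on the section projections of a principal block

The projections on class functions, their value at a centraliser with a normal complement, and
their products transferred to the centraliser of the element.
-/

set_option autoImplicit false

namespace Cfsg.Agent.ThreeExtra

open scoped ComplexConjugate
open Cfsg.Agent Cfsg.Agent.Blocks Cfsg.Agent.SmallAbelian

universe u

variable {G : Type u} [Group G] [Fintype G] {p : ℕ} {M : Ideal Cfsg.AlgInt}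

/-- The combination of the members of a set of characters with given coefficients. -/
noncomputable def comb (B : Set (Cfsg.IrrCharacter G)) [Fintype B] (n : B → ℂ) : G → ℂ :=
  fun g => ∑ θ : B, n θ * ((θ : Cfsg.IrrCharacter G) : G → ℂ) g

omit [Fintype G] in
theorem comb_isClassFunction [Finite G] (B : Set (Cfsg.IrrCharacter G)) [Fintype B] (n : B → ℂ) :
    Cfsg.IsClassFunction G (comb B n) := fun g k =>
  Finset.sum_congr rfl fun θ _ => by rw [Char.isClassFunction_of_isIrr θ.1.2 g k]

theorem secM_congr {x : G} {f f' g g' : G → ℂ} (hf : ∀ y, pPartOf p y = x → f y = f' y)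
    (hg : ∀ y, pPartOf p y = x → g y = g' y) : secM p x f g = secM p x f' g' := by
  classical
  simp only [secM]
  congr 1
  exact Finset.sum_congr rfl fun y hy => by
    rw [hf y (Finset.mem_filter.1 hy).2, hg y (Finset.mem_filter.1 hy).2]

theorem secM_sum_left {κ : Type*} (s : Finset κ) (x : G) (a : κ → ℂ) (f : κ → G → ℂ) (g : G → ℂ) :
    secM p x (fun y => ∑ k ∈ s, a k * f k y) g = ∑ k ∈ s, a k * secM p x (f k) g := by
  classical
  simp only [secM, Finset.sum_mul, Finset.mul_sum]
  rw [Finset.sum_comm]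
  exact Finset.sum_congr rfl fun k _ => Finset.sum_congr rfl fun y _ => by ring

theorem secM_sum_right {κ : Type*} (s : Finset κ) (x : G) (a : κ → ℂ) (f : κ → G → ℂ) (g : G → ℂ) :
    secM p x g (fun y => ∑ k ∈ s, a k * f k y) = ∑ k ∈ s, conj (a k) * secM p x g (f k) := by
  rw [← secM_conj, secM_sum_left, map_sum]
  exact Finset.sum_congr rfl fun k _ => by rw [map_mul, secM_conj]

theorem secM_comb_left (x : G) (B : Set (Cfsg.IrrCharacter G)) [Fintype B] (n : B → ℂ) (g : G → ℂ) :
    secM p x (comb B n) g = ∑ θ : B, n θ * secM p x ((θ : Cfsg.IrrCharacter G) : G → ℂ) g :=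
  secM_sum_left _ _ _ _ _

theorem secM_comb_right (x : G) (B : Set (Cfsg.IrrCharacter G)) [Fintype B] (n : B → ℂ) (g : G → ℂ) :
    secM p x g (comb B n) =
      ∑ θ : B, conj (n θ) * secM p x g ((θ : Cfsg.IrrCharacter G) : G → ℂ) :=
  secM_sum_right _ _ _ _ _

open scoped Classical in
/-- The scalar product of class functions, section by section. -/
theorem classInner_eq_sections (hp : p.Prime) {X : Finset G}
    (hX : ∀ g : G, (∃ k : ℕ, orderOf g = p ^ k) → ∃! x, x ∈ X ∧ IsConj g x) {f g : G → ℂ}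
    (hf : Cfsg.IsClassFunction G f) (hg : Cfsg.IsClassFunction G g) :
    Cfsg.classInner f g = ∑ x ∈ X, secM p x f g := by
  have hcl : Cfsg.IsClassFunction G (fun y => f y * conj (g y)) := fun y k => by
    simp only [hf y k, hg y k]
  rw [Cfsg.classInner, sum_by_sections hp hX hcl, Finset.mul_sum]
  refine Finset.sum_congr rfl fun x _ => ?_
  rw [secM, ← Subgroup.card_mul_index (Subgroup.centralizer ({x} : Set G)), Nat.cast_mul]
  have h1 : (Nat.card (Subgroup.centralizer ({x} : Set G)) : ℂ) ≠ 0 :=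
    Nat.cast_ne_zero.2 Nat.card_pos.ne'
  have h2 : ((Subgroup.centralizer ({x} : Set G)).index : ℂ) ≠ 0 :=
    Nat.cast_ne_zero.2 Subgroup.index_ne_zero_of_finite
  field_simp

open scoped Classical in
/-- The section of `x` as a sum over the regular elements of its centraliser. -/
theorem secM_eq_centralizer (hp : p.Prime) {x : G} (hx : ∃ k, orderOf x = p ^ k) (f g : G → ℂ) :
    secM p x f g = (Nat.card (Subgroup.centralizer ({x} : Set G)) : ℂ)⁻¹ *
      ∑ s : Subgroup.centralizer ({x} : Set G),
        if p ∣ orderOf s then 0 else f (x * (s : G)) * conj (g (x * (s : G))) := by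
  classical
  rw [secM, sum_pPart_fiber hp hx]

/-- On the section of an element whose centraliser has a normal complement the members of the
principal block are constant. -/
theorem const_section (hM : Cfsg.IsPModular p M) {x : G}
    (hx : ∃ k, orderOf x = p ^ k)
    (hC : Cfsg.HasNormalPComplement p (Subgroup.centralizer ({x} : Set G))) {χ : Cfsg.IrrCharacter G}
    (hχ : χ ∈ Cfsg.principalBlock M G) {y : G} (hy : pPartOf p y = x) :
    (χ : G → ℂ) y = (χ : G → ℂ) x := by
  have hl : Cfsg.blockRank p (Cfsg.principalBlock M (Subgroup.centralizer ({x} : Set G))) = 1 :=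
    (BlockChar.blockRank_eq_one_iff hM).2 fun ξ hξ w hw =>
      BlockChar.const_of_hasNormalPComplement hM hC hξ hw
  have e := pPartOf_mul_pPrimePartOf hM.1 y
  rw [hy] at e
  have hc : x * pPrimePartOf p y = pPrimePartOf p y * x :=
    hy ▸ (commute_pPartOf_pPrimePartOf (p := p) y).eq
  rw [← e]
  exact apply_mul_of_rank_one hM hx hl hχ hc (not_dvd_orderOf_pPrimePartOf hM.1 y)

/-- The section projection of functions constant on a section with complemented centraliser. -/
theorem secM_of_const (hp : p.Prime) {x : G} (hx : ∃ k, orderOf x = p ^ k)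
    (hC : Cfsg.HasNormalPComplement p (Subgroup.centralizer ({x} : Set G)))
    (Q : Sylow p (Subgroup.centralizer ({x} : Set G))) {f g : G → ℂ}
    (hf : ∀ y, pPartOf p y = x → f y = f x) (hg : ∀ y, pPartOf p y = x → g y = g x) :
    secM p x f g = f x * conj (g x) / (Nat.card Q : ℂ) := by
  classical
  have := Fact.mk hp
  have hcount : Nat.card (Cfsg.pResidual p (Subgroup.centralizer ({x} : Set G))) * Nat.card Q = Nat.card (Subgroup.centralizer ({x} : Set G)) :=
    (Fusion.isComplement'_pResidual hC Q).card_mul_card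
  rw [secM_congr (f' := fun _ => f x) (g' := fun _ => g x) hf hg, secM_eq_centralizer hp hx,
    Finset.sum_congr rfl
      (g := fun s : (Subgroup.centralizer ({x} : Set G)) => if s ∈ Cfsg.pResidual p (Subgroup.centralizer ({x} : Set G)) then f x * conj (g x) else 0) (fun s _ => ?_),
    Finset.sum_ite, Finset.sum_const_zero, add_zero, Finset.sum_const, nsmul_eq_mul,
    ← Fintype.card_subtype, ← Nat.card_eq_fintype_card, ← hcount]
  · have h1 : (Nat.card (Cfsg.pResidual p (Subgroup.centralizer ({x} : Set G))) : ℂ) ≠ 0 := Nat.cast_ne_zero.2 Nat.card_pos.ne'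
    have h2 : (Nat.card Q : ℂ) ≠ 0 := Nat.cast_ne_zero.2 Nat.card_pos.ne'
    push_cast
    field_simp
  · have hiff : s ∈ Cfsg.pResidual p (Subgroup.centralizer ({x} : Set G)) ↔ ¬ p ∣ orderOf s :=
      (Fusion.mem_pResidual_iff hC).trans (BlockChar.coprime_orderOf_iff hp s)
    by_cases hs : p ∣ orderOf s
    · rw [if_pos hs, if_neg (fun h => hiff.1 h hs)]
    · rw [if_neg hs, if_pos (hiff.2 hs)]

open scoped Classical in
/-- The kernel of the principal block on the section of a central element. -/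
noncomputable def kern (p : ℕ) (M : Ideal Cfsg.AlgInt) (z : G) (f g : G → ℂ) : ℂ :=
  (Nat.card G : ℂ)⁻¹ * (Nat.card G : ℂ)⁻¹ * ∑ s : G, ∑ t : G,
    if p ∣ orderOf s ∨ p ∣ orderOf t then 0 else f (z * s) * conj (g (z * t)) *
      ∑ᶠ ψ ∈ Cfsg.principalBlock M G, (ψ : G → ℂ) t * conj ((ψ : G → ℂ) s)

open scoped Classical in
/-- The products of section projections of the principal block only depend on the centraliser. -/
theorem sum_secM_eq_kern (hM : Cfsg.IsPModular p M) {x : G} (hx : ∃ k, orderOf x = p ^ k)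
    (f g : G → ℂ) :
    ∑ᶠ φ ∈ Cfsg.principalBlock M G, secM p x f (φ : G → ℂ) * secM p x (φ : G → ℂ) g =
      kern p M (⟨x, mem_centralizer_iff_comm x x |>.2 rfl⟩ : Subgroup.centralizer ({x} : Set G))
        (fun s : Subgroup.centralizer ({x} : Set G) => f (s : G))
        (fun s : Subgroup.centralizer ({x} : Set G) => g (s : G)) := by
  classical
  have hH : ∀ a : G, a ∈ Subgroup.centralizer ({x} : Set G) ↔ x * a = a * x :=
    fun a => mem_centralizer_iff_comm x a
  rw [finsum_mem_eq_finite_toFinset_sum _ (Set.toFinite _)]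
  simp only [secM_eq_centralizer hM.1 hx, kern, Subgroup.coe_mul]
  rw [Finset.sum_congr rfl fun φ _ => mul_mul_mul_comm (Nat.card (Subgroup.centralizer ({x} : Set G)) : ℂ)⁻¹ _ (Nat.card (Subgroup.centralizer ({x} : Set G)) : ℂ)⁻¹ _, ← Finset.mul_sum]
  congr 1
  simp only [Finset.sum_mul_sum]
  rw [Finset.sum_comm]
  refine Finset.sum_congr rfl fun s _ => ?_
  rw [Finset.sum_comm]
  refine Finset.sum_congr rfl fun t _ => ?_
  by_cases h : p ∣ orderOf s ∨ p ∣ orderOf t
  · rw [if_pos h]
    exact Finset.sum_eq_zero fun φ _ => by rcases h with h | h <;> simp [h]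
  rw [if_neg h]
  rw [not_or] at h
  rw [← inducing_centralizer_singleton hM hx,
    ← section_identity (H := Subgroup.centralizer ({x} : Set G)) hM hx hH
      (isPBlock_principalBlock M) h.2 h.1,
    finsum_mem_eq_finite_toFinset_sum _ (Set.toFinite _), Finset.mul_sum]
  exact Finset.sum_congr rfl fun φ _ => by rw [if_neg h.1, if_neg h.2]; ring

omit [Fintype G] in
theorem centralizer_eq_top {z : G} (hz : z ∈ Subgroup.center G) :
    Subgroup.centralizer ({z} : Set G) = ⊤ := by
  refine eq_top_iff.2 fun g _ => ?_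
  rw [mem_centralizer_iff_comm]
  exact (Subgroup.mem_center_iff.1 hz g).symm

/-- The section of a central element. -/
theorem secM_eq_central (hp : p.Prime) {z : G} (hzc : z ∈ Subgroup.center G)
    (hz : ∃ k, orderOf z = p ^ k) (f g : G → ℂ) :
    secM p z f g = (Nat.card G : ℂ)⁻¹ *
      ∑ s : G, if p ∣ orderOf s then 0 else f (z * s) * conj (g (z * s)) := by
  classical
  have htop := centralizer_eq_top hzc
  rw [secM_eq_centralizer hp hz, htop, Subgroup.card_top]
  congr 1
  refine Fintype.sum_equiv Subgroup.topEquiv.toEquiv _ _ fun s => ?_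
  rw [← Subgroup.orderOf_coe]
  rfl

theorem char_central_mul {χ : Cfsg.IrrCharacter G} {z : G} (hz : z ∈ Subgroup.center G) (s : G) :
    (χ : G → ℂ) (z * s) = (χ : G → ℂ) z / (χ : G → ℂ) 1 * (χ : G → ℂ) s := by
  obtain ⟨n, hn, e⟩ := Char.IsIrr.degree χ.2
  have h1 : (χ : G → ℂ) 1 ≠ 0 := by rw [e]; exact Nat.cast_ne_zero.2 hn.ne'
  rw [Char.classFun_mul_comm (Char.isClassFunction_of_isIrr χ.2), div_mul_eq_mul_div, eq_div_iff h1,
    mul_comm, Char.apply_mul_central χ.2 hz]

omit [Fintype G] in
/-- A central element acts by a root of unity. -/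
theorem central_mul_conj [Finite G] (χ : Cfsg.IrrCharacter G) {z : G} (hz : z ∈ Subgroup.center G) :
    (χ : G → ℂ) z / (χ : G → ℂ) 1 * conj ((χ : G → ℂ) z / (χ : G → ℂ) 1) = 1 := by
  have := Fintype.ofFinite G
  obtain ⟨n, hn, e⟩ := Char.IsIrr.degree χ.2
  have h1 : (χ : G → ℂ) 1 ≠ 0 := by rw [e]; exact Nat.cast_ne_zero.2 hn.ne'
  have h := char_central_mul (χ := χ) hz z⁻¹
  rw [mul_inv_cancel, Char.IsChar.inv_eq_conj (Char.IsIrr.isCharacter χ.2)] at h
  rw [map_div₀, e, Complex.conj_natCast]
  rw [e] at h h1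
  field_simp at h ⊢
  exact h.symm

/-- The products of section projections of a central element. -/
theorem sum_secM_central (hM : Cfsg.IsPModular p M) {z : G} (hzc : z ∈ Subgroup.center G)
    (hz : ∃ k, orderOf z = p ^ k) (f g : G → ℂ) :
    ∑ᶠ φ ∈ Cfsg.principalBlock M G, secM p z f (φ : G → ℂ) * secM p z (φ : G → ℂ) g =
      kern p M z f g := by
  classical
  rw [finsum_mem_eq_finite_toFinset_sum _ (Set.toFinite _)]
  simp only [secM_eq_central hM.1 hzc hz, kern]
  rw [Finset.sum_congr rfl fun φ _ => mul_mul_mul_comm (Nat.card G : ℂ)⁻¹ _ (Nat.card G : ℂ)⁻¹ _, ← Finset.mul_sum]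
  congr 1
  simp only [Finset.sum_mul_sum]
  rw [Finset.sum_comm]
  refine Finset.sum_congr rfl fun s _ => ?_
  rw [Finset.sum_comm]
  refine Finset.sum_congr rfl fun t _ => ?_
  by_cases h : p ∣ orderOf s ∨ p ∣ orderOf t
  · rw [if_pos h]
    exact Finset.sum_eq_zero fun φ _ => by rcases h with h | h <;> simp [h]
  rw [if_neg h]
  rw [not_or] at h
  rw [finsum_mem_eq_finite_toFinset_sum _ (Set.toFinite _), Finset.mul_sum]
  refine Finset.sum_congr rfl fun φ _ => ?_
  rw [if_neg h.1, if_neg h.2, char_central_mul hzc s, char_central_mul hzc t, map_mul]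
  linear_combination (f (z * s) * conj (g (z * t)) * conj ((φ : G → ℂ) s) * (φ : G → ℂ) t) *
    central_mul_conj φ hzc

open scoped Classical in
/-- The section of `x` is a section of its centraliser. -/
theorem secM_centralizer (hp : p.Prime) {x : G} (hx : ∃ k, orderOf x = p ^ k)
    (f g : G → ℂ) :
    secM p x f g = secM p
      (⟨x, mem_centralizer_iff_comm x x |>.2 rfl⟩ : Subgroup.centralizer ({x} : Set G))
      (fun s : Subgroup.centralizer ({x} : Set G) => f (s : G))
      (fun s : Subgroup.centralizer ({x} : Set G) => g (s : G)) := by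
  classical
  rw [secM_eq_central hp (Subgroup.mem_center_iff.2 fun a =>
      Subtype.ext ((mem_centralizer_iff_comm x (a : G)).1 a.2).symm)
    (by obtain ⟨k, hk⟩ := hx; exact ⟨k, by rw [← Subgroup.orderOf_coe]; exact hk⟩),
    secM_eq_centralizer hp hx]
  simp only [Subgroup.coe_mul]

open scoped Classical in
/-- The products at `x` computed in the group and in the centraliser of `x` agree. -/
theorem sum_secM_transfer (hM : Cfsg.IsPModular p M) {x : G} (hx : ∃ k, orderOf x = p ^ k)
    (f g : G → ℂ) :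
    ∑ᶠ φ ∈ Cfsg.principalBlock M G, secM p x f (φ : G → ℂ) * secM p x (φ : G → ℂ) g =
      ∑ᶠ θ ∈ Cfsg.principalBlock M (Subgroup.centralizer ({x} : Set G)),
        secM p (⟨x, mem_centralizer_iff_comm x x |>.2 rfl⟩ : Subgroup.centralizer ({x} : Set G))
          (fun s : Subgroup.centralizer ({x} : Set G) => f (s : G))
          (θ : Subgroup.centralizer ({x} : Set G) → ℂ) *
        secM p (⟨x, mem_centralizer_iff_comm x x |>.2 rfl⟩ : Subgroup.centralizer ({x} : Set G))
          (θ : Subgroup.centralizer ({x} : Set G) → ℂ)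
          (fun s : Subgroup.centralizer ({x} : Set G) => g (s : G)) := by
  rw [sum_secM_eq_kern hM hx, sum_secM_central hM (Subgroup.mem_center_iff.2 fun a =>
      Subtype.ext ((mem_centralizer_iff_comm x (a : G)).1 a.2).symm)
    (by obtain ⟨k, hk⟩ := hx; exact ⟨k, by rw [← Subgroup.orderOf_coe]; exact hk⟩)]

/-- A section projection followed by a value outside the section vanishes. -/
theorem sum_secM_mul_apply (hM : Cfsg.IsPModular p M) {B : Set (Cfsg.IrrCharacter G)}
    (hB : Cfsg.IsPBlock M B) {x h : G} (hxh : ¬ IsConj x (pPartOf p h)) (f : G → ℂ) :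
    ∑ᶠ φ ∈ B, secM p x f (φ : G → ℂ) * (φ : G → ℂ) h = 0 := by
  classical
  rw [finsum_mem_eq_finite_toFinset_sum _ B.toFinite]
  simp only [secM, mul_assoc, ← Finset.mul_sum, Finset.sum_mul]
  rw [Finset.sum_comm]
  refine mul_eq_zero_of_right _ (Finset.sum_eq_zero fun g hg => ?_)
  have hp := hM.1
  have hinv : pPartOf p g⁻¹ = (pPartOf p g)⁻¹ := by
    have hpp := pPartOf_mul_pPrimePartOf hp g
    have hc := (commute_pPartOf_pPrimePartOf (p := p) g).inv_inv
    conv_lhs => rw [show g⁻¹ = (pPartOf p g)⁻¹ * (pPrimePartOf p g)⁻¹ by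
      rw [hc.eq, ← mul_inv_rev, hpp]]
    obtain ⟨k, hk⟩ := orderOf_pPartOf hp g
    exact (parts_mul hp hc ⟨k, by rw [orderOf_inv, hk]⟩
      (by rw [orderOf_inv]; exact not_dvd_orderOf_pPrimePartOf hp g)).1
  have horth := block_orthogonality hM hB g⁻¹ h (by
    rw [hinv, (Finset.mem_filter.1 hg).2]
    intro hc
    obtain ⟨c, hc⟩ := isConj_iff.1 hc
    refine hxh (isConj_iff.2 ⟨c, inv_injective ?_⟩)
    rw [← hc]; group)
  rw [finsum_mem_eq_finite_toFinset_sum _ B.toFinite] at horth
  rw [Finset.sum_congr rfl (g := fun φ : Cfsg.IrrCharacter G =>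
    f g * ((φ : G → ℂ) g⁻¹ * (φ : G → ℂ) h)) (fun φ _ => by
      rw [Char.IsChar.inv_eq_conj (Char.IsIrr.isCharacter φ.2)]),
    ← Finset.mul_sum, horth, mul_zero]

/-- The idempotency of a section projection on combinations of members of the block. -/
theorem secM_mul_self_comb (hM : Cfsg.IsPModular p M) {X : Finset G}
    (hX : ∀ g : G, (∃ k : ℕ, orderOf g = p ^ k) → ∃! x, x ∈ X ∧ IsConj g x)
    {B : Set (Cfsg.IrrCharacter G)} [Fintype B] (hB : Cfsg.IsPBlock M B) {x : G} (hx : x ∈ X)
    (hxp : ∃ k, orderOf x = p ^ k) (n n' : B → ℂ) :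
    ∑ φ : B, secM p x (comb B n) ((φ : Cfsg.IrrCharacter G) : G → ℂ) *
      secM p x ((φ : Cfsg.IrrCharacter G) : G → ℂ) (comb B n') =
      secM p x (comb B n) (comb B n') := by
  classical
  simp only [secM_comb_left, secM_comb_right, Finset.mul_sum, Finset.sum_mul]
  rw [Finset.sum_comm]
  refine Finset.sum_congr rfl fun β _ => ?_
  rw [Finset.sum_comm]
  refine Finset.sum_congr rfl fun α _ => ?_
  rw [← secM_mul_self hM hX hB hx hxp α.1 β.1 β.2, finsum_mem_eq_finite_toFinset_sum _ B.toFinite,
    Finset.sum_subtype (F := inferInstanceAs (Fintype B)) _ (fun φ => B.toFinite.mem_toFinset)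
      (fun φ => secM p x ((α : Cfsg.IrrCharacter G) : G → ℂ) (φ : G → ℂ) *
        secM p x (φ : G → ℂ) ((β : Cfsg.IrrCharacter G) : G → ℂ)),
    Finset.mul_sum, Finset.mul_sum]
  exact Finset.sum_congr rfl fun φ _ => by ring

omit [Fintype G] in
/-- A character value at an element of order dividing 3 conjugate to its inverse is an integer. -/
theorem exists_int_of_cube [Finite G] {χ : G → ℂ} (hχ : Cfsg.IsCharacter G χ) {g : G}
    (hg : g ^ 3 = 1) (hc : IsConj g g⁻¹) : ∃ n : ℤ, χ g = n := by
  classical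
  have hi := Char.IsChar.isIntegral hχ g
  have hcl := Char.classFun_isConj (Char.isClassFunction_of_isCharacter hχ) hc
  obtain ⟨d, ρ, rfl⟩ := hχ
  obtain ⟨μ, b, hb, hμ, hχ⟩ := Char.exists_eigenbasis ρ g
  have h3 : ∀ i, μ i ^ 3 = 1 := fun i => by
    obtain ⟨k, hk⟩ := orderOf_dvd_of_pow_eq_one hg
    rw [hk, pow_mul, hμ i, one_pow]
  have hgg : g⁻¹ = g * g := inv_eq_of_mul_eq_one_left (by rw [← hg, pow_succ, pow_two])
  have hsq : ρ.character (g * g) = ∑ i, μ i * μ i :=
    Char.trace_eq_sum_of_eigenbasis _ b _ fun i => by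
      rw [map_mul, Module.End.mul_apply, hb, map_smul, hb, smul_smul]
  have hsum : ∀ i, 1 + μ i + μ i * μ i = if μ i = 1 then 3 else 0 := fun i => by
    by_cases h : μ i = 1
    · rw [if_pos h, h]; norm_num
    · rw [if_neg h]
      have e : (μ i - 1) * (1 + μ i + μ i * μ i) = 0 := by linear_combination h3 i
      exact (mul_eq_zero.1 e).resolve_left (sub_ne_zero.2 h)
  have h2 : (Fintype.card (Fin (Module.finrank ℂ (Fin d → ℂ))) : ℂ) + ρ.character g + ρ.character g =
      3 * ((Finset.univ.filter fun i => μ i = 1).card : ℂ) := by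
    conv_lhs => arg 2; rw [hcl, hgg, hsq]
    rw [hχ, Fintype.card, Finset.card_eq_sum_ones, Nat.cast_sum, ← Finset.sum_add_distrib,
      ← Finset.sum_add_distrib]
    simp only [Nat.cast_one, hsum, Finset.sum_ite, Finset.sum_const_zero, add_zero, Finset.sum_const,
      nsmul_eq_mul]
    ring
  obtain ⟨k, hk⟩ := Char.exists_int_of_isIntegral_rat
    (q := ((3 * (Finset.univ.filter fun i => μ i = 1).card : ℚ) -
      Fintype.card (Fin (Module.finrank ℂ (Fin d → ℂ)))) / 2) (by
        convert hi using 1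
        push_cast
        linear_combination -(1 / 2 : ℂ) * h2)
  refine ⟨k, ?_⟩
  have hk' := congrArg (fun q : ℚ => (q : ℂ)) hk
  push_cast at hk'
  rw [hk']
  linear_combination (1 / 2 : ℂ) * h2

end Cfsg.Agent.ThreeExtra
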