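import Cfsg.Agent.ThreeExtra.Local

/-!
# From the centraliser of the centre to the whole group

The combinations of the principal block of `H = C(z)` that vanish on the regular elements go
isometrically to the principal block of the group; this determines the invariants of the block.
-/

set_option autoImplicit false

namespace Cfsg.Agent.ThreeExtra

open scoped ComplexConjugate Classical
open Cfsg.Agent Cfsg.Agent.Blocks Cfsg.Agent.SmallAbelian

universe u

variable {G : Type u} [Group G] [Fintype G] {p : ℕ} {M : Ideal Cfsg.AlgInt}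

theorem finsum_block {A : Type*} [AddCommMonoid A] (B : Set (Cfsg.IrrCharacter G)) [Fintype B]
    (F : Cfsg.IrrCharacter G → A) : ∑ᶠ φ ∈ B, F φ = ∑ φ : B, F φ := by
  rw [finsum_mem_eq_finite_toFinset_sum _ (Set.toFinite B)]
  exact Finset.sum_subtype _ (fun φ => Set.Finite.mem_toFinset _) F

theorem classInner_comb (B : Set (Cfsg.IrrCharacter G)) [Fintype B] (n n' : B → ℂ) :
    Cfsg.classInner (comb B n) (comb B n') = ∑ θ : B, n θ * conj (n' θ) := by
  have h1 : ∀ f : G → ℂ, Cfsg.classInner (comb B n) f =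
      ∑ α : B, n α * Cfsg.classInner ((α : Cfsg.IrrCharacter G) : G → ℂ) f := fun f => by
    simp only [Cfsg.classInner, comb, Finset.sum_mul, Finset.mul_sum]
    rw [Finset.sum_comm]
    exact Finset.sum_congr rfl fun α _ => Finset.sum_congr rfl fun s _ => by ring
  have h2 : ∀ α : B, Cfsg.classInner ((α : Cfsg.IrrCharacter G) : G → ℂ) (comb B n') =
      ∑ β : B, conj (n' β) *
        Cfsg.classInner ((α : Cfsg.IrrCharacter G) : G → ℂ) ((β : Cfsg.IrrCharacter G) : G → ℂ) :=
    fun α => by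
    simp only [Cfsg.classInner, comb, map_sum, map_mul, Finset.mul_sum]
    rw [Finset.sum_comm]
    exact Finset.sum_congr rfl fun β _ => Finset.sum_congr rfl fun s _ => by ring
  simp [h1, h2, Char.classInner_irrChar, Subtype.coe_inj]

omit [Fintype G] in
theorem pPartOf_coe {H : Subgroup G} (g : H) : pPartOf p (g : G) = ((pPartOf p g : H) : G) := by
  rw [pPartOf, pPartOf, Subgroup.coe_pow, Subgroup.orderOf_coe]

omit [Fintype G] in
theorem pPartOf_self [Finite G] (hp : p.Prime) {x : G} (hx : ∃ k, orderOf x = p ^ k) :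
    pPartOf p x = x := by
  have h := (parts_mul hp (Commute.one_right x) hx
    (by simp [hp.ne_one] : ¬ p ∣ orderOf (1 : G))).1
  rwa [mul_one] at h

omit [Fintype G] in
theorem isConj_coe {H : Subgroup G} {x y : H} (h : IsConj x y) : IsConj (x : G) (y : G) := by
  obtain ⟨c, hc⟩ := isConj_iff.1 h
  exact isConj_iff.2 ⟨c, by rw [← hc]; rfl⟩

theorem secM_of_eq (hp : p.Prime) {x : G} (hx : ∃ k, orderOf x = p ^ k) {H : Subgroup G}
    [Fintype H] (hH : H = Subgroup.centralizer ({x} : Set G)) (hxH : x ∈ H) (f g : G → ℂ) :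
    secM p x f g = secM p (⟨x, hxH⟩ : H) (fun s : H => f (s : G)) (fun s : H => g (s : G)) := by
  subst hH
  rw [secM_centralizer hp hx f g]
  convert rfl

theorem transfer_of_eq (hM : Cfsg.IsPModular p M) {x : G} (hx : ∃ k, orderOf x = p ^ k)
    {H : Subgroup G} [Fintype H] [Fintype (Cfsg.principalBlock M G)]
    [Fintype (Cfsg.principalBlock M H)] (hH : H = Subgroup.centralizer ({x} : Set G)) (hxH : x ∈ H)
    (f g : G → ℂ) :
    ∑ φ : Cfsg.principalBlock M G, secM p x f ((φ : Cfsg.IrrCharacter G) : G → ℂ) *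
        secM p x ((φ : Cfsg.IrrCharacter G) : G → ℂ) g =
      ∑ θ : Cfsg.principalBlock M H,
        secM p (⟨x, hxH⟩ : H) (fun s : H => f (s : G)) ((θ : Cfsg.IrrCharacter H) : H → ℂ) *
        secM p (⟨x, hxH⟩ : H) ((θ : Cfsg.IrrCharacter H) : H → ℂ) (fun s : H => g (s : G)) := by
  subst hH
  rw [← finsum_block (Cfsg.principalBlock M G)
    (fun φ => secM p x f (φ : G → ℂ) * secM p x (φ : G → ℂ) g), sum_secM_transfer hM hx f g,
    finsum_block]
  convert rfl

theorem blockRank_congr {A B : Subgroup G} (h : A = B) (M : Ideal Cfsg.AlgInt) (p : ℕ) :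
    Cfsg.blockRank p (Cfsg.principalBlock M A) = Cfsg.blockRank p (Cfsg.principalBlock M B) := by
  subst h; rfl

set_option maxHeartbeats 2000000 in
/-- The invariants of the principal block when the inertial index is even. -/
theorem invariants_of_local {m : ℕ} [NeZero m] (hM : Cfsg.IsPModular 3 M) (P : Sylow 3 G) {z : G}
    (hP : (P : Subgroup G) ≤ Subgroup.centralizer ({z} : Set G))
    (hzH : z ∈ Subgroup.centralizer ({z} : Set G))
    (a : Fin m → Subgroup.centralizer ({z} : Set G))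
    (L : LocalHyp (⟨z, hzH⟩ : Subgroup.centralizer ({z} : Set G)) a)
    (hsect : ∀ g : G, (∃ k, orderOf g = 3 ^ k) →
      ∃! x, x ∈ secSet z (fun b => (a b : G)) ∧ IsConj g x)
    (hcomp : ∀ b, Cfsg.HasNormalPComplement 3 (Subgroup.centralizer ({(a b : G)} : Set G)))
    (hsyl : ∀ b, ∀ Q : Sylow 3 (Subgroup.centralizer ({(a b : G)} : Set G)), Nat.card Q = 9) :
    Nat.card (Cfsg.principalBlock M G) = 2 * (6 - m) + 6 ∧
    Nat.card {χ : Cfsg.IrrCharacter G // χ ∈ Cfsg.principalBlock M G ∧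
      Cfsg.blockHeight 3 (Cfsg.principalBlock M G) (χ : G → ℂ) = 0} = 6 ∧
    Cfsg.blockRank 3 (Cfsg.principalBlock M G) = 6 - m := by
  obtain ⟨-, hrankH, ⟨D⟩⟩ := L.structure_block hM
  letI := D.fI
  letI := D.fU
  letI := D.dI
  letI := D.dU
  let zH : Subgroup.centralizer ({z} : Set G) := ⟨z, hzH⟩
  let BH := Cfsg.principalBlock M (Subgroup.centralizer ({z} : Set G))
  let BG := Cfsg.principalBlock M G
  let res : (G → ℂ) → Subgroup.centralizer ({z} : Set G) → ℂ := fun f s => f (s : G)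
  have hB := isPBlock_principalBlock (G := G) M
  have hBH := isPBlock_principalBlock (G := Subgroup.centralizer ({z} : Set G)) M
  have hp : Nat.Prime 3 := Nat.prime_three
  have hX : secSet z (fun b => (a b : G)) = (secSet zH a).image Subtype.val := by
    simp only [secSet, Finset.image_insert, Finset.image_image]
    rfl
  have hpX : ∀ x ∈ secSet zH a, ∃ k, orderOf x = 3 ^ k := fun x hx => by
    simp only [secSet, Finset.mem_insert, Finset.mem_image, Finset.mem_univ, true_and] at hx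
    rcases hx with rfl | rfl | rfl | ⟨b, rfl⟩
    · exact ⟨0, by simp⟩
    · exact L.zp
    · exact ⟨1, by rw [orderOf_inv, L.ord, pow_one]⟩
    · exact L.ap b
  have hpG : ∀ x ∈ secSet zH a, ∃ k, orderOf (x : G) = 3 ^ k := fun x hx => by
    obtain ⟨k, hk⟩ := hpX x hx
    exact ⟨k, by rw [Subgroup.orderOf_coe, hk]⟩
  have memG : ∀ x ∈ secSet zH a, (x : G) ∈ secSet z (fun b => (a b : G)) := fun x hx => by
    rw [hX]; exact Finset.mem_image_of_mem _ hx
  have notConj : ∀ x ∈ secSet zH a, ∀ y ∈ secSet zH a, x ≠ y → ¬ IsConj (x : G) (y : G) :=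
    fun x hx y hy hne hc => by
      obtain ⟨w, -, hu⟩ := hsect (x : G) (hpG x hx)
      exact hne (Subtype.ext ((hu _ ⟨memG x hx, IsConj.refl _⟩).trans (hu _ ⟨memG y hy, hc⟩).symm))
  have memz : zH ∈ secSet zH a := by simp [secSet]
  have memzi : zH⁻¹ ∈ secSet zH a := by simp [secSet]
  have hzG : ∃ k, orderOf z = 3 ^ k := hpG zH memz
  have hHinv : Subgroup.centralizer ({z} : Set G) = Subgroup.centralizer ({z⁻¹} : Set G) := by
    ext g
    rw [Subgroup.mem_centralizer_singleton_iff, Subgroup.mem_centralizer_singleton_iff]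
    exact ⟨fun h => (show Commute g z from h).inv_right.eq,
      fun h => by simpa using (show Commute g z⁻¹ from h).inv_right.eq⟩
  have hresChar : ∀ χ : Cfsg.IrrCharacter G,
      Cfsg.IsCharacter (Subgroup.centralizer ({z} : Set G)) (res (χ : G → ℂ)) := fun χ =>
    Char.isCharacter_res _ (Char.IsIrr.isCharacter χ.2)
  -- the multiplicities
  have hw : ∀ (θ : BH) (χ : BG), ∃ k : ℤ, Cfsg.classInner (val θ) (res (χ.1 : G → ℂ)) = k := fun θ χ =>
    Char.classInner_generalized_int
      (Char.isGeneralized_of_isCharacter (Char.IsIrr.isCharacter θ.1.2))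
      (Char.isGeneralized_of_isCharacter (hresChar χ.1))
  choose wt hwt using hw
  have inner : ∀ (n : BH → ℂ) (χ : BG), ∑ θ, n θ * (wt θ χ : ℂ) =
      ∑ x ∈ secSet zH a, secM 3 x (comb BH n) (res (χ.1 : G → ℂ)) := fun n χ => by
    rw [← classInner_eq_sections hp L.sect (comb_isClassFunction BH n)
      (Char.isClassFunction_of_isCharacter (hresChar χ.1))]
    simp only [← hwt, Cfsg.classInner, comb, val, Finset.mul_sum, Finset.sum_mul]
    rw [Finset.sum_comm]
    exact Finset.sum_congr rfl fun s _ => Finset.sum_congr rfl fun θ _ => by ring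
  -- the functions on the group
  let F : (BH → ℂ) → Subgroup.centralizer ({z} : Set G) → G → ℂ := fun n x g =>
    if x = 1 then 0 else if x = zH ∨ x = zH⁻¹ then
      (if h : g ∈ Subgroup.centralizer ({z} : Set G) then comb BH n ⟨g, h⟩ else 0)
    else comb BH n x
  have ne1 : zH ≠ 1 ∧ zH⁻¹ ≠ 1 := ⟨L.z_ne_one, fun e => L.z_ne_one (inv_eq_one.1 e)⟩
  have Fz : ∀ n x, (x = zH ∨ x = zH⁻¹) → res (F n x) = comb BH n := fun n x hx => funext fun s => by
    have h1 : x ≠ 1 := by
      rcases hx with rfl | rfl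
      exacts [ne1.1, ne1.2]
    simp only [res, F, if_neg h1, if_pos hx, dif_pos s.2]
  have ha3 : ∀ b, ¬ (a b = 1) ∧ ¬ (a b = zH ∨ a b = zH⁻¹) := fun b =>
    ⟨(L.a_out b).1, not_or.2 ⟨(L.a_out b).2.1, (L.a_out b).2.2⟩⟩
  have Fa : ∀ n b g, F n (a b) g = comb BH n (a b) := fun n b g => by
    simp only [F, if_neg (ha3 b).1, if_neg (ha3 b).2]
  have secA : ∀ (n : BH → ℂ) b (f : G → ℂ), (∀ y, pPartOf 3 y = (a b : G) → f y = f (a b : G)) →
      secM 3 (a b) (comb BH n) (res f) = comb BH n (a b) * conj (f (a b : G)) / 9 := fun n b f hf => by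
    rw [secM_of_const hp (L.ap b) (L.comp b) default
      (f := comb BH n) (g := res f)
      (fun y hy => Finset.sum_congr rfl fun θ _ => by
        rw [const_section hM (L.ap b) (L.comp b) θ.2 hy])
      (fun y hy => hf _ (by rw [pPartOf_coe, hy])), L.syl b default]
    norm_num
    exact Or.inl rfl
  have secGa : ∀ b (f g : G → ℂ), (∀ y, pPartOf 3 y = (a b : G) → f y = f (a b : G)) →
      (∀ y, pPartOf 3 y = (a b : G) → g y = g (a b : G)) →
      secM 3 (a b : G) f g = f (a b : G) * conj (g (a b : G)) / 9 := fun b f g hf hg => by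
    rw [secM_of_const hp (hpG _ (L.mem_a b)) (hcomp b) default hf hg, hsyl b default]
    norm_num
  have constG : ∀ b (χ : BG) y, pPartOf 3 y = (a b : G) →
      (χ.1 : G → ℂ) y = (χ.1 : G → ℂ) (a b : G) := fun b χ y hy =>
    const_section hM (hpG _ (L.mem_a b)) (hcomp b) χ.2 hy
  let Van : (BH → ℂ) → Prop := fun n =>
    ∀ s : Subgroup.centralizer ({z} : Set G), ¬ 3 ∣ orderOf s → comb BH n s = 0
  have secOne : ∀ n f, Van n → secM 3 (1 : Subgroup.centralizer ({z} : Set G)) (comb BH n) f = 0 :=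
    fun n f hn => by
      rw [secM_congr (f' := fun _ => (0 : ℂ)) (g' := f)
        (fun y hy => hn y ((pPartOf_eq_one_iff hp _).1 hy)) fun _ _ => rfl]
      simp [secM]
  have F1 : ∀ n g, F n 1 g = 0 := fun n g => if_pos rfl
  have secF : ∀ (n : BH → ℂ), Van n → ∀ x ∈ secSet zH a, ∀ χ : BG,
      secM 3 x (comb BH n) (res (χ.1 : G → ℂ)) = secM 3 (x : G) (F n x) (χ.1 : G → ℂ) := by
    intro n hn x hx χ
    simp only [secSet, Finset.mem_insert, Finset.mem_image, Finset.mem_univ, true_and] at hx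
    rcases hx with rfl | rfl | rfl | ⟨b, rfl⟩
    · rw [secOne n _ hn]
      simp [secM, F1]
    · rw [secM_of_eq hp hzG rfl hzH (F n zH) _, ← Fz n zH (Or.inl rfl)]
    · rw [secM_of_eq hp (hpG _ memzi) hHinv (zH⁻¹).2 (F n zH⁻¹) _, ← Fz n zH⁻¹ (Or.inr rfl)]
    · rw [secA n b _ (constG b χ), secGa b _ _ (fun y _ => by rw [Fa, Fa]) (constG b χ), Fa]
  have colG : ∀ b, ∑ χ : BG, (χ.1 : G → ℂ) (a b : G) * conj ((χ.1 : G → ℂ) (a b : G)) = 9 := fun b => by
    have h := secM_mul_self hM hsect hB (memG _ (L.mem_a b)) (hpG _ (L.mem_a b)) (triv G) (triv G)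
      (triv_mem_principalBlock hM)
    rw [finsum_block] at h
    have e : ∀ χ : BG, secM 3 (a b : G) ((triv G : Cfsg.IrrCharacter G) : G → ℂ) (χ.1 : G → ℂ) *
        secM 3 (a b : G) (χ.1 : G → ℂ) ((triv G : Cfsg.IrrCharacter G) : G → ℂ) =
        (χ.1 : G → ℂ) (a b : G) * conj ((χ.1 : G → ℂ) (a b : G)) / 81 := fun χ => by
      rw [secGa b _ _ (fun _ _ => rfl) (constG b χ), secGa b _ _ (constG b χ) (fun _ _ => rfl)]
      show (1 : ℂ) * _ / 9 * (_ * conj (1 : ℂ) / 9) = _
      rw [map_one]; ring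
    have e' : secM 3 (a b : G) ((triv G : Cfsg.IrrCharacter G) : G → ℂ)
        ((triv G : Cfsg.IrrCharacter G) : G → ℂ) = 1 / 9 := by
      rw [secGa b _ _ (fun _ _ => rfl) fun _ _ => rfl]
      show (1 : ℂ) * conj (1 : ℂ) / 9 = _
      rw [map_one, one_mul]
    change ∑ χ : BG, secM 3 (a b : G) _ (χ.1 : G → ℂ) * secM 3 (a b : G) (χ.1 : G → ℂ) _ = _ at h
    simp only [e, ← Finset.sum_div, e'] at h
    linear_combination 81 * h
  have diag : ∀ n n' : BH → ℂ, Van n → Van n' → ∀ x ∈ secSet zH a,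
      ∑ χ : BG, secM 3 (x : G) (F n x) (χ.1 : G → ℂ) * secM 3 (x : G) (χ.1 : G → ℂ) (F n' x) =
        secM 3 x (comb BH n) (comb BH n') := by
    intro n n' hn hn' x hx
    have hx' := hx
    simp only [secSet, Finset.mem_insert, Finset.mem_image, Finset.mem_univ, true_and] at hx'
    rcases hx' with rfl | rfl | rfl | ⟨b, rfl⟩
    · rw [secOne n _ hn]
      simp [secM, F1]
    · refine (transfer_of_eq hM hzG rfl hzH (F n zH) (F n' zH)).trans ?_
      rw [← secM_mul_self_comb hM L.sect hBH memz L.zp n n',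
        ← Fz n zH (Or.inl rfl), ← Fz n' zH (Or.inl rfl)]
    · refine (transfer_of_eq hM (hpG _ memzi) hHinv (zH⁻¹).2 (F n zH⁻¹) (F n' zH⁻¹)).trans ?_
      rw [← secM_mul_self_comb hM L.sect hBH memzi (hpX _ memzi) n n',
        ← Fz n zH⁻¹ (Or.inr rfl), ← Fz n' zH⁻¹ (Or.inr rfl)]
    · rw [secM_of_const hp (L.ap b) (L.comp b) default (f := comb BH n) (g := comb BH n')
          (fun y hy => Finset.sum_congr rfl fun θ _ => by
            rw [const_section hM (L.ap b) (L.comp b) θ.2 hy])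
          (fun y hy => Finset.sum_congr rfl fun θ _ => by
            rw [const_section hM (L.ap b) (L.comp b) θ.2 hy]), L.syl b default,
        Finset.sum_congr rfl fun χ _ => show
          secM 3 (a b : G) (F n (a b)) (χ.1 : G → ℂ) * secM 3 (a b : G) (χ.1 : G → ℂ) (F n' (a b)) =
            comb BH n (a b) * conj (comb BH n' (a b)) / 81 *
              ((χ.1 : G → ℂ) (a b : G) * conj ((χ.1 : G → ℂ) (a b : G))) by
          rw [secGa b _ _ (fun y _ => by rw [Fa, Fa]) (constG b χ),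
            secGa b _ _ (constG b χ) (fun y _ => by rw [Fa, Fa]), Fa, Fa]
          ring,
        ← Finset.mul_sum, colG b]
      push_cast
      ring
  let τ : (BH → ℤ) → BG → ℤ := fun n χ => ∑ θ, n θ * wt θ χ
  have τC : ∀ (n : BH → ℤ) χ, (τ n χ : ℂ) = ∑ θ, (n θ : ℂ) * (wt θ χ : ℂ) := fun n χ => by
    simp [τ]
  have τF : ∀ (n : BH → ℤ), Van (fun θ => (n θ : ℂ)) → ∀ χ : BG, (τ n χ : ℂ) =
      ∑ x ∈ secSet zH a, secM 3 (x : G) (F (fun θ => (n θ : ℂ)) x) (χ.1 : G → ℂ) := fun n hn χ => by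
    rw [τC, inner]
    exact Finset.sum_congr rfl fun x hx => secF _ hn x hx χ
  -- isometry
  have iso : ∀ n n' : BH → ℤ, Van (fun θ => (n θ : ℂ)) → Van (fun θ => (n' θ : ℂ)) →
      dot (τ n) (τ n') = dot n n' := by
    intro n n' hn hn'
    apply Int.cast_injective (α := ℂ)
    have e1 : ∀ χ : BG, ((τ n χ * τ n' χ : ℤ) : ℂ) = (τ n χ : ℂ) * conj (τ n' χ : ℂ) := fun χ => by
      rw [map_intCast, Int.cast_mul]
    have e2 : ((dot n n' : ℤ) : ℂ) =
        Cfsg.classInner (comb BH fun θ => (n θ : ℂ)) (comb BH fun θ => (n' θ : ℂ)) := by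
      rw [classInner_comb]
      simp only [dot, map_intCast, Int.cast_sum, Int.cast_mul]
    rw [e2, classInner_eq_sections hp L.sect (comb_isClassFunction _ _) (comb_isClassFunction _ _),
      dot, Int.cast_sum, Finset.sum_congr rfl fun χ _ => e1 χ]
    simp only [τF n hn, τF n' hn', map_sum, secM_conj, Finset.sum_mul_sum]
    rw [Finset.sum_comm]
    refine Finset.sum_congr rfl fun x hx => ?_
    rw [Finset.sum_comm, Finset.sum_eq_single x]
    · exact diag _ _ hn hn' x hx
    · intro y hy hyx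
      rw [← finsum_block BG fun φ => secM 3 (x : G) (F (fun θ => (n θ : ℂ)) x) (φ : G → ℂ) *
        secM 3 (y : G) (φ : G → ℂ) (F (fun θ => (n' θ : ℂ)) y)]
      exact secM_mul_secM hM hB (notConj x hx y hy (Ne.symm hyx)) _ _
    · exact fun h => absurd hx h
  -- orthogonality to the degrees
  let deg : BG → ℤ := fun χ => (Cfsg.charDegree (χ.1 : G → ℂ) : ℤ)
  have degC : ∀ χ : BG, (deg χ : ℂ) = (χ.1 : G → ℂ) 1 := fun χ => by
    simp only [deg, Int.cast_natCast]
    exact charDegree_cast (Char.IsIrr.isCharacter χ.1.2)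
  have orth : ∀ n : BH → ℤ, Van (fun θ => (n θ : ℂ)) → dot (τ n) deg = 0 := fun n hn => by
    apply Int.cast_injective (α := ℂ)
    simp only [dot, Int.cast_sum, Int.cast_mul, degC, τF n hn, Finset.sum_mul, Int.cast_zero]
    rw [Finset.sum_comm]
    refine Finset.sum_eq_zero fun x hx => ?_
    by_cases h1 : x = 1
    · subst h1
      simp [secM, F1]
    · rw [← finsum_block BG fun φ => secM 3 (x : G) (F (fun θ => (n θ : ℂ)) x) (φ : G → ℂ) * (φ : G → ℂ) 1]
      refine sum_secM_mul_apply hM hB ?_ _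
      rw [pPartOf_self hp ⟨0, by simp⟩, isConj_one_left]
      exact fun e => h1 (Subtype.ext e)
  -- the trivial character
  let oneG : BG := ⟨triv G, triv_mem_principalBlock hM⟩
  let oneH : BH := ⟨triv _, triv_mem_principalBlock hM⟩
  have τone : ∀ n : BH → ℤ, τ n oneG = n oneH := fun n => by
    have h : ∀ θ, wt θ oneG = if θ = oneH then 1 else 0 := fun θ => by
      apply Int.cast_injective (α := ℂ)
      rw [← hwt]
      refine (Char.classInner_irrChar θ.1 (triv _)).trans ?_
      rw [if_congr (show θ.1 = triv _ ↔ θ = oneH from ⟨fun e => Subtype.ext e, fun e => e ▸ rfl⟩) rfl rfl]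
      push_cast
      rfl
    simp [τ, h]
  -- the column
  have ha0 : ∀ χ : BG, ∃ k : ℤ, (χ.1 : G → ℂ) (a 0 : G) = k := fun χ =>
    exists_int_of_cube (Char.IsIrr.isCharacter χ.1.2)
      (by rw [← Subgroup.coe_pow, ← L.orda 0, pow_orderOf_eq_one]; rfl)
      (isConj_coe (L.ainv 0))
  have τc : ∀ χ : BG, (τ D.c χ : ℂ) = (χ.1 : G → ℂ) (a 0 : G) := fun χ => by
    rw [τC, inner, L.sum_secSet]
    have cval : ∀ y, comb BH (fun θ => (D.c θ : ℂ)) y = ∑ θ : BH, val θ (a 0) * val θ y := fun y => by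
      simp only [comb, D.col]
      rfl
    have cvan : ∀ y, ¬ IsConj (a 0) (pPartOf 3 y)⁻¹ → comb BH (fun θ => (D.c θ : ℂ)) y = 0 := fun y hy => by
      have h := block_orthogonality hM hBH (a 0) y (by rw [pPartOf_self hp (L.ap 0)]; exact hy)
      rw [finsum_block] at h
      exact (cval y).trans h
    have hz0 : ∀ x : Subgroup.centralizer ({z} : Set G), x⁻¹ ∈ secSet zH a → x⁻¹ ≠ a 0 →
        secM 3 x (comb BH fun θ => (D.c θ : ℂ)) (res (χ.1 : G → ℂ)) = 0 := fun x hx hne => by
      rw [secM_congr (f' := fun _ => (0 : ℂ)) (g' := res (χ.1 : G → ℂ))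
        (fun y hy => cvan y (by rw [hy]; exact L.not_isConj (L.mem_a 0) hx (L.ap 0) (Ne.symm hne)))
        fun _ _ => rfl]
      simp [secM]
    have hA : ∀ b, comb BH (fun θ => (D.c θ : ℂ)) (a b) = if b = 0 then 9 else 0 := fun b => by
      rw [cval]
      have h := congrArg (Int.cast : ℤ → ℂ) (L.col_orth hM 0 b)
      push_cast at h
      simp only [L.dd_spec]
      rw [h]
      rcases eq_or_ne b 0 with rfl | hb
      · simp
      · rw [if_neg hb, if_neg (Ne.symm hb)]
    rw [secOne _ _ D.c_reg, hz0 zH memzi fun e => (L.a_out 0).2.2 e.symm,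
      hz0 zH⁻¹ (by rw [inv_inv]; exact memz) fun e => (L.a_out 0).2.1 (by rw [← e, inv_inv]),
      zero_add, zero_add, zero_add,
      Finset.sum_congr rfl fun b _ => secA _ b _ (constG b χ)]
    simp only [hA, ite_mul, zero_mul, ite_div, zero_div, Finset.sum_ite_eq', Finset.mem_univ, if_true]
    obtain ⟨k, hk⟩ := ha0 χ
    rw [hk, map_intCast]
    ring
  -- coverage
  have hne : ∀ χ : BG, (χ.1 : G → ℂ) z ≠ 0 := fun χ => apply_ne_zero_of_not_dvd_index hM
    (fun h => P.not_dvd_index (h.trans (Subgroup.index_dvd_of_le hP))) χ.2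
  have cov : ∀ χ : BG, (∃ i, τ (D.δ i) χ ≠ 0 ∨ τ (D.f i) χ ≠ 0) ∨ (∃ u, τ (D.v u) χ ≠ 0) ∨
      τ D.c χ ≠ 0 := fun χ => by
    by_contra hcon
    simp only [not_or, not_exists, not_not] at hcon
    let nn : BH → ℂ := fun θ => secM 3 zH (res (χ.1 : G → ℂ)) (val θ)
    have hnn : Van nn := fun s hs => by
      show ∑ θ : BH, secM 3 zH (res (χ.1 : G → ℂ)) (val θ) * val θ s = 0
      refine (finsum_block BH fun φ : Cfsg.IrrCharacter (Subgroup.centralizer ({z} : Set G)) =>
        secM 3 zH (res (χ.1 : G → ℂ)) (φ : Subgroup.centralizer ({z} : Set G) → ℂ) *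
          (φ : Subgroup.centralizer ({z} : Set G) → ℂ) s).symm.trans ?_
      refine sum_secM_mul_apply hM hBH ?_ _
      rw [(pPartOf_eq_one_iff hp s).2 hs, isConj_one_left]
      exact L.z_ne_one
    have kill : ∀ n : BH → ℤ, τ n χ = 0 → ∑ θ, (n θ : ℂ) * (wt θ χ : ℂ) = 0 := fun n h => by
      rw [← τC, h, Int.cast_zero]
    have h0 := D.span (fun θ => (wt θ χ : ℂ)) nn hnn (fun i => kill _ (hcon.1 i).1)
      (fun i => kill _ (hcon.1 i).2) (fun u => kill _ (hcon.2.1 u)) (kill _ hcon.2.2)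
    have e : ∀ θ : BH, nn θ * (wt θ χ : ℂ) = ∑ x ∈ secSet zH a,
        nn θ * secM 3 x (val θ) (res (χ.1 : G → ℂ)) := fun θ => by
      rw [← hwt, show Cfsg.classInner (val θ) (res (χ.1 : G → ℂ)) =
          ∑ x ∈ secSet zH a, secM 3 x (val θ) (res (χ.1 : G → ℂ)) from
        classInner_eq_sections hp L.sect (Char.isClassFunction_of_isIrr θ.1.2)
          (Char.isClassFunction_of_isCharacter (hresChar χ.1)), Finset.mul_sum]
    rw [Finset.sum_congr rfl fun θ _ => e θ, Finset.sum_comm,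
      Finset.sum_eq_single zH
        (fun x hx hxz => by
          refine (finsum_block BH fun φ : Cfsg.IrrCharacter (Subgroup.centralizer ({z} : Set G)) =>
            secM 3 zH (res (χ.1 : G → ℂ)) (φ : Subgroup.centralizer ({z} : Set G) → ℂ) *
              secM 3 x (φ : Subgroup.centralizer ({z} : Set G) → ℂ) (res (χ.1 : G → ℂ))).symm.trans ?_
          exact secM_mul_secM hM hBH (L.not_isConj memz hx L.zp (Ne.symm hxz)) _ _)
        (fun h => absurd memz h)] at h0
    have h1 : ∑ φ : BG, secM 3 z (χ.1 : G → ℂ) (φ.1 : G → ℂ) * secM 3 z (φ.1 : G → ℂ) (χ.1 : G → ℂ) = 0 :=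
      (transfer_of_eq hM hzG rfl hzH _ _).trans h0
    rw [← finsum_block BG fun φ => secM 3 z (χ.1 : G → ℂ) (φ : G → ℂ) * secM 3 z (φ : G → ℂ) (χ.1 : G → ℂ),
      secM_mul_self hM hsect hB (memG zH memz) hzG χ.1 χ.1 χ.2] at h1
    obtain ⟨r, -, hr, hpos⟩ := secM_diag (p := 3) z (χ.1 : G → ℂ)
    have h2 := hpos z (pPartOf_self hp hzG) (hne χ)
    rw [hr, Complex.ofReal_eq_zero] at h1
    exact h2.ne' h1
  -- the embedding
  have hIU : Fintype.card D.I + Fintype.card D.U = 5 := by have := D.cI; have := D.cU; omega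
  have h3 : IsEmpty D.U → 3 ≤ Fintype.card D.I := fun h => by
    have := Fintype.card_eq_zero_iff.2 h
    have := D.cI
    have := D.cU
    omega
  obtain ⟨hk, hk6⟩ := embed (deg := deg)
    (fun χ => by simp only [deg]; exact_mod_cast (charDegree_pos χ.1.2).ne') D.o oneG hIU h3
    (fun i => τ (D.δ i)) (fun i => τ (D.f i)) (fun u => τ (D.v u)) (τ D.c)
    (fun i j => (iso _ _ (D.δ_reg i) (D.δ_reg j)).trans (D.hδδ i j))
    (fun i j => (iso _ _ (D.f_reg i) (D.δ_reg j)).trans (D.hfδ i j))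
    (fun i j => (iso _ _ (D.f_reg i) (D.f_reg j)).trans (D.hff i j))
    (fun u j => (iso _ _ (D.v_reg u) (D.δ_reg j)).trans (D.hvδ u j))
    (fun u j => (iso _ _ (D.v_reg u) (D.f_reg j)).trans (D.hvf u j))
    (fun u w => (iso _ _ (D.v_reg u) (D.v_reg w)).trans (D.hvv u w))
    ((iso _ _ D.c_reg D.c_reg).trans D.hcc)
    (fun j => (iso _ _ D.c_reg (D.δ_reg j)).trans (D.hcδ j))
    (fun j => (iso _ _ D.c_reg (D.f_reg j)).trans (D.hcf j))
    (fun u => (iso _ _ D.c_reg (D.v_reg u)).trans (D.hcv u))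
    (fun i => orth _ (D.δ_reg i)) (fun u => orth _ (D.v_reg u))
    (fun i => (τone _).trans (D.hδ1 i)) (fun i => (τone _).trans (D.hf1 i))
    (fun u => (τone _).trans (D.hv1 u))
    (by
      apply Int.cast_injective (α := ℂ)
      rw [τc, Int.cast_one]
      rfl)
    cov
  have hkG : Nat.card BG = 2 * (6 - m) + 6 := by
    rw [Nat.card_eq_fintype_card, hk]
    have := D.cI
    omega
  refine ⟨hkG, ?_, ?_⟩
  · -- heights
    have hmin : sInf ((fun ψ : Cfsg.IrrCharacter G =>
        (Cfsg.charDegree (ψ : G → ℂ)).factorization 3) '' Cfsg.principalBlock M G) = 0 := by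
      refine Nat.sInf_eq_zero.2 (Or.inl ⟨triv G, triv_mem_principalBlock hM, ?_⟩)
      show (Cfsg.charDegree ((triv G : Cfsg.IrrCharacter G) : G → ℂ)).factorization 3 = 0
      rw [show Cfsg.charDegree ((triv G : Cfsg.IrrCharacter G) : G → ℂ) = 1 from
        charDegree_eq (by show (1 : ℂ) = ((1 : ℕ) : ℂ); norm_num)]
      simp
    have hiff : ∀ χ : BG, Cfsg.blockHeight 3 (Cfsg.principalBlock M G) (χ.1 : G → ℂ) = 0 ↔
        ¬ (3 : ℤ) ∣ τ D.c χ := fun χ => by
      have hpos := charDegree_pos χ.1.2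
      rw [Cfsg.blockHeight, hmin, Nat.sub_zero, Nat.factorization_eq_zero_iff]
      have hd : (3 : ℤ) ∣ τ D.c χ - deg χ := by
        refine (memLocalIdeal_intCast_iff hM _).1 ?_
        rw [Int.cast_sub, τc, degC]
        exact memLocalIdeal_char_sub_degree hM (Char.IsIrr.isCharacter χ.1.2) (hpG _ (L.mem_a 0))
      simp only [hp, not_true, false_or, hpos.ne', or_false]
      rw [← Int.natCast_dvd_natCast]
      exact not_congr ⟨fun h => by
          have h' := hd.add (show (3 : ℤ) ∣ deg χ from h)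
          rwa [sub_add_cancel] at h',
        fun h => by
          have h' := h.sub hd
          rwa [sub_sub_cancel] at h'⟩
    have e := Nat.card_congr (Equiv.subtypeSubtypeEquivSubtypeInter
      (fun χ => χ ∈ Cfsg.principalBlock M G)
      (fun χ : Cfsg.IrrCharacter G => Cfsg.blockHeight 3 (Cfsg.principalBlock M G) (χ : G → ℂ) = 0))
    rw [← e, Nat.card_congr (Equiv.subtypeEquivRight hiff), Nat.card_eq_fintype_card, Fintype.card_subtype]
    convert hk6 using 3
  · -- rank
    have h := card_principalBlock_eq hM hsect (by simp [secSet]) fun x hx => by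
      rw [hX, Finset.mem_image] at hx
      obtain ⟨y, hy, rfl⟩ := hx
      exact hpG y hy
    rw [hX, show (1 : G) = ((1 : Subgroup.centralizer ({z} : Set G)) : G) from rfl,
      ← Finset.image_erase Subtype.val_injective, Finset.sum_image fun _ _ _ _ e => Subtype.ext e] at h
    have hsum : ∀ Φ : Subgroup.centralizer ({z} : Set G) → ℕ, ∑ x ∈ (secSet zH a).erase 1, Φ x =
        Φ zH + (Φ zH⁻¹ + ∑ b, Φ (a b)) := fun Φ => by
      have e : ∑ x ∈ secSet zH a, Φ x = Φ 1 + (Φ zH + (Φ zH⁻¹ + ∑ b, Φ (a b))) := L.sum_secSet Φ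
      have e' := Finset.add_sum_erase (secSet zH a) Φ L.mem_one
      omega
    rw [hsum, show ((zH : Subgroup.centralizer ({z} : Set G)) : G) = z from rfl,
      ← blockRank_congr (show Subgroup.centralizer ({z} : Set G) = Subgroup.centralizer
        ({((zH⁻¹ : Subgroup.centralizer ({z} : Set G)) : G)} : Set G) from hHinv) M 3,
      hrankH, Finset.sum_congr rfl fun b _ => (BlockChar.blockRank_eq_one_iff hM).2 fun ξ hξ w hw =>
        BlockChar.const_of_hasNormalPComplement hM (hcomp b) hξ hw,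
      Finset.sum_const, Finset.card_univ, Fintype.card_fin, smul_eq_mul, mul_one, hkG] at h
    have := D.cI
    omega

end Cfsg.Agent.ThreeExtra
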